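import Groth.Agent.Disp.K789.DualBasis
import Mathlib.RingTheory.Spectrum.Prime.FreeLocus
import Mathlib.RingTheory.Flat.LocallyFree

/-!
# Scalar extension `BC g M` versus `B ⊗[A] M`; ranks
-/

set_option autoImplicit false

universe u v w w'

noncomputable section

namespace K789.BCRank

open Dieu K789.DualBasis TensorProduct

variable {A : Type u} {B : Type v} [CommRing A] [CommRing B] (g : A →+* B)

/-- `BC g M` is the base change `B ⊗[A] M` for the algebra structure `g`. -/
theorem nonempty_bcEquiv (M : Type w) [AddCommGroup M] [Module A M] :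
    letI := g.toAlgebra
    Nonempty ((B ⊗[A] M) ≃ₗ[B] BC g M) := by
  letI := g.toAlgebra
  letI : Module A (BC g M) := Module.compHom _ g
  haveI : IsScalarTower A B (BC g M) := ⟨fun a b z => by
    change (a • b) • z = g a • (b • z)
    rw [Algebra.smul_def, mul_smul]; rfl⟩
  have hsm : ∀ (a : A) (z : BC g M), a • z = g a • z := fun _ _ => rfl
  let F : (B ⊗[A] M) →ₗ[B] BC g M := TensorProduct.AlgebraTensorModule.lift
      { toFun := fun b =>
          { toFun := fun x => BC.tmul g b x
            map_add' := fun x y => BC.tmul_add g b x y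
            map_smul' := fun a x => by
              rw [RingHom.id_apply, hsm, ← BC.tmul_mul_apply, BC.smul_tmul, mul_comm] }
        map_add' := fun b c => by
          ext x; exact BC.add_tmul g b c x
        map_smul' := fun b c => by
          ext x
          change BC.tmul g (b • c) x = b • BC.tmul g c x
          rw [BC.smul_tmul, smul_eq_mul] }
  have hF : ∀ b x, F (b ⊗ₜ x) = BC.tmul g b x := fun b x => by
    simp [F]
  let G : BC g M →ₗ[B] (B ⊗[A] M) := BC.lift g
      { toFun := fun x => 1 ⊗ₜ[A] x
        map_add' := fun x y => TensorProduct.tmul_add _ _ _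
        map_smul' := fun a x => by
          rw [← TensorProduct.smul_tmul, TensorProduct.smul_tmul', Algebra.smul_def, smul_eq_mul]; rfl }
  have hG : ∀ b x, G (BC.tmul g b x) = b ⊗ₜ x := fun b x => by
    change BC.lift g _ _ = _
    rw [BC.lift_tmul]
    change b • ((1 : B) ⊗ₜ[A] x) = _
    rw [TensorProduct.smul_tmul', smul_eq_mul, mul_one]
  refine ⟨LinearEquiv.ofLinearMap F G ?_ ?_⟩
  · apply BC.ext
    intro x
    rw [LinearMap.comp_apply, hG, hF]; rfl
  · ext x
    simp [hG, hF]

theorem rankAtStalk_bc (M : Type w) [AddCommGroup M] [Module A M] [Module.Finite A M] [Module.Projective A M]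
    (q : PrimeSpectrum B) :
    Module.rankAtStalk (R := B) (BC g M) q = Module.rankAtStalk (R := A) M (q.comap g) := by
  letI := g.toAlgebra
  obtain ⟨e⟩ := nonempty_bcEquiv g M
  rw [← Module.rankAtStalk_eq_of_equiv e, Module.rankAtStalk_baseChange]
  rfl

end K789.BCRank
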