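import Groth.Agent.Disp.K789.VSharp

/-!
# The dual operator of `V^#` on functionals, and the nilpotence condition
-/

set_option autoImplicit false

universe u v w

noncomputable section

namespace K789.Vdual

open WittVector W4c1extbt610 K789.DispBasic K789.DualBasis K789.DNProj K789.WittComplete Dieu

section General

variable {A : Type u} {B : Type v} [CommRing A] [CommRing B]
variable {M : Type w} [AddCommGroup M] [Module A M]

theorem bcFun_castHom {g g' : A →+* B} (e : g = g') (φ : M →ₗ[A] A) (z : BC g M) :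
    bcFun g' φ (BC.castHom e z) = bcFun g φ z := by
  subst e; rfl

theorem bcFun_push {C : Type*} [CommRing C] (g : A →+* B) (h : B →+* C) (φ : M →ₗ[A] A) (z : BC g M) :
    bcFun (h.comp g) φ (BC.push g h z) = h (bcFun g φ z) := by
  induction z using BC.induction_on g with
  | zero => simp
  | tmul b x => simp
  | add z₁ z₂ h₁ h₂ => rw [map_add, map_add, h₁, h₂, map_add, map_add]

end General

variable {p : ℕ} [hp : Fact p.Prime] {R : Type u} [CommRing R]
variable {P : Type v} [AddCommGroup P] [Module (WittVector p R) P]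

local notation "σ" => (WittVector.frobenius : WittVector p R →+* WittVector p R)

/-- The dual operator: `φ ↦ (1 ⊗ φ) ∘ V^#`. -/
def Vd (Vs : P →ₗ[WittVector p R] BC σ P) (φ : P →ₗ[WittVector p R] WittVector p R) :
    P →ₗ[WittVector p R] WittVector p R :=
  (bcFun σ φ).comp Vs

theorem Vd_apply (Vs : P →ₗ[WittVector p R] BC σ P) (φ : P →ₗ[WittVector p R] WittVector p R) (x : P) :
    Vd Vs φ x = bcFun σ φ (Vs x) := rfl

theorem bcFun_add {A : Type u} {B : Type v} [CommRing A] [CommRing B]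
    {M : Type w} [AddCommGroup M] [Module A M] (g : A →+* B) (φ ψ : M →ₗ[A] A) :
    bcFun g (φ + ψ) = bcFun g φ + bcFun g ψ := by
  apply BC.ext; intro x; simp

theorem bcFun_smul {A : Type u} {B : Type v} [CommRing A] [CommRing B]
    {M : Type w} [AddCommGroup M] [Module A M] (g : A →+* B) (a : A) (φ : M →ₗ[A] A) :
    bcFun g (a • φ) = g a • bcFun g φ := by
  apply BC.ext; intro x; simp

theorem Vd_add (Vs : P →ₗ[WittVector p R] BC σ P) (φ ψ : P →ₗ[WittVector p R] WittVector p R) :
    Vd Vs (φ + ψ) = Vd Vs φ + Vd Vs ψ := by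
  ext x; simp [Vd_apply, bcFun_add]

theorem Vd_smul (Vs : P →ₗ[WittVector p R] BC σ P) (a : WittVector p R)
    (φ : P →ₗ[WittVector p R] WittVector p R) :
    Vd Vs (a • φ) = WittVector.frobenius a • Vd Vs φ := by
  ext x; simp [Vd_apply, bcFun_smul]

theorem Vd_zero (Vs : P →ₗ[WittVector p R] BC σ P) : Vd Vs 0 = 0 := by
  have := Vd_smul Vs 0 0
  simpa using this

theorem Vd_sum (Vs : P →ₗ[WittVector p R] BC σ P) {ι : Type*} (s : Finset ι)
    (φ : ι → (P →ₗ[WittVector p R] WittVector p R)) :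
    Vd Vs (∑ i ∈ s, φ i) = ∑ i ∈ s, Vd Vs (φ i) := by
  classical
  induction s using Finset.induction_on with
  | empty => simp [Vd_zero]
  | insert a s ha ih => rw [Finset.sum_insert ha, Finset.sum_insert ha, Vd_add, ih]

theorem iterate_Vd_sum_smul (Vs : P →ₗ[WittVector p R] BC σ P) {ι : Type*} (s : Finset ι)
    (a : ι → WittVector p R) (φ : ι → (P →ₗ[WittVector p R] WittVector p R)) (n : ℕ) :
    (Vd Vs)^[n] (∑ i ∈ s, a i • φ i) = ∑ i ∈ s, (WittVector.frobenius)^[n] (a i) • (Vd Vs)^[n] (φ i) := by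
  induction n with
  | zero => rfl
  | succ n ih =>
    rw [Function.iterate_succ_apply', ih, Vd_sum]
    refine Finset.sum_congr rfl fun i _ => ?_
    rw [Vd_smul, Function.iterate_succ_apply', Function.iterate_succ_apply']

theorem Vd_apply_Vinv {D : Display3n p R P} {Vs : P →ₗ[WittVector p R] BC σ P} (h : IsVSharp D Vs)
    (φ : P →ₗ[WittVector p R] WittVector p R) (y : D.Q) :
    Vd Vs φ (D.Vinv y) = WittVector.frobenius (φ (y : P)) := by
  have h1 := h.app_smul_Vinv 1 y
  rw [one_smul] at h1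
  rw [Vd_apply, h1, bcFun_tmul, one_mul]

theorem Vd_apply_F {D : Display3n p R P} {Vs : P →ₗ[WittVector p R] BC σ P} (h : IsVSharp D Vs)
    (φ : P →ₗ[WittVector p R] WittVector p R) (x : P) :
    Vd Vs φ (D.F x) = (p : WittVector p R) * WittVector.frobenius (φ x) := by
  have h1 := h.app_smul_F 1 x
  rw [one_smul] at h1
  rw [Vd_apply, h1, map_smul, bcFun_tmul, one_mul, smul_eq_mul]

/-- A functional `ψ` with `ψ (V⁻¹ y) = σ (φ y)` is `Vd φ`. -/
theorem eq_Vd {D : Display3n p R P} {Vs : P →ₗ[WittVector p R] BC σ P} (h : IsVSharp D Vs)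
    (φ ψ : P →ₗ[WittVector p R] WittVector p R)
    (hψ : ∀ y : D.Q, ψ (D.Vinv y) = WittVector.frobenius (φ (y : P))) : ψ = Vd Vs φ := by
  apply LinearMap.ext_on_range (v := fun y : D.Q => D.Vinv y)
  · exact D.span_range_Vinv
  · intro y
    rw [hψ, Vd_apply_Vinv h]

theorem bcFun_vSharpPow (Vs : P →ₗ[WittVector p R] BC σ P)
    (φ : P →ₗ[WittVector p R] WittVector p R) (n : ℕ) (x : P) :
    bcFun (σ ^ (n + 1)) φ (vSharpPow Vs n x) = (Vd Vs)^[n + 1] φ x := by
  induction n generalizing x with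
  | zero =>
    rw [vSharpPow_zero_apply, bcFun_castHom]; rfl
  | succ n ih =>
    rw [vSharpPow_succ_apply, bcFun_castHom, Function.iterate_succ_apply', Vd_apply]
    generalize Vs x = y
    induction y using BC.induction_on with
    | zero => simp
    | tmul w y =>
      rw [BC.map_tmul, BC.lift_tmul, map_smul, bcFun_push, ih, bcFun_tmul, smul_eq_mul]
    | add z₁ z₂ h₁ h₂ => rw [map_add, map_add, map_add, h₁, h₂, map_add]

theorem vSharpPow_mem_iff [Module.Finite (WittVector p R) P] [Module.Projective (WittVector p R) P]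
    (Vs : P →ₗ[WittVector p R] BC σ P) (n : ℕ) (𝔠 : Ideal (WittVector p R)) (x : P) :
    vSharpPow Vs n x ∈ 𝔠 • (⊤ : Submodule (WittVector p R) (BC (σ ^ (n + 1)) P)) ↔
      ∀ φ : P →ₗ[WittVector p R] WittVector p R, (Vd Vs)^[n + 1] φ x ∈ 𝔠 := by
  constructor
  · intro h φ
    rw [← bcFun_vSharpPow]
    exact apply_mem_of_mem_smul_top h _
  · intro h
    obtain ⟨b⟩ := exists_db (A := WittVector p R) (M := P)
    rw [(b.bc (σ ^ (n + 1))).mem_smul_top_iff]
    intro i
    change bcFun (σ ^ (n + 1)) (b.f i) _ ∈ 𝔠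
    rw [bcFun_vSharpPow]
    exact h _

/-- The ideal `I_R + pW`. -/
def J (p : ℕ) [Fact p.Prime] (R : Type u) [CommRing R] : Ideal (WittVector p R) :=
  IV p R ⊔ Ideal.span {(p : WittVector p R)}

theorem isVNilpotent_iff [Module.Finite (WittVector p R) P] [Module.Projective (WittVector p R) P]
    (Vs : P →ₗ[WittVector p R] BC σ P) :
    IsVNilpotent Vs ↔ ∃ n : ℕ, ∀ (φ : P →ₗ[WittVector p R] WittVector p R) (x : P),
      (Vd Vs)^[n + 1] φ x ∈ J p R := by
  constructor
  · rintro ⟨n, hn⟩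
    exact ⟨n, fun φ x => (vSharpPow_mem_iff Vs n _ x).1 (hn x) φ⟩
  · rintro ⟨n, hn⟩
    exact ⟨n, fun x => (vSharpPow_mem_iff Vs n _ x).2 fun φ => hn φ x⟩

theorem frobenius_mem_span_p_of_mem_J {x : WittVector p R} (hx : x ∈ J p R) :
    WittVector.frobenius x ∈ Ideal.span {(p : WittVector p R)} := by
  obtain ⟨a, ha, b, hb, rfl⟩ := Submodule.mem_sup.1 hx
  obtain ⟨w, rfl⟩ := mem_IV_iff_exists.1 ha
  obtain ⟨c, rfl⟩ := Ideal.mem_span_singleton.1 hb
  rw [map_add, frobenius_verschiebung, map_mul, map_natCast]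
  exact Ideal.add_mem _ (Ideal.mul_mem_left _ _ (Ideal.mem_span_singleton_self _))
    (Ideal.mul_mem_right _ _ (Ideal.mem_span_singleton_self _))

theorem iterate_frobenius_mem_span_p {x : WittVector p R} (hx : x ∈ J p R) {n : ℕ} (hn : 0 < n) :
    (WittVector.frobenius)^[n] x ∈ Ideal.span {(p : WittVector p R)} := by
  obtain ⟨n, rfl⟩ : ∃ m, n = m + 1 := ⟨n - 1, by omega⟩
  clear hn
  induction n with
  | zero => exact frobenius_mem_span_p_of_mem_J hx
  | succ n ih =>
    rw [Function.iterate_succ_apply']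
    exact frobenius_mem_span_p_of_mem_J (Submodule.mem_sup_right ih)

/-- Nilpotence implies topological nilpotence. -/
theorem iterate_Vd_mem [Module.Finite (WittVector p R) P] [Module.Projective (WittVector p R) P]
    (Vs : P →ₗ[WittVector p R] BC σ P) {m : ℕ} (hm : 0 < m)
    (h : ∀ (φ : P →ₗ[WittVector p R] WittVector p R) (x : P), (Vd Vs)^[m] φ x ∈ J p R) (k : ℕ) :
    ∀ (φ : P →ₗ[WittVector p R] WittVector p R) (x : P),
      (Vd Vs)^[m * (k + 1)] φ x ∈ Ideal.span {(p : WittVector p R) ^ k} := by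
  obtain ⟨b⟩ := exists_db (A := WittVector p R) (M := P)
  induction k with
  | zero => intro φ x; simp
  | succ k ih =>
    intro φ x
    have h1 : (Vd Vs)^[m] φ = ∑ i, (Vd Vs)^[m] φ (b.e i) • b.f i := by
      ext1 x
      rw [LinearMap.sum_apply, b.functional_eq ((Vd Vs)^[m] φ) x]
      refine Finset.sum_congr rfl fun i _ => ?_
      rw [LinearMap.smul_apply, smul_eq_mul, smul_eq_mul, mul_comm]
    rw [show m * (k + 1 + 1) = m * (k + 1) + m by ring, Function.iterate_add_apply, h1,
      iterate_Vd_sum_smul, LinearMap.sum_apply]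
    refine Ideal.sum_mem _ fun i _ => ?_
    rw [LinearMap.smul_apply, smul_eq_mul, pow_succ', ← Ideal.span_singleton_mul_span_singleton]
    exact Ideal.mul_mem_mul (iterate_frobenius_mem_span_p (h φ _) (by positivity)) (ih _ x)

end K789.Vdual
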