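import Groth.Agent.Disp.K789.OfProj
import Groth.Agent.Disp.K789.Vdual
import Mathlib.RingTheory.Flat.FaithfullyFlat.Basic

/-!
# Base change of 3n-displays
-/

set_option autoImplicit false

universe u v w

noncomputable section

namespace K789.DispBC

open WittVector W4c1extbt610 K789.DispBasic K789.DualBasis K789.DNProj K789.OfProj K789.Vdual Dieu

variable {p : ℕ} [hp : Fact p.Prime] {S R : Type u} [CommRing S] [CommRing R]
variable {P : Type v} [AddCommGroup P] [Module (WittVector p S) P]

theorem frobenius_map (f : S →+* R) (x : WittVector p S) :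
    WittVector.frobenius (WittVector.map f x) = WittVector.map f (WittVector.frobenius x) :=
  ((frobenius_isPoly p).map f x).symm

theorem frobenius_comp_map (f : S →+* R) :
    (WittVector.frobenius : WittVector p R →+* WittVector p R).comp (WittVector.map f) =
      (WittVector.map f).comp (WittVector.frobenius : WittVector p S →+* WittVector p S) :=
  RingHom.ext fun x => frobenius_map f x

theorem map_mem_IV_iff {f : S →+* R} {x : WittVector p S} :
    WittVector.map f x ∈ IV p R ↔ f (x.coeff 0) = 0 := by
  rw [mem_IV_iff_coeff_zero, WittVector.map_coeff]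

theorem comap_IV_of_injective {f : S →+* R} (hf : Function.Injective f) :
    (IV p R).comap (WittVector.map f) = IV p S := by
  ext x
  rw [Ideal.mem_comap, map_mem_IV_iff, mem_IV_iff_coeff_zero, map_eq_zero_iff f hf]

/-- The functional on `P / Q` given by a functional on `P` carrying `Q` to `I_S`. -/
def quotFun (f : S →+* R) (Q : Submodule (WittVector p S) P) (φ : P →ₗ[WittVector p S] WittVector p S)
    (hφ : ∀ x ∈ Q, φ x ∈ IV p S) :
    (P ⧸ Q) →ₛₗ[(WittVector.constantCoeff : WittVector p R →+* R).comp (WittVector.map f)] R :=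
  Q.liftQ ((semilinearOfRingHom ((WittVector.constantCoeff : WittVector p R →+* R).comp
      (WittVector.map f))).comp φ) (by
    intro x hx
    rw [LinearMap.mem_ker, LinearMap.comp_apply, semilinearOfRingHom_apply, RingHom.comp_apply]
    change (WittVector.map f (φ x)).coeff 0 = 0
    rw [WittVector.map_coeff, mem_IV_iff_coeff_zero.1 (hφ x hx), map_zero])

theorem quotFun_mkQ (f : S →+* R) (Q : Submodule (WittVector p S) P) (φ : P →ₗ[WittVector p S] WittVector p S)
    (hφ : ∀ x ∈ Q, φ x ∈ IV p S) (x : P) :
    quotFun f Q φ hφ (Q.mkQ x) = (WittVector.map f (φ x)).coeff 0 := rfl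

theorem lift_quotFun_bcQuotMap (f : S →+* R) (Q : Submodule (WittVector p S) P)
    (φ : P →ₗ[WittVector p S] WittVector p S) (hφ : ∀ x ∈ Q, φ x ∈ IV p S)
    (z : BC (WittVector.map f : WittVector p S →+* WittVector p R) P) :
    BC.lift _ (quotFun f Q φ hφ) (bcQuotMap f Q z) =
      (bcFun (WittVector.map f : WittVector p S →+* WittVector p R) φ z).coeff 0 := by
  induction z using BC.induction_on with
  | zero => simp
  | tmul w x =>
    rw [bcQuotMap_tmul, BC.lift_tmul, quotFun_mkQ, bcFun_tmul, WittVector.mul_coeff_zero]
    rfl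
  | add z₁ z₂ h₁ h₂ => rw [map_add, map_add, h₁, h₂, map_add, WittVector.add_coeff_zero]

/-- `Q_R` in terms of a normal projector. -/
theorem mem_ker_bcQuotMap_iff (f : S →+* R) {D : Display3n p S P} (N : NProj D)
    (z : BC (WittVector.map f : WittVector p S →+* WittVector p R) P) :
    z ∈ LinearMap.ker (bcQuotMap f D.Q) ↔
      BC.map (WittVector.map f : WittVector p S →+* WittVector p R) N.π z ∈
        IV p R • (⊤ : Submodule (WittVector p R) (BC (WittVector.map f : WittVector p S →+* WittVector p R) P)) := by
  have := D.finite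
  have := D.projective
  obtain ⟨b⟩ := exists_db (A := WittVector p S) (M := P)
  have key : ∀ i, bcFun (WittVector.map f : WittVector p S →+* WittVector p R) (b.f i)
      (BC.map (WittVector.map f : WittVector p S →+* WittVector p R) N.π z) =
      bcFun (WittVector.map f : WittVector p S →+* WittVector p R) ((b.f i).comp N.π) z := by
    intro i
    induction z using BC.induction_on with
    | zero => simp
    | tmul w x => simp
    | add z₁ z₂ h₁ h₂ => rw [map_add, map_add, h₁, h₂, map_add]
  rw [(b.bc (WittVector.map f : WittVector p S →+* WittVector p R)).mem_smul_top_iff, LinearMap.mem_ker]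
  change _ ↔ ∀ i, bcFun (WittVector.map f : WittVector p S →+* WittVector p R) (b.f i)
      (BC.map (WittVector.map f : WittVector p S →+* WittVector p R) N.π z) ∈ IV p R
  simp_rw [key, mem_IV_iff_coeff_zero]
  constructor
  · intro h i
    rw [← lift_quotFun_bcQuotMap f D.Q ((b.f i).comp N.π)
      (fun x hx => apply_mem_of_mem_smul_top ((N.mem_Q x).1 hx) _), h, map_zero]
  · intro h
    have h2 : bcQuotMap f D.Q z = ∑ i, (WittVector.constantCoeff
        (bcFun (WittVector.map f : WittVector p S →+* WittVector p R) ((b.f i).comp N.π) z)) •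
        BC.tmul ((WittVector.constantCoeff : WittVector p R →+* R).comp (WittVector.map f)) 1
          (D.Q.mkQ (b.e i)) := by
      clear h key
      induction z using BC.induction_on with
      | zero => simp
      | tmul w x =>
        rw [bcQuotMap_tmul]
        have h1 : D.Q.mkQ x = ∑ i, b.f i (N.π x) • D.Q.mkQ (b.e i) := by
          have h3 : D.Q.mkQ x = D.Q.mkQ (N.π x) := by
            rw [← sub_eq_zero, ← map_sub, Submodule.mkQ_apply, Submodule.Quotient.mk_eq_zero]
            exact N.sub_mem x
          rw [h3]
          conv_lhs => rw [← b.h (N.π x)]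
          rw [map_sum]
          simp_rw [map_smul]
        rw [h1]
        have h4 : ∀ s : Finset (Fin b.n), BC.tmul ((WittVector.constantCoeff : WittVector p R →+* R).comp
            (WittVector.map f : WittVector p S →+* WittVector p R)) (WittVector.constantCoeff w)
            (∑ i ∈ s, b.f i (N.π x) • D.Q.mkQ (b.e i)) =
            ∑ i ∈ s, BC.tmul ((WittVector.constantCoeff : WittVector p R →+* R).comp
            (WittVector.map f : WittVector p S →+* WittVector p R)) (WittVector.constantCoeff w)
              (b.f i (N.π x) • D.Q.mkQ (b.e i)) := by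
          intro s
          classical
          induction s using Finset.induction_on with
          | empty => simp
          | insert a s ha ih => rw [Finset.sum_insert ha, Finset.sum_insert ha, BC.tmul_add, ih]
        rw [h4]
        refine Finset.sum_congr rfl fun i _ => ?_
        rw [bcFun_tmul, BC.smul_tmul, mul_one, ← BC.tmul_mul_apply, map_mul]
        rfl
      | add z₁ z₂ h₁ h₂ =>
        rw [map_add, h₁, h₂, ← Finset.sum_add_distrib]
        simp_rw [map_add, add_smul]
    rw [h2]
    refine Finset.sum_eq_zero fun i _ => ?_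
    have h3 : WittVector.constantCoeff
        (bcFun (WittVector.map f : WittVector p S →+* WittVector p R) ((b.f i).comp N.π) z) = 0 := h i
    rw [h3, zero_smul]

/-- The normal projector of a base change. -/
def bcNProj (f : S →+* R) {D : Display3n p S P} (N : NProj D)
    {DR : Display3n p R (BC (WittVector.map f : WittVector p S →+* WittVector p R) P)}
    (hDR : DR.Q = LinearMap.ker (bcQuotMap f D.Q)) : NProj DR where
  π := BC.map (WittVector.map f : WittVector p S →+* WittVector p R) N.π
  idem z := by
    rw [← map_comp_apply]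
    congr 2
    ext x
    exact N.idem x
  mem_Q z := by
    rw [hDR]; exact mem_ker_bcQuotMap_iff f N z

/-- Existence of the base change. -/
def bcDisplay (f : S →+* R) {D : Display3n p S P} (N : NProj D) (b : DB (WittVector p S) P) :
    Display3n p R (BC (WittVector.map f : WittVector p S →+* WittVector p R) P) :=
  ofProj (b.bc (WittVector.map f : WittVector p S →+* WittVector p R))
    (BC.map (WittVector.map f : WittVector p S →+* WittVector p R) N.π)
    (bcSemi (WittVector.map f : WittVector p S →+* WittVector p R) (frobenius_comp_map f) N.Φ)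
    (by
      intro z
      rw [← map_comp_apply]
      congr 2
      ext x
      exact N.idem x)
    (by
      rw [eq_top_iff, ← span_tmul_one (WittVector.map f : WittVector p S →+* WittVector p R) (M := P),
        Submodule.span_le]
      rintro _ ⟨x, rfl⟩
      have hx : x ∈ Submodule.span (WittVector p S) (Set.range N.Φ) := by
        rw [N.span_range_Φ]; trivial
      change BC.tmul _ 1 x ∈ _
      refine Submodule.span_induction (p := fun x _ => BC.tmul
        (WittVector.map f : WittVector p S →+* WittVector p R) 1 x ∈ Submodule.span (WittVector p R)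
          (Set.range (bcSemi (WittVector.map f : WittVector p S →+* WittVector p R)
            (frobenius_comp_map f) N.Φ))) ?_ ?_ ?_ ?_ hx
      · rintro _ ⟨y, rfl⟩
        refine Submodule.subset_span ⟨BC.tmul _ 1 y, ?_⟩
        rw [bcSemi_tmul, map_one]
      · rw [BC.tmul_zero]; exact Submodule.zero_mem _
      · intro x y _ _ hx hy
        rw [BC.tmul_add]; exact Submodule.add_mem _ hx hy
      · intro a x _ hx
        rw [← BC.tmul_apply_eq, BC.tmul_eq_smul_tmul_one]; exact Submodule.smul_mem _ _ hx)

theorem bcDisplay_F_tmul (f : S →+* R) {D : Display3n p S P} (N : NProj D) (b : DB (WittVector p S) P)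
    (w : WittVector p R) (x : P) :
    (bcDisplay f N b).F (BC.tmul (WittVector.map f : WittVector p S →+* WittVector p R) w x) =
      BC.tmul (WittVector.map f : WittVector p S →+* WittVector p R) (WittVector.frobenius w) (D.F x) := by
  change Fof _ _ _ = _
  rw [Fof_apply', BC.map_tmul, sub_eq_add_neg, ← BC.tmul_neg, ← BC.tmul_add, bcSemi_tmul, bcSemi_tmul,
    BC.smul_tmul, mul_comm, ← map_natCast (WittVector.map f : WittVector p S →+* WittVector p R) p,
    BC.tmul_mul_apply, ← BC.tmul_add, ← sub_eq_add_neg, N.F_eq, map_add, LinearMap.map_smulₛₗ,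
    map_natCast]

theorem tmul_mem_bcQ (f : S →+* R) {D : Display3n p S P}
    {DR : Display3n p R (BC (WittVector.map f : WittVector p S →+* WittVector p R) P)}
    (hDR : DR.Q = LinearMap.ker (bcQuotMap f D.Q)) (w : WittVector p R) {y : P} (hy : y ∈ D.Q) :
    BC.tmul (WittVector.map f : WittVector p S →+* WittVector p R) w y ∈ DR.Q := by
  obtain ⟨N⟩ := exists_nproj D
  rw [hDR, mem_ker_bcQuotMap_iff f N, BC.map_tmul, BC.tmul_eq_smul_tmul_one]
  refine Submodule.smul_mem _ _ ?_
  have := D.finite
  have := D.projective
  rw [tmul_one_mem_iff]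
  refine Submodule.smul_mono_left ?_ ((N.mem_Q y).1 hy)
  intro a ha
  rw [Ideal.mem_comap, map_mem_IV_iff, mem_IV_iff_coeff_zero.1 ha, map_zero]

theorem Vinv_congr {D : Display3n p S P} {x y : P} (h : x = y) (hx : x ∈ D.Q) :
    D.Vinv ⟨x, hx⟩ = D.Vinv ⟨y, h ▸ hx⟩ := by subst h; rfl

theorem isDispBaseChange_bcDisplay (f : S →+* R) {D : Display3n p S P} (N : NProj D)
    (b : DB (WittVector p S) P) : IsDispBaseChange f D (bcDisplay f N b) := by
  have hQ : (bcDisplay f N b).Q = LinearMap.ker (bcQuotMap f D.Q) := by
    ext z
    rw [mem_ker_bcQuotMap_iff f N]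
    rfl
  refine ⟨hQ, bcDisplay_F_tmul f N b, ?_, ?_⟩
  · intro w y h
    have hmem : ∀ y : D.Q, BC.tmul (WittVector.map f : WittVector p S →+* WittVector p R) 1 (y : P) ∈
        (bcDisplay f N b).Q := fun y => tmul_mem_bcQ f hQ 1 y.2
    have h1 : ∀ y : D.Q, (bcDisplay f N b).Vinv ⟨_, hmem y⟩ =
        BC.tmul (WittVector.map f : WittVector p S →+* WittVector p R) 1 (D.Vinv y) := by
      intro y
      refine N.Q_induction (motive := fun y => (bcDisplay f N b).Vinv ⟨_, hmem y⟩ =
        BC.tmul (WittVector.map f : WittVector p S →+* WittVector p R) 1 (D.Vinv y)) ?_ ?_ ?_ y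
      · intro x hx
        change Vof _ _ _ ⟨_, _⟩ = _
        rw [Vof_of_π_eq_zero, bcSemi_tmul, map_one, N.Φ_of_apply_eq_zero hx]
        change BC.map _ N.π (BC.tmul _ 1 x) = 0
        rw [BC.map_tmul, hx, BC.tmul_zero]
      · intro w x
        have h3 : BC.tmul (WittVector.map f : WittVector p S →+* WittVector p R) 1
            (verschiebung w • x) = verschiebung (WittVector.map f w) •
              BC.tmul (WittVector.map f : WittVector p S →+* WittVector p R) 1 x := by
          rw [← BC.tmul_apply_eq, BC.tmul_eq_smul_tmul_one, map_verschiebung]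
        rw [Vinv_eq_of_eq _ h3 _ (verschiebung_smul_mem _ _ _), Display3n.Vinv_verschiebung_smul,
          bcDisplay_F_tmul, map_one, D.Vinv_verschiebung_smul, ← BC.tmul_apply_eq,
          BC.smul_tmul, mul_one]
      · intro x y hx hy
        rw [map_add, BC.tmul_add, ← hx, ← hy, ← map_add]
        congr 1
        apply Subtype.ext
        exact BC.tmul_add _ _ _ _
    have h4 : (⟨BC.tmul (WittVector.map f : WittVector p S →+* WittVector p R) w (y : P), h⟩ :
        (bcDisplay f N b).Q) = w • ⟨_, hmem y⟩ := by
      apply Subtype.ext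
      exact BC.tmul_eq_smul_tmul_one _ _ _
    rw [h4, LinearMap.map_smulₛₗ, h1, BC.smul_tmul, mul_one]
  · intro w x h
    have h3 : BC.tmul (WittVector.map f : WittVector p S →+* WittVector p R)
            (verschiebung w) x = verschiebung w •
              BC.tmul (WittVector.map f : WittVector p S →+* WittVector p R) 1 x :=
      BC.tmul_eq_smul_tmul_one _ _ _
    rw [Vinv_eq_of_eq _ h3 _ (verschiebung_smul_mem _ _ _), Display3n.Vinv_verschiebung_smul,
      bcDisplay_F_tmul, map_one, BC.smul_tmul, mul_one]

end K789.DispBC
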