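import Groth.Agent.Disp.K789.BaseChange

/-!
# Base change of 3n-displays: uniqueness, `V^#`, nilpotence
-/

set_option autoImplicit false

universe u v w

noncomputable section

namespace K789.DispBC2

open WittVector W4c1extbt610 K789.DispBasic K789.DualBasis K789.DNProj K789.OfProj K789.Vdual K789.DispBC Dieu

variable {p : ℕ} [hp : Fact p.Prime] {S R : Type u} [CommRing S] [CommRing R]
variable {P : Type v} [AddCommGroup P] [Module (WittVector p S) P]

/-- Induction for elements of `Q_R` of a base change. -/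
theorem bcQ_induction (f : S →+* R) {D : Display3n p S P}
    {DR : Display3n p R (BC (WittVector.map f : WittVector p S →+* WittVector p R) P)}
    (hDR : DR.Q = LinearMap.ker (bcQuotMap f D.Q)) {motive : DR.Q → Prop}
    (htmul : ∀ (w : WittVector p R) (y : D.Q), motive ⟨BC.tmul
      (WittVector.map f : WittVector p S →+* WittVector p R) w (y : P), tmul_mem_bcQ f hDR w y.2⟩)
    (hV : ∀ (w : WittVector p R) (z : BC (WittVector.map f : WittVector p S →+* WittVector p R) P),
      motive ⟨verschiebung w • z, verschiebung_smul_mem DR w z⟩)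
    (hadd : ∀ x y, motive x → motive y → motive (x + y)) (y : DR.Q) : motive y := by
  obtain ⟨N⟩ := exists_nproj D
  let N' := bcNProj f N hDR
  refine N'.Q_induction ?_ hV hadd y
  intro z hz
  have key : ∀ z : BC (WittVector.map f : WittVector p S →+* WittVector p R) P,
      motive ⟨z - N'.π z, N'.sub_mem z⟩ := by
    intro z
    induction z using BC.induction_on with
    | zero =>
      have h := htmul 0 0
      have h2 : (⟨BC.tmul (WittVector.map f : WittVector p S →+* WittVector p R) 0 ((0 : D.Q) : P),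
        tmul_mem_bcQ f hDR 0 (0 : D.Q).2⟩ : DR.Q) = ⟨0 - N'.π 0, N'.sub_mem 0⟩ := by
        apply Subtype.ext; simp
      rwa [h2] at h
    | tmul w x =>
      have h := htmul w ⟨x - N.π x, N.sub_mem x⟩
      have h2 : (⟨BC.tmul (WittVector.map f : WittVector p S →+* WittVector p R) w
          (((⟨x - N.π x, N.sub_mem x⟩ : D.Q)) : P),
        tmul_mem_bcQ f hDR w (⟨x - N.π x, N.sub_mem x⟩ : D.Q).2⟩ : DR.Q) =
          ⟨BC.tmul _ w x - N'.π (BC.tmul _ w x), N'.sub_mem _⟩ := by
        apply Subtype.ext
        change BC.tmul _ w (x - N.π x) = BC.tmul _ w x - BC.map _ N.π (BC.tmul _ w x)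
        rw [BC.map_tmul, sub_eq_add_neg, BC.tmul_add, BC.tmul_neg, ← sub_eq_add_neg]
      rwa [h2] at h
    | add z₁ z₂ h₁ h₂ =>
      have h := hadd _ _ h₁ h₂
      have h2 : (⟨z₁ - N'.π z₁, N'.sub_mem z₁⟩ : DR.Q) + ⟨z₂ - N'.π z₂, N'.sub_mem z₂⟩ =
          ⟨z₁ + z₂ - N'.π (z₁ + z₂), N'.sub_mem (z₁ + z₂)⟩ := by
        apply Subtype.ext
        change (z₁ - N'.π z₁) + (z₂ - N'.π z₂) = z₁ + z₂ - N'.π (z₁ + z₂)
        rw [map_add]; abel
      rwa [h2] at h
  have h := key z
  have h2 : (⟨z - N'.π z, N'.sub_mem z⟩ : DR.Q) = ⟨z, N'.mem_Q_of_apply_eq_zero hz⟩ := by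
    apply Subtype.ext
    change z - N'.π z = z
    rw [hz, sub_zero]
  rwa [h2] at h

theorem F_eq_of_isDispBaseChange (f : S →+* R) {D : Display3n p S P}
    {DR DR' : Display3n p R (BC (WittVector.map f : WittVector p S →+* WittVector p R) P)}
    (h : IsDispBaseChange f D DR) (h' : IsDispBaseChange f D DR') : DR.F = DR'.F := by
  ext z
  induction z using BC.induction_on with
  | zero => simp
  | tmul w x => rw [h.F_tmul, h'.F_tmul]
  | add z₁ z₂ h₁ h₂ => rw [map_add, map_add, h₁, h₂]

theorem isDispBaseChange_unique (f : S →+* R) {D : Display3n p S P}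
    {DR DR' : Display3n p R (BC (WittVector.map f : WittVector p S →+* WittVector p R) P)}
    (h : IsDispBaseChange f D DR) (h' : IsDispBaseChange f D DR') : DR = DR' := by
  have hQ : DR.Q = DR'.Q := by rw [h.Q_eq, h'.Q_eq]
  have hF := F_eq_of_isDispBaseChange f h h'
  apply display_ext hQ
  intro y hy
  refine bcQ_induction f h.Q_eq (motive := fun y => ∀ (hy' : (y : BC _ P) ∈ DR'.Q),
    DR.Vinv y = DR'.Vinv ⟨(y : BC _ P), hy'⟩) ?_ ?_ ?_ ⟨y, hy⟩
  · intro w y hy'
    rw [h.Vinv_tmul, h'.Vinv_tmul]
  · intro w z hy'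
    rw [DR.Vinv_verschiebung_smul, DR'.Vinv_verschiebung_smul, hF]
  · intro x y hx hy hxy
    have hx' : (x : BC _ P) ∈ DR'.Q := hQ ▸ x.2
    have hy' : (y : BC _ P) ∈ DR'.Q := hQ ▸ y.2
    rw [map_add, hx hx', hy hy', ← map_add]
    rfl

theorem existsUnique_bc (f : S →+* R) (D : Display3n p S P) :
    ∃! DR : Display3n p R (BC (WittVector.map f : WittVector p S →+* WittVector p R) P),
      IsDispBaseChange f D DR := by
  obtain ⟨N⟩ := exists_nproj D
  have := D.finite
  have := D.projective
  obtain ⟨b⟩ := exists_db (A := WittVector p S) (M := P)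
  exact ⟨bcDisplay f N b, isDispBaseChange_bcDisplay f N b,
    fun DR' h' => isDispBaseChange_unique f h' (isDispBaseChange_bcDisplay f N b)⟩

theorem mem_Q_iff_of_injective (f : S →+* R) (hf : Function.Injective f) {D : Display3n p S P}
    {DR : Display3n p R (BC (WittVector.map f : WittVector p S →+* WittVector p R) P)}
    (hDR : DR.Q = LinearMap.ker (bcQuotMap f D.Q)) (x : P) :
    x ∈ D.Q ↔ BC.tmul (WittVector.map f : WittVector p S →+* WittVector p R) 1 x ∈ DR.Q := by
  obtain ⟨N⟩ := exists_nproj D
  have := D.finite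
  have := D.projective
  rw [hDR, mem_ker_bcQuotMap_iff f N, BC.map_tmul, tmul_one_mem_iff, comap_IV_of_injective hf, N.mem_Q]

/-! ### Base change of `V^#` -/

/-- `w ⊗ x ↦ f w ⊗ (1 ⊗ x)`. -/
def cmap (f : S →+* R) (P : Type v) [AddCommGroup P] [Module (WittVector p S) P] :
    BC (WittVector.frobenius : WittVector p S →+* WittVector p S) P
      →ₛₗ[(WittVector.map f : WittVector p S →+* WittVector p R)]
    BC (WittVector.frobenius : WittVector p R →+* WittVector p R)
      (BC (WittVector.map f : WittVector p S →+* WittVector p R) P) :=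
  (BC.lift ((WittVector.map f : WittVector p S →+* WittVector p R).comp WittVector.frobenius)
    ({ toFun := fun x => BC.tmul _ 1 (BC.tmul _ 1 x)
       map_add' := fun x y => by rw [BC.tmul_add, BC.tmul_add]
       map_smul' := fun a x => by
        rw [← BC.tmul_apply_eq, BC.tmul_eq_smul_tmul_one (WittVector.map f) (WittVector.map f a),
          ← BC.tmul_apply_eq, BC.tmul_eq_smul_tmul_one, frobenius_map]; rfl } :
        P →ₛₗ[(WittVector.map f : WittVector p S →+* WittVector p R).comp WittVector.frobenius]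
          BC (WittVector.frobenius : WittVector p R →+* WittVector p R)
      (BC (WittVector.map f : WittVector p S →+* WittVector p R) P))).comp
    (BC.push (WittVector.frobenius : WittVector p S →+* WittVector p S)
      (WittVector.map f : WittVector p S →+* WittVector p R))

theorem cmap_tmul (f : S →+* R) (w : WittVector p S) (x : P) :
    cmap f P (BC.tmul _ w x) = BC.tmul (WittVector.frobenius : WittVector p R →+* WittVector p R)
      (WittVector.map f w) (BC.tmul (WittVector.map f : WittVector p S →+* WittVector p R) 1 x) := by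
  rw [cmap, LinearMap.comp_apply, BC.push_tmul, BC.lift_tmul,
    BC.tmul_eq_smul_tmul_one (WittVector.frobenius) (WittVector.map f w)]
  rfl

/-- The base change of `V^#`. -/
def bcVs (f : S →+* R)
    (Vs : P →ₗ[WittVector p S] BC (WittVector.frobenius : WittVector p S →+* WittVector p S) P) :
    BC (WittVector.map f : WittVector p S →+* WittVector p R) P →ₗ[WittVector p R]
      BC (WittVector.frobenius : WittVector p R →+* WittVector p R)
        (BC (WittVector.map f : WittVector p S →+* WittVector p R) P) :=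
  BC.lift _ ((cmap f P).comp Vs)

theorem bcVs_tmul (f : S →+* R)
    (Vs : P →ₗ[WittVector p S] BC (WittVector.frobenius : WittVector p S →+* WittVector p S) P)
    (w : WittVector p R) (x : P) :
    bcVs f Vs (BC.tmul _ w x) = w • cmap f P (Vs x) := by
  rw [bcVs, BC.lift_tmul]; rfl

theorem isVSharp_bcVs (f : S →+* R) {D : Display3n p S P}
    {DR : Display3n p R (BC (WittVector.map f : WittVector p S →+* WittVector p R) P)}
    (hDR : IsDispBaseChange f D DR)
    {Vs : P →ₗ[WittVector p S] BC (WittVector.frobenius : WittVector p S →+* WittVector p S) P}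
    (hVs : IsVSharp D Vs) : IsVSharp DR (bcVs f Vs) := by
  have hF : ∀ z, bcVs f Vs (DR.F z) = (p : WittVector p R) • BC.tmul _ 1 z := by
    intro z
    induction z using BC.induction_on with
    | zero => simp
    | tmul w x =>
      have h1 := hVs.app_smul_F 1 x
      rw [one_smul] at h1
      rw [hDR.F_tmul, bcVs_tmul, h1, LinearMap.map_smulₛₗ, map_natCast, cmap_tmul, map_one,
        BC.smul_tmul, BC.smul_tmul, BC.smul_tmul, mul_one,
        BC.tmul_eq_smul_tmul_one (WittVector.map f : WittVector p S →+* WittVector p R) w x,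
        ← BC.tmul_mul_apply, mul_comm]
    | add z₁ z₂ h₁ h₂ => rw [map_add, map_add, h₁, h₂, BC.tmul_add, smul_add]
  apply K789.VSharp.isVSharp_of_app_Vinv
  intro z
  refine bcQ_induction f hDR.Q_eq (motive := fun z => bcVs f Vs (DR.Vinv z) = BC.tmul _ 1 (z : BC _ P))
    ?_ ?_ ?_ z
  · intro w y
    have h1 := hVs.app_smul_Vinv 1 y
    rw [one_smul] at h1
    rw [hDR.Vinv_tmul, bcVs_tmul, h1, cmap_tmul, map_one, BC.smul_tmul, mul_one]
    change _ = BC.tmul _ 1 (BC.tmul _ w (y : P))
    rw [BC.tmul_eq_smul_tmul_one (WittVector.map f : WittVector p S →+* WittVector p R) w,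
      ← BC.tmul_apply_eq]
  · intro w z
    rw [DR.Vinv_verschiebung_smul, map_smul, hF]
    change _ = BC.tmul _ 1 (verschiebung w • z)
    rw [← BC.tmul_apply_eq, frobenius_verschiebung, BC.smul_tmul, BC.smul_tmul, mul_one]
  · intro x y hx hy
    rw [map_add, map_add, hx, hy, ← BC.tmul_add]
    rfl

theorem bcFun_cmap (f : S →+* R) (φ : P →ₗ[WittVector p S] WittVector p S)
    (y : BC (WittVector.frobenius : WittVector p S →+* WittVector p S) P) :
    bcFun (WittVector.frobenius : WittVector p R →+* WittVector p R)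
      (bcFun (WittVector.map f : WittVector p S →+* WittVector p R) φ) (cmap f P y) =
      WittVector.map f (bcFun (WittVector.frobenius : WittVector p S →+* WittVector p S) φ y) := by
  induction y using BC.induction_on with
  | zero => simp
  | tmul w x =>
    rw [cmap_tmul, bcFun_tmul, bcFun_tmul, one_mul, bcFun_tmul, map_mul, frobenius_map]
  | add z₁ z₂ h₁ h₂ => rw [map_add, map_add, h₁, h₂, map_add, map_add]

theorem Vd_bcVs (f : S →+* R)
    (Vs : P →ₗ[WittVector p S] BC (WittVector.frobenius : WittVector p S →+* WittVector p S) P)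
    (φ : P →ₗ[WittVector p S] WittVector p S) :
    Vd (bcVs f Vs) (bcFun (WittVector.map f : WittVector p S →+* WittVector p R) φ) =
      bcFun (WittVector.map f : WittVector p S →+* WittVector p R) (Vd Vs φ) := by
  apply BC.ext
  intro x
  rw [Vd_apply, bcVs_tmul, one_smul, bcFun_cmap, bcFun_tmul, one_mul]
  rfl

theorem iterate_Vd_bcVs (f : S →+* R)
    (Vs : P →ₗ[WittVector p S] BC (WittVector.frobenius : WittVector p S →+* WittVector p S) P)
    (φ : P →ₗ[WittVector p S] WittVector p S) (n : ℕ) :
    (Vd (bcVs f Vs))^[n] (bcFun (WittVector.map f : WittVector p S →+* WittVector p R) φ) =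
      bcFun (WittVector.map f : WittVector p S →+* WittVector p R) ((Vd Vs)^[n] φ) := by
  induction n with
  | zero => rfl
  | succ n ih => rw [Function.iterate_succ_apply', ih, Vd_bcVs, Function.iterate_succ_apply']

theorem map_mem_J (f : S →+* R) {x : WittVector p S} (hx : x ∈ J p S) :
    WittVector.map f x ∈ J p R := by
  obtain ⟨a, ha, b, hb, rfl⟩ := Submodule.mem_sup.1 hx
  obtain ⟨c, rfl⟩ := Ideal.mem_span_singleton.1 hb
  rw [map_add, map_mul, map_natCast]
  refine Submodule.add_mem_sup ?_ (Ideal.mul_mem_right _ _ (Ideal.mem_span_singleton_self _))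
  rw [map_mem_IV_iff, mem_IV_iff_coeff_zero.1 ha, map_zero]

theorem isVNilpotent_bcVs [Module.Finite (WittVector p S) P] [Module.Projective (WittVector p S) P]
    (f : S →+* R)
    {Vs : P →ₗ[WittVector p S] BC (WittVector.frobenius : WittVector p S →+* WittVector p S) P}
    (h : IsVNilpotent Vs) : IsVNilpotent (bcVs f Vs) := by
  rw [isVNilpotent_iff] at h ⊢
  obtain ⟨n, hn⟩ := h
  refine ⟨n, fun ψ z => ?_⟩
  obtain ⟨b⟩ := exists_db (A := WittVector p S) (M := P)
  have h1 : ψ = ∑ i, ψ (BC.tmul _ 1 (b.e i)) •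
      bcFun (WittVector.map f : WittVector p S →+* WittVector p R) (b.f i) := by
    ext1 z
    rw [LinearMap.sum_apply, (b.bc (WittVector.map f : WittVector p S →+* WittVector p R)).functional_eq ψ z]
    refine Finset.sum_congr rfl fun i _ => ?_
    rw [LinearMap.smul_apply, smul_eq_mul, smul_eq_mul, mul_comm]
    rfl
  rw [h1, iterate_Vd_sum_smul, LinearMap.sum_apply]
  refine Ideal.sum_mem _ fun i _ => ?_
  rw [LinearMap.smul_apply, smul_eq_mul, iterate_Vd_bcVs]
  refine Ideal.mul_mem_left _ _ ?_
  clear h1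
  induction z using BC.induction_on with
  | zero => rw [map_zero]; exact Ideal.zero_mem _
  | tmul w x =>
    rw [bcFun_tmul]
    exact Ideal.mul_mem_left _ _ (map_mem_J f (hn _ x))
  | add z₁ z₂ h₁ h₂ => rw [map_add]; exact Ideal.add_mem _ h₁ h₂

theorem isDisplay_bc (f : S →+* R) {D : Display3n p S P}
    {DR : Display3n p R (BC (WittVector.map f : WittVector p S →+* WittVector p R) P)}
    (hDR : IsDispBaseChange f D DR) (hD : IsDisplay D) : IsDisplay DR := by
  have := D.finite
  have := D.projective
  obtain ⟨Vs, hVs, hn⟩ := hD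
  exact ⟨bcVs f Vs, isVSharp_bcVs f hDR hVs, isVNilpotent_bcVs f hn⟩

end K789.DispBC2
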