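import Groth.Prelude.Def_Disp2
import Mathlib.RingTheory.WittVector.Domain

/-!
# Basic lemmas on Witt vectors and 3n-displays
-/

set_option autoImplicit false

universe u v w

noncomputable section

namespace K789.DispBasic

open WittVector W4c1extbt610

variable {p : ℕ} [Fact p.Prime] {R : Type u} [CommRing R]

theorem mem_IV_iff_exists {x : WittVector p R} :
    x ∈ IV p R ↔ ∃ w : WittVector p R, verschiebung w = x := by
  constructor
  · intro hx
    refine Submodule.span_induction ?_ ?_ ?_ ?_ hx
    · rintro _ ⟨w, rfl⟩; exact ⟨w, rfl⟩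
    · exact ⟨0, map_zero _⟩
    · rintro _ _ _ _ ⟨a, rfl⟩ ⟨b, rfl⟩; exact ⟨a + b, map_add _ _ _⟩
    · rintro a _ _ ⟨b, rfl⟩
      exact ⟨b * frobenius a, by rw [verschiebung_mul_frobenius, smul_eq_mul, mul_comm]⟩
  · rintro ⟨w, rfl⟩; exact verschiebung_mem_IV p R w

theorem mem_IV_iff_coeff_zero {x : WittVector p R} : x ∈ IV p R ↔ x.coeff 0 = 0 := by
  rw [mem_IV_iff_exists]
  constructor
  · rintro ⟨w, rfl⟩; exact verschiebung_coeff_zero w
  · intro h
    refine ⟨x.shift 1, ?_⟩
    have := WittVector.verschiebung_shift x 0 (by intro i hi; obtain rfl : i = 0 := by omega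
                                                  exact h)
    rw [this]
    ext n; simp [WittVector.shift_coeff]

theorem frobenius_verschiebung' (x : WittVector p R) :
    frobenius (verschiebung x) = (p : WittVector p R) * x := by
  rw [frobenius_verschiebung, mul_comm]

theorem frobenius_natCast (n : ℕ) : frobenius (n : WittVector p R) = n := map_natCast _ n

variable {P : Type v} [AddCommGroup P] [Module (WittVector p R) P]

theorem verschiebung_smul_mem (D : Display3n p R P) (w : WittVector p R) (x : P) :
    verschiebung w • x ∈ D.Q :=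
  D.IV_smul_le (Submodule.smul_mem_smul (verschiebung_mem_IV p R w) Submodule.mem_top)

theorem F_eq_Vinv (D : Display3n p R P) (x : P) :
    D.F x = D.Vinv ⟨verschiebung (1 : WittVector p R) • x, verschiebung_smul_mem D 1 x⟩ := by
  rw [D.Vinv_verschiebung_smul 1 x, one_smul]

theorem F_of_mem_Q (D : Display3n p R P) (y : D.Q) :
    D.F (y : P) = (p : WittVector p R) • D.Vinv y := by
  rw [F_eq_Vinv]
  have : (⟨verschiebung (1 : WittVector p R) • (y : P), verschiebung_smul_mem D 1 y⟩ : D.Q)
      = verschiebung (1 : WittVector p R) • y := rfl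
  rw [this, LinearMap.map_smulₛₗ, frobenius_verschiebung', mul_one]

theorem Vinv_eq_of_eq (D : Display3n p R P) {x y : P} (h : x = y) (hx : x ∈ D.Q) (hy : y ∈ D.Q) :
    D.Vinv ⟨x, hx⟩ = D.Vinv ⟨y, hy⟩ := by subst h; rfl

end K789.DispBasic
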