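import Mathlib.RingTheory.WittVector.Truncated
import Mathlib.RingTheory.WittVector.Identities
import Mathlib.RingTheory.WittVector.Domain
import Mathlib.RingTheory.AdicCompletion.Basic
import Mathlib.RingTheory.Nilpotent.Defs

/-!
# `W(R)` is `p`-adically complete when `R` is
-/

set_option autoImplicit false

universe u v w

noncomputable section

namespace K789.WittComplete

open WittVector

variable {p : ℕ} [hp : Fact p.Prime] {R : Type u} [CommRing R]

/-- If `p ^ a = 0` in `R` then `p ^ a` shifts the filtration by one. -/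
theorem coeff_p_pow_mul {a : ℕ} (ha : (p : R) ^ a = 0) {n : ℕ} {x : WittVector p R}
    (hx : ∀ i < n, x.coeff i = 0) : ∀ i < n + 1, (x * (p : WittVector p R) ^ a).coeff i = 0 := by
  intro i hi
  rw [WittVector.eq_iterate_verschiebung hx, iterate_verschiebung_mul_left]
  have hfix : (frobenius^[n] ((p : WittVector p R) ^ a)) = (p : WittVector p R) ^ a := by
    apply Function.iterate_fixed
    rw [map_pow, map_natCast]
  rw [hfix]
  rcases Nat.lt_succ_iff_lt_or_eq.1 hi with h | rfl
  · exact iterate_verschiebung_coeff_eq_zero _ h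
  · have := iterate_verschiebung_coeff (x.shift i * (p : WittVector p R) ^ a) i 0
    rw [zero_add] at this
    rw [this, WittVector.mul_coeff_zero]
    have h2 : ((p : WittVector p R) ^ a).coeff 0 = (p : R) ^ a := by
      change WittVector.constantCoeff ((p : WittVector p R) ^ a) = _
      rw [map_pow, map_natCast]
    rw [h2, ha, mul_zero]

theorem coeff_p_pow_eq_zero {a : ℕ} (ha : (p : R) ^ a = 0) (n : ℕ) :
    ∀ i < n, ((p : WittVector p R) ^ (a * n)).coeff i = 0 := by
  induction n with
  | zero => intro i hi; omega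
  | succ n ih =>
    rw [mul_add, mul_one, pow_add]
    exact coeff_p_pow_mul ha ih

theorem p_pow_mem_ker_truncate {a : ℕ} (ha : (p : R) ^ a = 0) (n : ℕ) :
    (p : WittVector p R) ^ (a * n) ∈ RingHom.ker (WittVector.truncate (p := p) (R := R) n) := by
  rw [WittVector.mem_ker_truncate]
  exact coeff_p_pow_eq_zero ha n

variable (p R) in
/-- The kernel of `W(R) → W_j(R / p^j)`. -/
def KI (j : ℕ) : Ideal (WittVector p R) :=
  RingHom.ker ((WittVector.truncate (p := p) j).comp
    (WittVector.map (Ideal.Quotient.mk (Ideal.span {(p : R) ^ j}))))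

theorem sub_mem_KI {x y : WittVector p R} {j : ℕ} :
    x - y ∈ KI p R j ↔ ∀ i < j, x.coeff i - y.coeff i ∈ Ideal.span {(p : R) ^ j} := by
  rw [KI, RingHom.mem_ker, map_sub, sub_eq_zero, RingHom.comp_apply, RingHom.comp_apply,
    TruncatedWittVector.ext_iff]
  simp only [WittVector.coeff_truncate, WittVector.map_coeff, Ideal.Quotient.eq]
  exact Fin.forall_iff

theorem mem_KI {x : WittVector p R} {j : ℕ} :
    x ∈ KI p R j ↔ ∀ i < j, x.coeff i ∈ Ideal.span {(p : R) ^ j} := by
  have := sub_mem_KI (x := x) (y := 0) (j := j)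
  simpa using this

theorem p_pow_mem_KI (j : ℕ) : (p : WittVector p R) ^ (j * j) ∈ KI p R j := by
  rw [KI, RingHom.mem_ker, RingHom.comp_apply, map_pow, map_natCast, ← RingHom.mem_ker]
  apply p_pow_mem_ker_truncate
  rw [← map_natCast (Ideal.Quotient.mk (Ideal.span {(p : R) ^ j})), ← map_pow,
    Ideal.Quotient.eq_zero_iff_mem]
  exact Ideal.mem_span_singleton_self _

theorem KI_succ_le (j : ℕ) : KI p R (j + 1) ≤ KI p R j := by
  intro x hx
  rw [mem_KI] at hx ⊢
  intro i hi
  refine Ideal.span_singleton_le_span_singleton.2 (pow_dvd_pow _ (Nat.le_succ j)) (hx i (by omega))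

theorem KI_antitone {j k : ℕ} (h : j ≤ k) : KI p R k ≤ KI p R j := by
  induction h with
  | refl => exact le_rfl
  | step _ ih => exact (KI_succ_le _).trans ih

theorem eq_zero_of_forall_mem_KI [IsHausdorff (Ideal.span {(p : R)}) R] {x : WittVector p R}
    (hx : ∀ j, x ∈ KI p R j) : x = 0 := by
  ext i
  rw [WittVector.zero_coeff]
  refine IsHausdorff.haus (I := Ideal.span {(p : R)}) inferInstance _ fun n => ?_
  rw [SModEq.zero, smul_eq_mul, Ideal.mul_top, Ideal.span_singleton_pow]
  have h := mem_KI.1 (hx (n + i + 1)) i (by omega)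
  exact Ideal.span_singleton_le_span_singleton.2 (pow_dvd_pow _ (by omega)) h

/-- Coefficientwise limits. -/
theorem exists_limit_KI [IsPrecomplete (Ideal.span {(p : R)}) R] (y : ℕ → WittVector p R)
    (hy : ∀ j, y (j + 1) - y j ∈ KI p R j) : ∃ L, ∀ j, L - y j ∈ KI p R j := by
  -- coefficients
  have hcoef : ∀ i, ∃ c : R, ∀ j, i < j → c - (y j).coeff i ∈ Ideal.span {(p : R) ^ j} := by
    intro i
    have hprec := IsPrecomplete.prec (I := Ideal.span {(p : R)}) (M := R) inferInstance
      (f := fun j => (y (i + 1 + j)).coeff i) (by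
        intro m n hmn
        induction hmn with
        | refl => rfl
        | @step n hmn ih =>
          refine ih.trans ?_
          rw [SModEq.sub_mem, smul_eq_mul, Ideal.mul_top, Ideal.span_singleton_pow]
          have h := sub_mem_KI.1 (hy (i + 1 + n)) i (by omega)
          have h' : (y (i + 1 + n)).coeff i - (y (i + 1 + (n + 1))).coeff i ∈
              Ideal.span {(p : R) ^ (i + 1 + n)} := by
            rw [← neg_sub]; exact Ideal.neg_mem_iff _ |>.2 h
          refine Ideal.span_singleton_le_span_singleton.2 (pow_dvd_pow _ ?_) h'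
          have : m ≤ n := hmn
          omega)
    obtain ⟨c, hc⟩ := hprec
    refine ⟨c, fun j hj => ?_⟩
    -- compare `y j` and `y (i + 1 + j)`
    have h1 : ∀ k, (y (j + k)).coeff i - (y j).coeff i ∈ Ideal.span {(p : R) ^ j} := by
      intro k
      induction k with
      | zero => simp
      | succ k ih =>
        have h := sub_mem_KI.1 (hy (j + k)) i (by omega)
        have h' := Ideal.span_singleton_le_span_singleton.2
          (pow_dvd_pow (p : R) (show j ≤ j + k by omega)) h
        have := Ideal.add_mem _ h' ih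
        rwa [sub_add_sub_cancel] at this
    have h2 := hc j
    rw [SModEq.sub_mem, smul_eq_mul, Ideal.mul_top, Ideal.span_singleton_pow] at h2
    have h3 := h1 (i + 1)
    have h4 : (y (i + 1 + j)).coeff i - (y j).coeff i ∈ Ideal.span {(p : R) ^ j} := by
      rwa [add_comm j (i + 1)] at h3
    have := Ideal.sub_mem _ h4 h2
    rwa [sub_sub_sub_cancel_left] at this
  choose c hc using hcoef
  refine ⟨WittVector.mk p c, fun j => ?_⟩
  rw [sub_mem_KI]
  intro i hi
  rw [WittVector.coeff_mk]
  exact hc i j hi

theorem isHausdorff_witt [IsHausdorff (Ideal.span {(p : R)}) R] :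
    IsHausdorff (Ideal.span {(p : WittVector p R)}) (WittVector p R) := by
  refine ⟨fun x hx => eq_zero_of_forall_mem_KI fun j => ?_⟩
  have h := hx (j * j)
  rw [SModEq.zero, smul_eq_mul, Ideal.mul_top, Ideal.span_singleton_pow,
    Ideal.mem_span_singleton] at h
  obtain ⟨y, rfl⟩ := h
  exact Ideal.mul_mem_right _ _ (p_pow_mem_KI j)

/-- Sums `∑ p^k x_k` converge, coherently. -/
theorem exists_tails [IsAdicComplete (Ideal.span {(p : R)}) R] (x : ℕ → WittVector p R) :
    ∃ s : ℕ → WittVector p R, ∀ n, s n = x n + (p : WittVector p R) * s (n + 1) := by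
  -- partial sums `S n m = ∑_{k < m} p^k x_{n+k}`
  let S : ℕ → ℕ → WittVector p R := fun n m => ∑ k ∈ Finset.range m, (p : WittVector p R) ^ k * x (n + k)
  have hS : ∀ n m, S n (m + 1) = x n + (p : WittVector p R) * S (n + 1) m := by
    intro n m
    simp only [S]
    rw [Finset.sum_range_succ', Finset.mul_sum, add_comm]
    congr 1
    · simp
    · refine Finset.sum_congr rfl fun k _ => ?_
      rw [pow_succ', mul_assoc, show n + (k + 1) = n + 1 + k by omega]
  have hS' : ∀ n m, S n (m + 1) - S n m = (p : WittVector p R) ^ m * x (n + m) := by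
    intro n m
    simp only [S]
    rw [Finset.sum_range_succ, add_sub_cancel_left]
  -- along `m = j*j`
  have hmono : ∀ n j m m', j * j ≤ m → m ≤ m' → S n m' - S n m ∈ KI p R j := by
    intro n j m m' hm hmm'
    induction hmm' with
    | refl => simp
    | @step m' hmm' ih =>
      have h1 : S n (m' + 1) - S n m' ∈ KI p R j := by
        rw [hS']
        have hle : j * j ≤ m' := hm.trans hmm'
        obtain ⟨t, rfl⟩ := Nat.exists_eq_add_of_le hle
        rw [pow_add, mul_assoc]
        exact Ideal.mul_mem_right _ _ (p_pow_mem_KI j)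
      have := Ideal.add_mem _ h1 ih
      rwa [sub_add_sub_cancel] at this
  have hlim : ∀ n, ∃ L, ∀ j, L - S n (j * j) ∈ KI p R j := by
    intro n
    refine exists_limit_KI (fun j => S n (j * j)) fun j => ?_
    exact hmono n j (j * j) ((j + 1) * (j + 1)) le_rfl (by nlinarith)
  choose s hs using hlim
  refine ⟨s, fun n => ?_⟩
  rw [← sub_eq_zero]
  apply eq_zero_of_forall_mem_KI
  intro j
  have h1 := hs n j
  have h2 := hs (n + 1) j
  have h3 : S n (j * j + 1) - S n (j * j) ∈ KI p R j := hmono n j _ _ le_rfl (Nat.le_succ _)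
  have h4 : s n - (x n + (p : WittVector p R) * s (n + 1)) =
      (s n - S n (j * j)) - (S n (j * j + 1) - S n (j * j)) +
        (S n (j * j + 1) - (x n + (p : WittVector p R) * S (n + 1) (j * j))) -
        (p : WittVector p R) * (s (n + 1) - S (n + 1) (j * j)) := by
    ring
  have h5 : S n (j * j + 1) - (x n + (p : WittVector p R) * S (n + 1) (j * j)) = 0 := by
    rw [hS n (j * j), sub_self]
  rw [h4, h5, add_zero]
  exact Ideal.sub_mem _ (Ideal.sub_mem _ h1 h3) (Ideal.mul_mem_left _ _ h2)

theorem isAdicComplete_witt [IsAdicComplete (Ideal.span {(p : R)}) R] :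
    IsAdicComplete (Ideal.span {(p : WittVector p R)}) (WittVector p R) where
  toIsHausdorff := isHausdorff_witt
  toIsPrecomplete := by
    refine ⟨fun f hf => ?_⟩
    have hx : ∀ k, ∃ x, f (k + 1) = f k + (p : WittVector p R) ^ k * x := by
      intro k
      have h := (hf (Nat.le_succ k)).symm
      rw [SModEq.sub_mem, smul_eq_mul, Ideal.mul_top, Ideal.span_singleton_pow,
        Ideal.mem_span_singleton] at h
      obtain ⟨x, hx⟩ := h
      exact ⟨x, by rw [← hx]; ring⟩
    choose x hx using hx
    obtain ⟨s, hs⟩ := exists_tails x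
    refine ⟨f 0 + s 0, fun n => ?_⟩
    have key : f 0 + s 0 = f n + (p : WittVector p R) ^ n * s n := by
      induction n with
      | zero => simp
      | succ n ih =>
        rw [ih, hx n, hs n, pow_succ]; ring
    rw [key, SModEq.sub_mem, smul_eq_mul, Ideal.mul_top, Ideal.span_singleton_pow,
      Ideal.mem_span_singleton]
    exact ⟨-s n, by ring⟩

omit hp in
/-- If `p` is nilpotent, `R` is `p`-adically complete. -/
theorem isAdicComplete_of_isNilpotent (hpn : IsNilpotent (p : R)) :
    IsAdicComplete (Ideal.span {(p : R)}) R := by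
  obtain ⟨a, ha⟩ := hpn
  have hbot : (Ideal.span {(p : R)}) ^ a = ⊥ := by
    rw [Ideal.span_singleton_pow, ha, Ideal.span_singleton_zero]
  refine { toIsHausdorff := ⟨fun x hx => ?_⟩, toIsPrecomplete := ⟨fun f hf => ⟨f a, fun n => ?_⟩⟩ }
  · have h := hx a
    rw [hbot, Submodule.bot_smul, SModEq.zero] at h
    exact h
  · rcases le_total n a with h | h
    · exact hf h
    · have := hf h
      rw [hbot, Submodule.bot_smul, SModEq.bot] at this
      rw [this]

/-- `p` lies in the Jacobson radical of `W(R)` when `R` is `p`-adically complete. -/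
theorem p_mem_jacobson [IsAdicComplete (Ideal.span {(p : R)}) R] :
    (p : WittVector p R) ∈ (⊥ : Ideal (WittVector p R)).jacobson := by
  have := isAdicComplete_witt (p := p) (R := R)
  exact IsAdicComplete.le_jacobson_bot _ (Ideal.mem_span_singleton_self _)

theorem verschiebung_sq (x : WittVector p R) :
    verschiebung x * verschiebung x = (p : WittVector p R) * verschiebung (x * x) := by
  rw [← verschiebung_mul_frobenius, frobenius_verschiebung, ← mul_assoc, mul_comm (p : WittVector p R)]
  have h := verschiebung_mul_frobenius (x * x) (p : WittVector p R)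
  rw [map_natCast] at h
  exact h

theorem verschiebung_mem_of_isMaximal [IsAdicComplete (Ideal.span {(p : R)}) R]
    (m : Ideal (WittVector p R)) (hm : m.IsMaximal) (x : WittVector p R) :
    verschiebung x ∈ m := by
  have hp' : (p : WittVector p R) ∈ m := by
    have h := p_mem_jacobson (p := p) (R := R)
    rw [Ideal.jacobson, Ideal.mem_sInf] at h
    exact h ⟨bot_le, hm⟩
  have h2 : verschiebung x * verschiebung x ∈ m := by
    rw [verschiebung_sq]
    exact Ideal.mul_mem_right _ _ hp'
  exact (or_self_iff).1 (hm.isPrime.mem_or_mem h2)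

end K789.WittComplete
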