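import Groth.Agent.Disp.K789.BaseChange2
import Mathlib.RingTheory.Flat.FaithfullyFlat.Algebra

/-!
# Faithfully flat descent of homomorphisms of displays
-/

set_option autoImplicit false

universe u v w

noncomputable section

namespace K789.DispDescent

open WittVector W4c1extbt610 K789.DispBasic K789.DualBasis K789.DNProj K789.Vdual K789.DispBC K789.DispBC2 Dieu

open TensorProduct in
/-- Faithfully flat descent of elements. -/
theorem exists_algebraMap_eq {S R : Type*} [CommRing S] [CommRing R] [Algebra S R]
    [Module.FaithfullyFlat S R] (x : R) (h : x ⊗ₜ[S] (1 : R) = (1 : R) ⊗ₜ[S] x) :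
    ∃ s : S, algebraMap S R s = x := by
  let D : Submodule S R := LinearMap.range (Algebra.linearMap S R)
  have h1 : (1 : R) ⊗ₜ[S] (D.mkQ x) = 0 := by
    have h2 := congrArg (LinearMap.lTensor R D.mkQ) h
    rw [LinearMap.lTensor_tmul, LinearMap.lTensor_tmul] at h2
    have h3 : D.mkQ (1 : R) = 0 := by
      rw [← LinearMap.mem_ker, Submodule.ker_mkQ]
      exact ⟨1, by simp⟩
    rw [h3, TensorProduct.tmul_zero] at h2
    exact h2.symm
  have h4 := Module.FaithfullyFlat.tensorProduct_mk_injective (A := S) (B := R) (R ⧸ D)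
    (a₁ := D.mkQ x) (a₂ := 0) (by simpa using h1)
  rw [← LinearMap.mem_ker, Submodule.ker_mkQ] at h4
  obtain ⟨s, hs⟩ := h4
  exact ⟨s, hs⟩

variable {p : ℕ} [hp : Fact p.Prime] {S R : Type u} [CommRing S] [CommRing R]

/-- Descent of Witt vectors. -/
theorem exists_map_eq [Algebra S R] [Module.FaithfullyFlat S R] (x : WittVector p R)
    (h : WittVector.map (Algebra.TensorProduct.includeLeftRingHom : R →+* TensorProduct S R R) x =
      WittVector.map ((Algebra.TensorProduct.includeRight : R →ₐ[S] TensorProduct S R R) :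
        R →+* TensorProduct S R R) x) :
    ∃ y : WittVector p S, WittVector.map (algebraMap S R) y = x := by
  have h1 : ∀ n, ∃ s : S, algebraMap S R s = x.coeff n := by
    intro n
    apply exists_algebraMap_eq
    have h2 := congrArg (fun z => WittVector.coeff z n) h
    simp only [WittVector.map_coeff] at h2
    exact h2
  choose s hs using h1
  refine ⟨WittVector.mk p s, ?_⟩
  ext n
  rw [WittVector.map_coeff, WittVector.coeff_mk, hs]

variable {P : Type v} [AddCommGroup P] [Module (WittVector p S) P]
variable {P' : Type w} [AddCommGroup P'] [Module (WittVector p S) P']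

theorem tmul_sum {A B : Type*} [CommRing A] [CommRing B] (g : A →+* B) {M : Type*} [AddCommGroup M]
    [Module A M] {ι : Type*} (s : Finset ι) (b : B) (v : ι → M) :
    BC.tmul g b (∑ i ∈ s, v i) = ∑ i ∈ s, BC.tmul g b (v i) := by
  classical
  induction s using Finset.induction_on with
  | empty => simp
  | insert a s ha ih => rw [Finset.sum_insert ha, Finset.sum_insert ha, BC.tmul_add, ih]

/-- An element of `W(R) ⊗ P'` whose coordinates come from `W(S)` comes from `P'`. -/
theorem exists_tmul_one_eq (f : S →+* R) (b' : DB (WittVector p S) P')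
    (z : BC (WittVector.map f : WittVector p S →+* WittVector p R) P')
    (h : ∀ i, ∃ y : WittVector p S, WittVector.map f y =
      bcFun (WittVector.map f : WittVector p S →+* WittVector p R) (b'.f i) z) :
    ∃ y : P', BC.tmul _ 1 y = z := by
  choose y hy using h
  refine ⟨∑ i, y i • b'.e i, ?_⟩
  rw [tmul_sum]
  conv_rhs => rw [← (b'.bc (WittVector.map f : WittVector p S →+* WittVector p R)).h z]
  refine Finset.sum_congr rfl fun i _ => ?_
  change _ = bcFun _ (b'.f i) z • BC.tmul _ 1 (b'.e i)
  rw [← hy i, ← BC.tmul_apply_eq, BC.smul_tmul, mul_one]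

/-- A linear map between scalar extensions sending `1 ⊗ x` to `1 ⊗ y`'s is a scalar extension. -/
theorem exists_lin_of_forall (f : S →+* R)
    [Module.Finite (WittVector p S) P] [Module.Projective (WittVector p S) P]
    (χ : BC (WittVector.map f : WittVector p S →+* WittVector p R) P →ₗ[WittVector p R]
      BC (WittVector.map f : WittVector p S →+* WittVector p R) P')
    (h : ∀ x : P, ∃ y : P', BC.tmul (WittVector.map f : WittVector p S →+* WittVector p R) 1 y =
      χ (BC.tmul _ 1 x)) :
    ∃ u : P →ₗ[WittVector p S] P', BC.map (WittVector.map f : WittVector p S →+* WittVector p R) u = χ := by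
  obtain ⟨b⟩ := exists_db (A := WittVector p S) (M := P)
  choose y hy using h
  refine ⟨∑ i, (b.f i).smulRight (y (b.e i)), ?_⟩
  apply BC.ext
  intro x
  rw [BC.map_tmul, (b.bc (WittVector.map f : WittVector p S →+* WittVector p R)).functional_eq χ,
    LinearMap.sum_apply, tmul_sum]
  refine Finset.sum_congr rfl fun i _ => ?_
  change BC.tmul _ 1 (b.f i x • y (b.e i)) = bcFun _ (b.f i) (BC.tmul _ 1 x) • χ (BC.tmul _ 1 (b.e i))
  rw [bcFun_tmul, ← hy (b.e i), one_mul, ← BC.tmul_apply_eq, BC.smul_tmul, mul_one]

/-- Being a homomorphism of 3n-displays descends along injective ring maps. -/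
theorem isHom_of_map_isHom (f : S →+* R) (hf : Function.Injective f)
    {D : Display3n p S P} {D' : Display3n p S P'}
    {DR : Display3n p R (BC (WittVector.map f : WittVector p S →+* WittVector p R) P)}
    (hDR : IsDispBaseChange f D DR)
    {DR' : Display3n p R (BC (WittVector.map f : WittVector p S →+* WittVector p R) P')}
    (hDR' : IsDispBaseChange f D' DR')
    (ψ : P →ₗ[WittVector p S] P')
    (hψ : IsHom DR DR' (BC.map (WittVector.map f : WittVector p S →+* WittVector p R) ψ)) :
    IsHom D D' ψ := by
  have := D'.finite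
  have := D'.projective
  have hinj : Function.Injective (WittVector.map f : WittVector p S →+* WittVector p R) :=
    WittVector.map_injective f hf
  have h1 : ∀ q : P, q ∈ D.Q → ψ q ∈ D'.Q := by
    intro q hq
    rw [mem_Q_iff_of_injective f hf hDR'.Q_eq, ← BC.map_tmul]
    exact hψ.mapsTo _ ((mem_Q_iff_of_injective f hf hDR.Q_eq q).1 hq)
  refine ⟨h1, ?_, ?_⟩
  · intro x
    apply tmul_one_injective _ hinj
    have h2 := hψ.comm_F (BC.tmul _ 1 x)
    rw [hDR.F_tmul, BC.map_tmul, BC.map_tmul, hDR'.F_tmul, map_one] at h2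
    exact h2
  · intro q
    apply tmul_one_injective _ hinj
    have hq : BC.tmul (WittVector.map f : WittVector p S →+* WittVector p R) 1 (q : P) ∈ DR.Q :=
      (mem_Q_iff_of_injective f hf hDR.Q_eq q).1 q.2
    have hq' : BC.tmul (WittVector.map f : WittVector p S →+* WittVector p R) 1 (ψ q) ∈ DR'.Q :=
      (mem_Q_iff_of_injective f hf hDR'.Q_eq _).1 (h1 q q.2)
    have h2 := hψ.comm_Vinv ⟨_, hq⟩
    rw [hDR.Vinv_tmul, BC.map_tmul, map_one] at h2
    have h3 := hDR'.Vinv_tmul 1 ⟨ψ q, h1 q q.2⟩ hq'
    rw [map_one] at h3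
    rw [h2, ← h3]
    exact Vinv_eq_of_eq _ (BC.map_tmul _ _ _ _) _ _

end K789.DispDescent
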