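import Groth.Prelude.Def_Dieu
import Mathlib.RingTheory.Finiteness.Projective

/-!
# Dual bases of finitely generated projective modules, and scalar extension
-/

set_option autoImplicit false

universe u v w w'

noncomputable section

namespace K789.DualBasis

open Dieu

/-- A finite dual basis of the `A`-module `M`. -/
structure DB (A : Type u) [CommRing A] (M : Type v) [AddCommGroup M] [Module A M] where
  n : ℕ
  e : Fin n → M
  f : Fin n → (M →ₗ[A] A)
  h : ∀ x : M, ∑ i, f i x • e i = x

section

variable {A : Type u} [CommRing A] {M : Type v} [AddCommGroup M] [Module A M]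

theorem exists_db [Module.Finite A M] [Module.Projective A M] : Nonempty (DB A M) := by
  obtain ⟨n, f, g, -, -, hfg⟩ := Module.Finite.exists_comp_eq_id_of_projective A M
  refine ⟨⟨n, fun i => f (Pi.single i 1), fun i => (LinearMap.proj i).comp g, fun x => ?_⟩⟩
  have h1 : f (g x) = x := by
    have := LinearMap.congr_fun hfg x
    simpa using this
  conv_rhs => rw [← h1]
  rw [LinearMap.pi_apply_eq_sum_univ f (g x)]
  refine Finset.sum_congr rfl fun i _ => ?_
  have h2 : (fun j => if i = j then (1 : A) else 0) = Pi.single i 1 := by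
    funext j
    rw [Pi.single_apply]
    simp only [eq_comm]
  rw [h2]
  rfl

theorem DB.finite (b : DB A M) : Module.Finite A M := by
  classical
  refine ⟨⟨Finset.univ.image b.e, ?_⟩⟩
  rw [eq_top_iff]
  intro x _
  rw [← b.h x]
  refine Submodule.sum_mem _ fun i _ => Submodule.smul_mem _ _ (Submodule.subset_span ?_)
  simp

theorem DB.projective (b : DB A M) : Module.Projective A M := by
  refine Module.Projective.of_split (M := Fin b.n → A) (LinearMap.pi b.f)
    (Fintype.linearCombination A b.e) ?_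
  ext x
  simp [Fintype.linearCombination_apply, b.h]

theorem DB.mem_smul_top_iff (b : DB A M) {𝔠 : Ideal A} {x : M} :
    x ∈ 𝔠 • (⊤ : Submodule A M) ↔ ∀ i, b.f i x ∈ 𝔠 := by
  constructor
  · intro hx i
    refine Submodule.smul_induction_on hx ?_ ?_
    · intro r hr n _
      rw [map_smul, smul_eq_mul]
      exact Ideal.mul_mem_right _ _ hr
    · intro x y hx hy
      rw [map_add]
      exact Ideal.add_mem _ hx hy
  · intro h
    rw [← b.h x]
    exact Submodule.sum_mem _ fun i _ => Submodule.smul_mem_smul (h i) Submodule.mem_top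

theorem apply_mem_of_mem_smul_top {𝔠 : Ideal A} {x : M} (hx : x ∈ 𝔠 • (⊤ : Submodule A M))
    (φ : M →ₗ[A] A) : φ x ∈ 𝔠 := by
  refine Submodule.smul_induction_on hx ?_ ?_
  · intro r hr n _
    rw [map_smul, smul_eq_mul]
    exact Ideal.mul_mem_right _ _ hr
  · intro x y hx hy
    rw [map_add]
    exact Ideal.add_mem _ hx hy

theorem map_mem_of_mem_smul_top {N : Type*} [AddCommGroup N] [Module A N] {𝔠 : Ideal A} {x : M}
    (hx : x ∈ 𝔠 • (⊤ : Submodule A M)) (φ : M →ₗ[A] N) : φ x ∈ 𝔠 • (⊤ : Submodule A N) := by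
  refine Submodule.smul_induction_on hx ?_ ?_
  · intro r hr n _
    rw [map_smul]
    exact Submodule.smul_mem_smul hr Submodule.mem_top
  · intro x y hx hy
    rw [map_add]
    exact Submodule.add_mem _ hx hy

theorem mem_smul_top_iff [Module.Finite A M] [Module.Projective A M] {𝔠 : Ideal A} {x : M} :
    x ∈ 𝔠 • (⊤ : Submodule A M) ↔ ∀ φ : M →ₗ[A] A, φ x ∈ 𝔠 := by
  constructor
  · exact fun hx φ => apply_mem_of_mem_smul_top hx φ
  · intro h
    obtain ⟨b⟩ := exists_db (A := A) (M := M)
    exact b.mem_smul_top_iff.2 fun i => h _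

theorem DB.functional_eq (b : DB A M) {N : Type*} [AddCommGroup N] [Module A N] (φ : M →ₗ[A] N)
    (x : M) : φ x = ∑ i, b.f i x • φ (b.e i) := by
  conv_lhs => rw [← b.h x]
  rw [map_sum]
  simp_rw [map_smul]

end

section BC

variable {A : Type u} {B : Type v} [CommRing A] [CommRing B] (g : A →+* B)
variable {M : Type w} [AddCommGroup M] [Module A M]

/-- Base change of a functional. -/
def bcFun (φ : M →ₗ[A] A) : BC g M →ₗ[B] B :=
  BC.lift g ((semilinearOfRingHom g).comp φ)

@[simp] theorem bcFun_tmul (φ : M →ₗ[A] A) (b : B) (x : M) :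
    bcFun g φ (BC.tmul g b x) = b * g (φ x) := by
  rw [bcFun, BC.lift_tmul]; rfl

/-- Base change of a dual basis. -/
def DB.bc (b : DB A M) : DB B (BC g M) where
  n := b.n
  e i := BC.tmul g 1 (b.e i)
  f i := bcFun g (b.f i)
  h z := by
    induction z using BC.induction_on g with
    | zero => simp
    | tmul c x =>
      conv_rhs => rw [← b.h x]
      simp only [bcFun_tmul, BC.smul_tmul, mul_one, BC.tmul_mul_apply]
      have : ∀ s : Finset (Fin b.n), BC.tmul g c (∑ i ∈ s, b.f i x • b.e i) =
          ∑ i ∈ s, BC.tmul g c (b.f i x • b.e i) := by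
        intro s
        classical
        induction s using Finset.induction_on with
        | empty => simp
        | insert a s ha ih => rw [Finset.sum_insert ha, Finset.sum_insert ha, BC.tmul_add, ih]
      rw [this]
    | add z₁ z₂ h₁ h₂ =>
      conv_rhs => rw [← h₁, ← h₂]
      rw [← Finset.sum_add_distrib]
      simp_rw [map_add, add_smul]

instance bc_finite [Module.Finite A M] [Module.Projective A M] : Module.Finite B (BC g M) := by
  obtain ⟨b⟩ := exists_db (A := A) (M := M)
  exact (b.bc g).finite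

instance bc_projective [Module.Finite A M] [Module.Projective A M] :
    Module.Projective B (BC g M) := by
  obtain ⟨b⟩ := exists_db (A := A) (M := M)
  exact (b.bc g).projective

theorem tmul_one_mem_iff [Module.Finite A M] [Module.Projective A M] {𝔠 : Ideal B} {x : M} :
    BC.tmul g 1 x ∈ 𝔠 • (⊤ : Submodule B (BC g M)) ↔
      x ∈ (𝔠.comap g) • (⊤ : Submodule A M) := by
  obtain ⟨b⟩ := exists_db (A := A) (M := M)
  rw [(b.bc g).mem_smul_top_iff, b.mem_smul_top_iff]
  refine forall_congr' fun i => ?_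
  change bcFun g (b.f i) (BC.tmul g 1 x) ∈ 𝔠 ↔ _
  rw [bcFun_tmul, one_mul, Ideal.mem_comap]

theorem tmul_one_eq_zero_iff [Module.Finite A M] [Module.Projective A M] {x : M} :
    BC.tmul g 1 x = 0 ↔ x ∈ (RingHom.ker g) • (⊤ : Submodule A M) := by
  have := tmul_one_mem_iff g (𝔠 := ⊥) (x := x)
  rw [Submodule.bot_smul, Submodule.mem_bot] at this
  exact this

theorem tmul_one_injective [Module.Finite A M] [Module.Projective A M]
    (hg : Function.Injective g) {x y : M} (h : BC.tmul g 1 x = BC.tmul g 1 y) : x = y := by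
  rw [← sub_eq_zero]
  have h1 : BC.tmul g 1 (x - y) = 0 := by
    rw [sub_eq_add_neg, BC.tmul_add, BC.tmul_neg, h, add_neg_cancel]
  rw [tmul_one_eq_zero_iff, (RingHom.injective_iff_ker_eq_bot g).1 hg, Submodule.bot_smul,
    Submodule.mem_bot] at h1
  exact h1

omit [Module A M] in
theorem tmul_one_surjective [Module A M] (hg : Function.Surjective g) (z : BC g M) :
    ∃ x : M, BC.tmul g 1 x = z := by
  induction z using BC.induction_on g with
  | zero => exact ⟨0, by simp⟩
  | tmul b x =>
    obtain ⟨a, rfl⟩ := hg b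
    exact ⟨a • x, (BC.tmul_apply_eq g a x).symm⟩
  | add z₁ z₂ h₁ h₂ =>
    obtain ⟨x, rfl⟩ := h₁
    obtain ⟨y, rfl⟩ := h₂
    exact ⟨x + y, BC.tmul_add g 1 x y⟩

theorem span_tmul_one : Submodule.span B (Set.range fun x : M => BC.tmul g 1 x) = ⊤ := by
  rw [eq_top_iff]
  rintro z -
  induction z using BC.induction_on g with
  | zero => exact Submodule.zero_mem _
  | tmul b x =>
    rw [BC.tmul_eq_smul_tmul_one]
    exact Submodule.smul_mem _ _ (Submodule.subset_span ⟨x, rfl⟩)
  | add z₁ z₂ h₁ h₂ => exact Submodule.add_mem _ h₁ h₂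

theorem map_comp_apply {M' M'' : Type*} [AddCommGroup M'] [Module A M'] [AddCommGroup M''] [Module A M'']
    (φ : M →ₗ[A] M') (ψ : M' →ₗ[A] M'') (z : BC g M) :
    BC.map g (ψ.comp φ) z = BC.map g ψ (BC.map g φ z) := by
  have : BC.map g (ψ.comp φ) = (BC.map g ψ).comp (BC.map g φ) := by
    apply BC.ext; intro x; simp
  rw [this]; rfl

theorem map_add' {M' : Type*} [AddCommGroup M'] [Module A M'] (φ ψ : M →ₗ[A] M') :
    BC.map g (φ + ψ) = BC.map g φ + BC.map g ψ := by
  apply BC.ext; intro x; simp [BC.tmul_add]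

theorem map_smul' {M' : Type*} [AddCommGroup M'] [Module A M'] (a : A) (φ : M →ₗ[A] M') :
    BC.map g (a • φ) = g a • BC.map g φ := by
  apply BC.ext; intro x
  rw [BC.map_tmul, LinearMap.smul_apply, LinearMap.smul_apply, BC.map_tmul, ← BC.tmul_apply_eq,
    BC.tmul_eq_smul_tmul_one]

/-- Semilinear extension along a commuting square of ring maps. -/
def bcSemi {M' : Type*} [AddCommGroup M'] [Module A M'] {σA : A →+* A} {σB : B →+* B}
    (hσ : σB.comp g = g.comp σA) (Φ : M →ₛₗ[σA] M') :
    BC g M →ₛₗ[σB] BC g M' :=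
  (BC.lift (σB.comp g)
    ({ toFun := fun x => BC.tmul g 1 (Φ x)
       map_add' := fun x y => by rw [map_add, BC.tmul_add]
       map_smul' := fun a x => by
        rw [LinearMap.map_smulₛₗ, ← BC.tmul_apply_eq, BC.tmul_eq_smul_tmul_one, hσ]; rfl } :
        M →ₛₗ[σB.comp g] BC g M')).comp (BC.push g σB)

@[simp] theorem bcSemi_tmul {M' : Type*} [AddCommGroup M'] [Module A M'] {σA : A →+* A} {σB : B →+* B}
    (hσ : σB.comp g = g.comp σA) (Φ : M →ₛₗ[σA] M') (b : B) (x : M) :
    bcSemi g hσ Φ (BC.tmul g b x) = BC.tmul g (σB b) (Φ x) := by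
  rw [bcSemi, LinearMap.comp_apply, BC.push_tmul, BC.lift_tmul, BC.tmul_eq_smul_tmul_one]
  rfl

end BC

end K789.DualBasis
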