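import Groth.Agent.Disp.K789.Complete
import Groth.Agent.Disp.K789.Basic
import Groth.Agent.Disp.K789.DualBasis
import Mathlib.Tactic.NoncommRing

/-!
# Lifting idempotents modulo `I_R` and normal decompositions
-/

set_option autoImplicit false

universe u v w

noncomputable section

namespace K789.IdemLift

open WittVector W4c1extbt610 K789.DualBasis K789.WittComplete K789.DispBasic

variable {p : ℕ} [hp : Fact p.Prime] {R : Type u} [CommRing R]
variable {P : Type v} [AddCommGroup P] [Module (WittVector p R) P]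

local notation "W" => WittVector p R

/-- The ideal `p^k I_R`. -/
def pIV (p : ℕ) [Fact p.Prime] (R : Type u) [CommRing R] (k : ℕ) : Ideal (WittVector p R) :=
  Ideal.span {(p : WittVector p R) ^ k} * IV p R

theorem mem_pIV {k : ℕ} {x : W} : x ∈ pIV p R k ↔ ∃ w : W, (p : W) ^ k * verschiebung w = x := by
  rw [pIV, Ideal.mem_span_singleton_mul]
  constructor
  · rintro ⟨z, hz, rfl⟩
    obtain ⟨w, rfl⟩ := mem_IV_iff_exists.1 hz
    exact ⟨w, rfl⟩
  · rintro ⟨w, rfl⟩
    exact ⟨_, verschiebung_mem_IV p R w, rfl⟩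

theorem IV_mul_IV_le : IV p R * IV p R ≤ pIV p R 1 := by
  rw [Ideal.mul_le]
  intro a ha b hb
  obtain ⟨a, rfl⟩ := mem_IV_iff_exists.1 ha
  obtain ⟨b, rfl⟩ := mem_IV_iff_exists.1 hb
  rw [mem_pIV]
  refine ⟨a * b, ?_⟩
  rw [← verschiebung_mul_frobenius a, frobenius_verschiebung, ← mul_assoc]
  have h := verschiebung_mul_frobenius (a * b) (p : W)
  rw [map_natCast] at h
  rw [h, pow_one, mul_comm]

theorem pIV_mul_le (j k : ℕ) : pIV p R j * pIV p R k ≤ pIV p R (j + k + 1) := by
  have h1 : pIV p R j * pIV p R k =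
      Ideal.span {(p : W) ^ (j + k)} * (IV p R * IV p R) := by
    rw [pIV, pIV, pow_add, ← Ideal.span_singleton_mul_span_singleton]
    ring
  have h2 : pIV p R (j + k + 1) = Ideal.span {(p : W) ^ (j + k)} * pIV p R 1 := by
    rw [pIV, pIV, pow_succ, ← Ideal.span_singleton_mul_span_singleton, pow_one, mul_assoc]
  rw [h1, h2]
  exact Ideal.mul_mono_right IV_mul_IV_le

theorem pIV_antitone {j k : ℕ} (h : j ≤ k) : pIV p R k ≤ pIV p R j := by
  rw [pIV, pIV]
  exact Ideal.mul_mono_left (Ideal.span_singleton_le_span_singleton.2 (pow_dvd_pow _ h))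

/-- Endomorphisms with values in `𝔠 P`. -/
def InEnd (𝔠 : Ideal W) (a : Module.End W P) : Prop :=
  ∀ x : P, a x ∈ 𝔠 • (⊤ : Submodule W P)

theorem InEnd.mono {𝔠 𝔡 : Ideal W} (h : 𝔠 ≤ 𝔡) {a : Module.End W P} (ha : InEnd 𝔠 a) : InEnd 𝔡 a :=
  fun x => Submodule.smul_mono_left h (ha x)

theorem InEnd.add {𝔠 : Ideal W} {a b : Module.End W P} (ha : InEnd 𝔠 a) (hb : InEnd 𝔠 b) :
    InEnd 𝔠 (a + b) := fun x => Submodule.add_mem _ (ha x) (hb x)

theorem InEnd.mul_right {𝔠 : Ideal W} {a : Module.End W P} (ha : InEnd 𝔠 a) (b : Module.End W P) :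
    InEnd 𝔠 (a * b) := fun x => ha (b x)

theorem InEnd.mul {𝔠 𝔡 : Ideal W} {a b : Module.End W P} (ha : InEnd 𝔠 a) (hb : InEnd 𝔡 b) :
    InEnd (𝔠 * 𝔡) (a * b) := by
  intro x
  refine Submodule.smul_induction_on (p := fun y => a y ∈ (𝔠 * 𝔡) • (⊤ : Submodule W P)) (hb x) ?_ ?_
  · intro r hr n _
    rw [map_smul, mul_comm 𝔠 𝔡, Submodule.mul_smul]
    exact Submodule.smul_mem_smul hr (ha n)
  · intro y z hy hz
    rw [map_add]
    exact Submodule.add_mem _ hy hz

/-- If `a` has values in `p^k I P`, it is `p^k b` with `b` having values in `I P`. -/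
theorem exists_div (b : DB W P) {k : ℕ} {a : Module.End W P} (ha : InEnd (pIV p R k) a) :
    ∃ c : Module.End W P, InEnd (IV p R) c ∧ a = (p : W) ^ k • c := by
  have h : ∀ i j, ∃ w : W, (p : W) ^ k * verschiebung w = b.f i (a (b.e j)) := fun i j =>
    mem_pIV.1 (b.mem_smul_top_iff.1 (ha (b.e j)) i)
  choose w hw using h
  refine ⟨∑ j, (b.f j).smulRight (∑ i, verschiebung (w i j) • b.e i), ?_, ?_⟩
  · intro x
    rw [LinearMap.sum_apply]
    refine Submodule.sum_mem _ fun j _ => ?_
    rw [LinearMap.smulRight_apply]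
    refine Submodule.smul_mem _ _ (Submodule.sum_mem _ fun i _ => ?_)
    exact Submodule.smul_mem_smul (verschiebung_mem_IV p R _) Submodule.mem_top
  · ext x
    rw [b.functional_eq a x, LinearMap.smul_apply, LinearMap.sum_apply, Finset.smul_sum]
    refine Finset.sum_congr rfl fun j _ => ?_
    rw [LinearMap.smulRight_apply, smul_comm, Finset.smul_sum]
    conv_lhs => rw [← b.h (a (b.e j))]
    congr 1
    refine Finset.sum_congr rfl fun i _ => ?_
    rw [← hw i j, mul_smul]

/-- Convergent series of endomorphisms. -/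
theorem exists_tails_end [IsAdicComplete (Ideal.span {(p : R)}) R] (b : DB W P)
    (d : ℕ → Module.End W P) (hd : ∀ k, InEnd (IV p R) (d k)) :
    ∃ s : ℕ → Module.End W P, (∀ n, InEnd (IV p R) (s n)) ∧ ∀ n, s n = d n + (p : W) • s (n + 1) := by
  have h : ∀ i j k, ∃ w : W, verschiebung w = b.f i (d k (b.e j)) := fun i j k =>
    mem_IV_iff_exists.1 (b.mem_smul_top_iff.1 (hd k (b.e j)) i)
  choose w hw using h
  have h2 : ∀ i j, ∃ s : ℕ → W, ∀ n, s n = w i j n + (p : W) * s (n + 1) := fun i j =>
    exists_tails (w i j)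
  choose s hs using h2
  refine ⟨fun n => ∑ j, (b.f j).smulRight (∑ i, verschiebung (s i j n) • b.e i), ?_, ?_⟩
  · intro n x
    rw [LinearMap.sum_apply]
    refine Submodule.sum_mem _ fun j _ => ?_
    rw [LinearMap.smulRight_apply]
    refine Submodule.smul_mem _ _ (Submodule.sum_mem _ fun i _ => ?_)
    exact Submodule.smul_mem_smul (verschiebung_mem_IV p R _) Submodule.mem_top
  · intro n
    ext x
    rw [LinearMap.add_apply, LinearMap.smul_apply, LinearMap.sum_apply, LinearMap.sum_apply,
      b.functional_eq (d n) x, Finset.smul_sum, ← Finset.sum_add_distrib]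
    refine Finset.sum_congr rfl fun j _ => ?_
    rw [LinearMap.smulRight_apply, LinearMap.smulRight_apply, smul_comm, ← smul_add]
    congr 1
    conv_rhs => rw [← b.h (d n (b.e j))]
    rw [Finset.smul_sum, ← Finset.sum_add_distrib]
    refine Finset.sum_congr rfl fun i _ => ?_
    rw [hs i j n, map_add, add_smul, hw i j n, smul_smul]
    congr 2
    have h := verschiebung_mul_frobenius (s i j (n + 1)) (p : W)
    rw [map_natCast] at h
    rw [mul_comm (p : W), h, mul_comm]

/-- Lifting idempotents of `End P` modulo `I_R`. -/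
theorem exists_idempotent_lift [IsAdicComplete (Ideal.span {(p : R)}) R]
    [Module.Finite W P] [Module.Projective W P] (e₀ : Module.End W P)
    (he₀ : InEnd (IV p R) (e₀ * e₀ - e₀)) :
    ∃ e : Module.End W P, e * e = e ∧ InEnd (IV p R) (e - e₀) := by
  obtain ⟨b⟩ := exists_db (A := W) (M := P)
  let E : ℕ → Module.End W P := fun k => (fun a => 3 * (a * a) - 2 * (a * a * a))^[k] e₀
  have hE : ∀ k, E (k + 1) = 3 * (E k * E k) - 2 * (E k * E k * E k) := by
    intro k
    simp only [E]
    rw [Function.iterate_succ_apply']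
  have hx : ∀ k, InEnd (pIV p R k) (E k * E k - E k) := by
    intro k
    induction k with
    | zero =>
      refine InEnd.mono (𝔠 := IV p R) ?_ he₀
      rw [pIV]; simp
    | succ k ih =>
      have h1 : E (k + 1) * E (k + 1) - E (k + 1) =
          (E k * E k - E k) * (E k * E k - E k) * (4 * (E k * E k - E k) - 3) := by
        rw [hE]; noncomm_ring
      rw [h1]
      refine InEnd.mono (pIV_antitone (show k + 1 ≤ k + k + 1 by omega)) (InEnd.mono (pIV_mul_le k k) ?_)
      exact InEnd.mul_right (InEnd.mul ih ih) _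
  have hd : ∀ k, ∃ c : Module.End W P, InEnd (IV p R) c ∧ E (k + 1) - E k = (p : W) ^ k • c := by
    intro k
    apply exists_div b
    have h1 : E (k + 1) - E k = (E k * E k - E k) * (1 - 2 * E k) := by
      rw [hE]; noncomm_ring
    rw [h1]
    exact InEnd.mul_right (hx k) _
  choose d hd1 hd2 using hd
  obtain ⟨s, hs1, hs2⟩ := exists_tails_end b d hd1
  have key : ∀ n, e₀ + s 0 = E n + (p : W) ^ n • s n := by
    intro n
    induction n with
    | zero => simp [E]
    | succ n ih =>
      rw [ih, hs2 n, smul_add, ← hd2 n, smul_smul, ← pow_succ]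
      abel
  refine ⟨e₀ + s 0, ?_, ?_⟩
  · rw [← sub_eq_zero]
    ext x
    rw [LinearMap.zero_apply]
    -- all coordinates vanish
    have hW := isHausdorff_witt (p := p) (R := R)
    have hcoord : ∀ φ : P →ₗ[W] W, φ (((e₀ + s 0) * (e₀ + s 0) - (e₀ + s 0)) x) = 0 := by
      intro φ
      refine hW.haus _ fun n => ?_
      rw [SModEq.zero, smul_eq_mul, Ideal.mul_top, Ideal.span_singleton_pow]
      have h1 : (e₀ + s 0) * (e₀ + s 0) - (e₀ + s 0) = (E n * E n - E n) +
          (p : W) ^ n • (E n * s n + s n * E n + (p : W) ^ n • (s n * s n) - s n) := by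
        rw [key n]
        simp only [add_mul, mul_add, smul_mul_assoc, mul_smul_comm, smul_add, smul_sub, smul_smul]
        abel
      rw [h1, LinearMap.add_apply, map_add]
      refine Ideal.add_mem _ ?_ ?_
      · have := apply_mem_of_mem_smul_top (hx n x) φ
        exact Ideal.mul_le_left this
      · rw [LinearMap.smul_apply, map_smul, smul_eq_mul]
        exact Ideal.mul_mem_right _ _ (Ideal.mem_span_singleton_self _)
    rw [← b.h (((e₀ + s 0) * (e₀ + s 0) - (e₀ + s 0)) x)]
    refine Finset.sum_eq_zero fun i _ => ?_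
    rw [hcoord, zero_smul]
  · rw [add_sub_cancel_left]
    exact hs1 0

theorem exists_normal [IsAdicComplete (Ideal.span {(p : R)}) R]
    [Module.Finite W P] [Module.Projective W P] (Q C : Submodule W P) (hQC : Q ⊔ C = ⊤)
    (hQC' : Q ⊓ C = IV p R • (⊤ : Submodule W P)) :
    ∃ L T : Submodule W P, IsCompl L T ∧ Q = L ⊔ IV p R • T := by
  obtain ⟨b⟩ := exists_db (A := W) (M := P)
  have hdec : ∀ x : P, ∃ q c : P, q ∈ Q ∧ c ∈ C ∧ q + c = x := by
    intro x
    have : x ∈ Q ⊔ C := hQC ▸ Submodule.mem_top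
    obtain ⟨q, hq, c, hc, h⟩ := Submodule.mem_sup.1 this
    exact ⟨q, c, hq, hc, h⟩
  choose q c hq hc hqc using hdec
  let e₀ : Module.End W P := ∑ i, (b.f i).smulRight (q (b.e i))
  have he₀ : ∀ x, e₀ x = ∑ i, b.f i x • q (b.e i) := by
    intro x
    simp only [e₀, LinearMap.sum_apply, LinearMap.smulRight_apply]
  have h1 : ∀ x, e₀ x ∈ Q := by
    intro x
    rw [he₀]
    exact Submodule.sum_mem _ fun i _ => Submodule.smul_mem _ _ (hq _)
  have h2 : ∀ x, x - e₀ x ∈ C := by
    intro x
    have : x - e₀ x = ∑ i, b.f i x • c (b.e i) := by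
      rw [he₀]
      conv_lhs => lhs; rw [← b.h x]
      rw [← Finset.sum_sub_distrib]
      refine Finset.sum_congr rfl fun i _ => ?_
      rw [← smul_sub]
      congr 1
      rw [sub_eq_iff_eq_add', hqc]
    rw [this]
    exact Submodule.sum_mem _ fun i _ => Submodule.smul_mem _ _ (hc _)
  have h3 : ∀ x ∈ Q, x - e₀ x ∈ IV p R • (⊤ : Submodule W P) := by
    intro x hx
    rw [← hQC']
    exact ⟨Submodule.sub_mem _ hx (h1 x), h2 x⟩
  have h4 : InEnd (IV p R) (e₀ * e₀ - e₀) := by
    intro x
    have := h3 (e₀ x) (h1 x)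
    rw [← neg_sub]
    exact Submodule.neg_mem _ this
  obtain ⟨e, he, he'⟩ := exists_idempotent_lift e₀ h4
  have hidem : ∀ x, e (e x) = e x := fun x => LinearMap.congr_fun he x
  refine ⟨LinearMap.range e, LinearMap.ker e, ?_, ?_⟩
  · exact (LinearMap.IsIdempotentElem.isCompl (show IsIdempotentElem e from he))
  · have hIV : IV p R • (⊤ : Submodule W P) ≤ Q := by
      rw [← hQC']; exact inf_le_left
    apply le_antisymm
    · intro y hy
      rw [Submodule.mem_sup]
      refine ⟨e y, ⟨y, rfl⟩, y - e y, ?_, by abel⟩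
      have h5 : y - e y ∈ IV p R • (⊤ : Submodule W P) := by
        have h6 := Submodule.sub_mem _ (h3 y hy) (he' y)
        rwa [LinearMap.sub_apply, sub_sub_sub_cancel_right] at h6
      -- apply `1 - e`
      have h7 : y - e y = (1 - e : Module.End W P) (y - e y) := by
        simp [hidem]
      rw [h7]
      refine Submodule.smul_induction_on (p := fun z => (1 - e : Module.End W P) z ∈ IV p R • LinearMap.ker e)
        h5 ?_ ?_
      · intro r hr n _
        rw [map_smul]
        refine Submodule.smul_mem_smul hr ?_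
        rw [LinearMap.mem_ker]
        simp [hidem]
      · intro x y hx hy
        rw [map_add]
        exact Submodule.add_mem _ hx hy
    · apply sup_le
      · rintro _ ⟨x, rfl⟩
        have h5 : e x = e₀ x + (e - e₀) x := by simp
        rw [h5]
        exact Submodule.add_mem _ (h1 x) (hIV (he' x))
      · exact (Submodule.smul_mono le_rfl le_top).trans hIV

end K789.IdemLift
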