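import Groth.Agent.Disp.K789.DieuProj
import Groth.Agent.Disp.K789.IdemLift

/-!
# The 3n-display of a Dieudonné module over a perfect ring
-/

set_option autoImplicit false

universe u v w

noncomputable section

namespace K789.DieuDisp

open WittVector W4c1extbt610 K789.DispBasic K789.DualBasis K789.DieuTop K789.DieuProj

variable {p : ℕ} [hp : Fact p.Prime] {k : Type u} [CommRing k] [CharP k p] [PerfectRing k p]

theorem IV_eq : IV p k = Ideal.span {(p : WittVector p k)} := by
  ext x
  rw [mem_IV_iff_coeff_zero, mem_span_p_iff]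

variable {M : Type v} [AddCommGroup M] [Module (WittVector p k) M]
  [Module.Finite (WittVector p k) M] [Module.Projective (WittVector p k) M]
  (F : M →ₛₗ[(WittVector.frobenius : WittVector p k →+* WittVector p k)] M)
  (V : M →ₛₗ[((WittVector.frobeniusEquiv p k).symm : WittVector p k →+* WittVector p k)] M)

omit [Module.Finite (WittVector p k) M] in
theorem eq_zero_of_p_smul {m : M} [Module.Finite (WittVector p k) M]
    (h : (p : WittVector p k) • m = 0) : m = 0 := by
  obtain ⟨b⟩ := exists_db (A := WittVector p k) (M := M)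
  rw [← b.h m]
  refine Finset.sum_eq_zero fun i _ => ?_
  have : b.f i m * (p : WittVector p k) = 0 := by
    rw [mul_comm, ← smul_eq_mul, ← map_smul, h, map_zero]
  rw [WittVector.eq_zero_of_p_mul_eq_zero _ this, zero_smul]

omit [Module.Finite (WittVector p k) M] in
theorem V_injective [Module.Finite (WittVector p k) M]
    (hFV : ∀ m : M, F (V m) = (p : WittVector p k) • m) : Function.Injective V := by
  rw [injective_iff_map_eq_zero]
  intro m hm
  refine eq_zero_of_p_smul (p := p) (k := k) ?_
  rw [← hFV, hm, map_zero]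

omit [Module.Finite (WittVector p k) M] [Module.Projective (WittVector p k) M] in
theorem frob_symm (a : WittVector p k) : (WittVector.frobenius : WittVector p k →+* WittVector p k)
    (((WittVector.frobeniusEquiv p k).symm : WittVector p k →+* WittVector p k) a) = a :=
  (WittVector.frobeniusEquiv p k).apply_symm_apply a

omit [Module.Finite (WittVector p k) M] [Module.Projective (WittVector p k) M] in
theorem symm_frob (a : WittVector p k) :
    ((WittVector.frobeniusEquiv p k).symm : WittVector p k →+* WittVector p k)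
      ((WittVector.frobenius : WittVector p k →+* WittVector p k) a) = a :=
  (WittVector.frobeniusEquiv p k).symm_apply_apply a

/-- The image of `V`. -/
def QV : Submodule (WittVector p k) M where
  carrier := Set.range V
  zero_mem' := ⟨0, map_zero _⟩
  add_mem' := by
    rintro _ _ ⟨x, rfl⟩ ⟨y, rfl⟩
    exact ⟨x + y, map_add _ _ _⟩
  smul_mem' := by
    rintro a _ ⟨x, rfl⟩
    refine ⟨(WittVector.frobenius : WittVector p k →+* WittVector p k) a • x, ?_⟩
    rw [LinearMap.map_smulₛₗ, symm_frob]

omit [Module.Finite (WittVector p k) M] [Module.Projective (WittVector p k) M] in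
theorem p_smul_mem (hVF : ∀ m : M, V (F m) = (p : WittVector p k) • m) (m : M) :
    (p : WittVector p k) • m ∈ QV V := ⟨F m, hVF m⟩

omit [Module.Finite (WittVector p k) M] [Module.Projective (WittVector p k) M] in
theorem IV_smul_le (hVF : ∀ m : M, V (F m) = (p : WittVector p k) • m) :
    IV p k • (⊤ : Submodule (WittVector p k) M) ≤ QV V := by
  rw [IV_eq, Submodule.smul_le]
  intro a ha m _
  obtain ⟨c, rfl⟩ := Ideal.mem_span_singleton.1 ha
  rw [mul_smul]
  exact p_smul_mem F V hVF _

theorem exists_normal (hFV : ∀ m : M, F (V m) = (p : WittVector p k) • m)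
    (hVF : ∀ m : M, V (F m) = (p : WittVector p k) • m) :
    ∃ L T : Submodule (WittVector p k) M, IsCompl L T ∧ QV V = L ⊔ IV p k • T := by
  have hcomp : IsAdicComplete (Ideal.span {(p : k)}) k :=
    K789.WittComplete.isAdicComplete_of_isNilpotent
      (by rw [CharP.cast_eq_zero]; exact IsNilpotent.zero)
  obtain ⟨b⟩ := exists_db (A := WittVector p k) (M := M)
  have hproj := projective (A := WittVector p k) Function.surjective_id
    (fun x hx => by
      have h1 : x = 0 := hx
      rw [h1]
      exact Ideal.zero_mem _) b F V hFV hVF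
  set I : Ideal (WittVector p k) := Ideal.span {(p : WittVector p k)} with hI
  set q := (I • (⊤ : Submodule (WittVector p k) M)).mkQ with hq
  set K := Submodule.span (WittVector p k ⧸ I) (Set.range fun m : M => q (V m)) with hK
  have hqs : ∀ (w : WittVector p k) (x : M), q (w • x) = (Ideal.Quotient.mk I w) • q x :=
    fun w x => rfl
  have hKmem : ∀ z, z ∈ K ↔ ∃ m : M, q (V m) = z := by
    intro z
    constructor
    · intro hz
      refine Submodule.span_induction ?_ ?_ ?_ ?_ hz
      · rintro _ ⟨m, rfl⟩
        exact ⟨m, rfl⟩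
      · exact ⟨0, by rw [map_zero, map_zero]⟩
      · rintro _ _ - - ⟨x, rfl⟩ ⟨y, rfl⟩
        exact ⟨x + y, by rw [map_add, map_add]⟩
      · rintro a _ - ⟨x, rfl⟩
        obtain ⟨a, rfl⟩ := Ideal.Quotient.mk_surjective a
        refine ⟨(WittVector.frobenius a) • x, ?_⟩
        rw [LinearMap.map_smulₛₗ, ← hqs]
        congr 2
        exact (WittVector.frobeniusEquiv p k).symm_apply_apply a
    · rintro ⟨m, rfl⟩
      exact Submodule.subset_span ⟨m, rfl⟩
  obtain ⟨s, hs⟩ := Module.projective_lifting_property K.mkQ LinearMap.id K.mkQ_surjective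
  have hs' : ∀ z, K.mkQ (s z) = z := fun z => LinearMap.congr_fun hs z
  let C : Submodule (WittVector p k) M :=
    { carrier := {x | q x ∈ LinearMap.range s}
      zero_mem' := by
        rw [Set.mem_setOf_eq, map_zero]; exact Submodule.zero_mem _
      add_mem' := by
        intro x y hx hy
        rw [Set.mem_setOf_eq] at hx hy ⊢
        rw [map_add]; exact Submodule.add_mem _ hx hy
      smul_mem' := by
        intro a x hx
        rw [Set.mem_setOf_eq] at hx ⊢
        rw [hqs]; exact Submodule.smul_mem _ _ hx }
  have hC : ∀ x, x ∈ C ↔ q x ∈ LinearMap.range s := fun x => Iff.rfl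
  have hqI : ∀ x, q x = 0 ↔ x ∈ I • (⊤ : Submodule (WittVector p k) M) := by
    intro x
    rw [hq, Submodule.mkQ_apply, Submodule.Quotient.mk_eq_zero]
  have hIV : IV p k = I := IV_eq
  have hIQ : I • (⊤ : Submodule (WittVector p k) M) ≤ QV V := by
    rw [← hIV]; exact IV_smul_le F V hVF
  have hQ : ∀ x, x ∈ QV V ↔ q x ∈ K := by
    intro x
    rw [hKmem]
    constructor
    · rintro ⟨m, rfl⟩
      exact ⟨m, rfl⟩
    · rintro ⟨m, hm⟩
      have h1 : x - V m ∈ QV V := by
        apply hIQ
        rw [← hqI, map_sub, hm, sub_self]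
      rw [← sub_add_cancel x (V m)]
      exact Submodule.add_mem _ h1 ⟨m, rfl⟩
  refine K789.IdemLift.exists_normal (QV V) C ?_ ?_
  · rw [eq_top_iff]
    intro x _
    obtain ⟨y, hy⟩ := Submodule.mkQ_surjective _ (s (K.mkQ (q x)))
    rw [← sub_add_cancel x y]
    refine Submodule.add_mem_sup ?_ ?_
    · rw [hQ, ← Submodule.Quotient.mk_eq_zero, ← Submodule.mkQ_apply, map_sub, map_sub]
      change K.mkQ (q x) - K.mkQ (q y) = 0
      rw [show q y = s (K.mkQ (q x)) from hy, hs', sub_self]
    · rw [hC]
      exact ⟨_, hy.symm⟩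
  · rw [hIV]
    apply le_antisymm
    · rintro x ⟨hx1, hx2⟩
      rw [SetLike.mem_coe] at hx1 hx2
      rw [hQ] at hx1
      obtain ⟨z, hz⟩ := (hC x).1 hx2
      rw [← hqI, ← hz]
      have : z = 0 := by
        rw [← hs' z, hz, Submodule.mkQ_apply, Submodule.Quotient.mk_eq_zero]
        exact hx1
      rw [this, map_zero]
    · refine le_inf hIQ ?_
      intro x hx
      rw [hC, (hqI x).2 hx]
      exact Submodule.zero_mem _

/-- The inverse of `V` on its image. -/
def VinvQ (hFV : ∀ m : M, F (V m) = (p : WittVector p k) • m) :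
    QV V →ₛₗ[(WittVector.frobenius : WittVector p k →+* WittVector p k)] M where
  toFun x := x.2.choose
  map_add' x y := by
    apply V_injective F V hFV
    rw [(x + y).2.choose_spec, map_add, x.2.choose_spec, y.2.choose_spec]
    rfl
  map_smul' a x := by
    apply V_injective F V hFV
    rw [(a • x).2.choose_spec, LinearMap.map_smulₛₗ, x.2.choose_spec, symm_frob]
    rfl

theorem VinvQ_apply (hFV : ∀ m : M, F (V m) = (p : WittVector p k) • m) (m : M)
    (h : V m ∈ QV V) : VinvQ F V hFV ⟨V m, h⟩ = m := by
  apply V_injective F V hFV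
  exact (⟨V m, h⟩ : QV V).2.choose_spec

/-- The 3n-display of a Dieudonné module. -/
def display (hFV : ∀ m : M, F (V m) = (p : WittVector p k) • m)
    (hVF : ∀ m : M, V (F m) = (p : WittVector p k) • m) : Display3n p k M where
  Q := QV V
  F := F
  Vinv := VinvQ F V hFV
  finite := inferInstance
  projective := inferInstance
  IV_smul_le := IV_smul_le F V hVF
  exists_normal := exists_normal F V hFV hVF
  span_range_Vinv := by
    rw [eq_top_iff]
    intro m _
    exact Submodule.subset_span ⟨⟨V m, ⟨m, rfl⟩⟩, VinvQ_apply F V hFV m _⟩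
  Vinv_verschiebung_smul w x := by
    obtain ⟨w, rfl⟩ := (WittVector.frobenius_bijective p k).2 w
    have h1 : WittVector.verschiebung (WittVector.frobenius w) • x = V (WittVector.frobenius w • F x) := by
      rw [verschiebung_frobenius, LinearMap.map_smulₛₗ, hVF, mul_smul]
      congr 1
      exact ((WittVector.frobeniusEquiv p k).symm_apply_apply w).symm
    have h2 : ∀ (z : M) (hz : z ∈ QV V) (m : M), z = V m → VinvQ F V hFV ⟨z, hz⟩ = m := by
      rintro _ hz m rfl
      exact VinvQ_apply F V hFV m hz
    exact h2 _ _ _ h1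

end K789.DieuDisp
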