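import Mathlib.RingTheory.LocalRing.Module
import Mathlib.RingTheory.LocalProperties.Projective
import Mathlib.RingTheory.LocalRing.ResidueField.Ideal
import Mathlib.LinearAlgebra.TensorProduct.Tower

/-!
# A criterion for the quotient of a projective module to be projective
-/

set_option autoImplicit false

universe u v

noncomputable section

namespace K789.ProjQuot

open TensorProduct

variable {R : Type u} [CommRing R]

/-- injectivity over the residue field, checked modulo the maximal ideal -/
theorem lTensor_residueField_injective {M : Type*} {N : Type*} [AddCommGroup M] [Module R M]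
    [AddCommGroup N] [Module R N] (𝔪 : Ideal R) [𝔪.IsMaximal] (f : M →ₗ[R] N)
    (h : (𝔪 • (⊤ : Submodule R N)).comap f ≤ 𝔪 • ⊤) :
    Function.Injective (f.lTensor 𝔪.ResidueField) := by
  have key : ∀ (L : Type _) [AddCommGroup L] [Module R L] (y : L),
      (1 : 𝔪.ResidueField) ⊗ₜ[R] y = 0 → y ∈ 𝔪 • (⊤ : Submodule R L) := by
    intro L _ _ y hy
    let e : (R ⧸ 𝔪) →ₗ[R] 𝔪.ResidueField := (Algebra.linearMap (R ⧸ 𝔪) 𝔪.ResidueField).restrictScalars R
    have he : Function.Bijective e := 𝔪.bijective_algebraMap_quotient_residueField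
    let e' : (R ⧸ 𝔪) ≃ₗ[R] 𝔪.ResidueField := LinearEquiv.ofBijective e he
    have h1 : TensorProduct.congr e' (LinearEquiv.refl R L) ((1 : R ⧸ 𝔪) ⊗ₜ[R] y) = 0 := by
      rw [TensorProduct.congr_tmul]
      have : e' (1 : R ⧸ 𝔪) = 1 := map_one (algebraMap (R ⧸ 𝔪) 𝔪.ResidueField)
      rw [this]
      exact hy
    rw [LinearEquiv.map_eq_zero_iff] at h1
    have h2 : y ∈ LinearMap.ker (TensorProduct.mk R (R ⧸ 𝔪) L 1) := h1
    rwa [LinearMap.ker_tensorProductMk] at h2
  have key' : ∀ (L : Type _) [AddCommGroup L] [Module R L] (y : L),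
      y ∈ 𝔪 • (⊤ : Submodule R L) → (1 : 𝔪.ResidueField) ⊗ₜ[R] y = 0 := by
    intro L _ _ y hy
    refine Submodule.smul_induction_on hy ?_ ?_
    · intro r hr n _
      rw [← TensorProduct.smul_tmul, Algebra.smul_def, mul_one]
      have : algebraMap R 𝔪.ResidueField r = 0 := by
        rw [IsScalarTower.algebraMap_apply R (R ⧸ 𝔪) 𝔪.ResidueField]
        have : algebraMap R (R ⧸ 𝔪) r = 0 := Ideal.Quotient.eq_zero_iff_mem.2 hr
        rw [this, map_zero]
      rw [this, TensorProduct.zero_tmul]
    · intro x y hx hy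
      rw [TensorProduct.tmul_add, hx, hy, add_zero]
  rw [injective_iff_map_eq_zero]
  intro z hz
  obtain ⟨y, rfl⟩ := TensorProduct.mk_surjective R M 𝔪.ResidueField
    𝔪.algebraMap_residueField_surjective z
  refine key' _ _ (h ?_)
  rw [Submodule.mem_comap]
  exact key _ _ hz

theorem baseChange_lTensor_injective {M : Type*} {N : Type*} [AddCommGroup M] [Module R M]
    [AddCommGroup N] [Module R N] (𝔪 : Ideal R) [𝔪.IsMaximal] (f : M →ₗ[R] N)
    (h : Function.Injective (f.lTensor 𝔪.ResidueField)) :
    Function.Injective ((f.baseChange (Localization.AtPrime 𝔪)).lTensor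
      (IsLocalRing.ResidueField (Localization.AtPrime 𝔪))) := by
  let S := Localization.AtPrime 𝔪
  let κ := IsLocalRing.ResidueField (Localization.AtPrime 𝔪)
  let eM : κ ⊗[S] (S ⊗[R] M) ≃ₗ[κ] κ ⊗[R] M := AlgebraTensorModule.cancelBaseChange R S κ κ M
  let eN : κ ⊗[S] (S ⊗[R] N) ≃ₗ[κ] κ ⊗[R] N := AlgebraTensorModule.cancelBaseChange R S κ κ N
  have comm : ∀ z, eN ((f.baseChange S).lTensor κ z) = f.lTensor κ (eM z) := by
    intro z
    induction z using TensorProduct.induction_on with
    | zero => simp
    | tmul a w =>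
      induction w using TensorProduct.induction_on with
      | zero => simp
      | tmul b m =>
        simp [eM, eN]
      | add w₁ w₂ h₁ h₂ => simp only [TensorProduct.tmul_add, map_add, h₁, h₂]
    | add z₁ z₂ h₁ h₂ => simp only [map_add, h₁, h₂]
  intro z₁ z₂ hz
  apply eM.injective
  apply h
  change f.lTensor κ (eM z₁) = f.lTensor κ (eM z₂)
  rw [← comm, ← comm]
  exact congrArg eN hz

/-- Let `N` be a finitely generated projective `R`-module and `K` a finitely generated submodule
such that `K ∩ 𝔪 N ⊆ 𝔪 K` for every maximal ideal `𝔪`.  Then `N ⧸ K` is projective. -/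
theorem projective_quotient {N : Type v} [AddCommGroup N] [Module R N] [Module.Finite R N]
    [Module.Projective R N] (K : Submodule R N) (hK : K.FG)
    (h : ∀ 𝔪 : Ideal R, 𝔪.IsMaximal → K ⊓ 𝔪 • ⊤ ≤ 𝔪 • K) : Module.Projective R (N ⧸ K) := by
  have : Module.FinitePresentation R N := Module.finitePresentation_of_projective R N
  have : Module.FinitePresentation R (N ⧸ K) :=
    Module.finitePresentation_of_surjective K.mkQ K.mkQ_surjective (by rwa [K.ker_mkQ])
  have : Module.Finite R K := Module.Finite.iff_fg.2 hK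
  refine Module.projective_of_localization_maximal' (Rₚ := fun P _ => Localization.AtPrime P)
    (Mₚ := fun P _ => Localization.AtPrime P ⊗[R] (N ⧸ K))
    (f := fun P _ => TensorProduct.mk R (Localization.AtPrime P) (N ⧸ K) 1) ?_
  intro 𝔪 h𝔪
  have hinj : Function.Injective (K.subtype.lTensor 𝔪.ResidueField) := by
    refine lTensor_residueField_injective 𝔪 K.subtype ?_
    intro x hx
    have h1 := h 𝔪 h𝔪 ⟨x.2, hx⟩
    have h2 : 𝔪 • K = (𝔪 • (⊤ : Submodule R K)).map K.subtype := by
      rw [Submodule.map_smul'', Submodule.map_top, Submodule.range_subtype]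
    rw [h2] at h1
    obtain ⟨y, hy, hyx⟩ := h1
    have : y = x := Subtype.ext hyx
    rwa [← this]
  have hinj' := baseChange_lTensor_injective 𝔪 K.subtype hinj
  have hfree : Module.Free (Localization.AtPrime 𝔪) (Localization.AtPrime 𝔪 ⊗[R] N) :=
    Module.free_of_flat_of_isLocalRing
  have := Module.free_of_lTensor_residueField_injective (R := Localization.AtPrime 𝔪)
    (K.subtype.baseChange (Localization.AtPrime 𝔪)) (K.mkQ.baseChange (Localization.AtPrime 𝔪))
    (LinearMap.lTensor_surjective _ K.mkQ_surjective)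
    (lTensor_exact (Localization.AtPrime 𝔪) (LinearMap.exact_subtype_mkQ K) K.mkQ_surjective)
    hinj'
  infer_instance

end K789.ProjQuot
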