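import Groth.Agent.Disp.K789.DieuTop
import Groth.Agent.Disp.K789.ProjQuot
import Mathlib.RingTheory.WittVector.Complete

/-!
# Dieudonné modules over perfect rings: `M / V M` is projective
-/

set_option autoImplicit false

universe u v w

noncomputable section

namespace K789.DieuProj

open WittVector K789.DispBasic K789.DualBasis K789.DieuTop

variable {p : ℕ} [hp : Fact p.Prime] {k : Type u} [CommRing k] [CharP k p]

/-- `p` is not in the square of a maximal ideal of `W(k)` for perfect `k`. -/
theorem p_notMem_sq [PerfectRing k p] (𝔐 : Ideal (WittVector p k)) (h𝔐 : 𝔐.IsMaximal)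
    (hp𝔐 : (p : WittVector p k) ∈ 𝔐) : (p : WittVector p k) ∉ 𝔐 ^ 2 := by
  -- the residue field
  have hle : RingHom.ker (WittVector.constantCoeff : WittVector p k →+* k) ≤ 𝔐 := by
    intro x hx
    have : x ∈ Ideal.span {(p : WittVector p k)} := mem_span_p_iff.2 hx
    obtain ⟨c, rfl⟩ := Ideal.mem_span_singleton.1 this
    exact Ideal.mul_mem_right _ _ hp𝔐
  have hsurj : Function.Surjective (WittVector.constantCoeff : WittVector p k →+* k) :=
    WittVector.constantCoeff_surjective p
  let 𝔪 : Ideal k := 𝔐.map (WittVector.constantCoeff : WittVector p k →+* k)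
  have h𝔪 : 𝔪.IsMaximal := by
    refine (Ideal.map_eq_top_or_isMaximal_of_surjective _ hsurj h𝔐).resolve_left ?_
    intro htop
    have : 𝔐 = ⊤ := by
      have h1 := Ideal.comap_map_of_surjective _ hsurj 𝔐
      rw [htop] at h1
      rw [eq_top_iff]
      intro x _
      have h2 : x ∈ Ideal.comap (WittVector.constantCoeff : WittVector p k →+* k) ⊤ := trivial
      rw [h1] at h2
      refine (sup_le le_rfl ?_ : 𝔐 ⊔ _ ≤ 𝔐) h2
      intro y hy
      exact hle (by simpa [RingHom.mem_ker] using hy)
    exact h𝔐.ne_top this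
  let κ := k ⧸ 𝔪
  have : Nontrivial κ := Ideal.Quotient.nontrivial_iff.2 h𝔪.ne_top
  have hpκ : (p : κ) = 0 := by
    have : Ideal.Quotient.mk 𝔪 (p : k) = 0 := by rw [CharP.cast_eq_zero, map_zero]
    rwa [map_natCast] at this
  have hchar : CharP κ p := (CharP.charP_iff_prime_eq_zero hp.out).2 hpκ
  have hdom : IsDomain κ := (Ideal.Quotient.isDomain_iff_prime 𝔪).2 h𝔪.isPrime
  have hperf : PerfectRing κ p := by
    refine PerfectRing.ofSurjective κ p ?_
    intro y
    obtain ⟨a, rfl⟩ := Ideal.Quotient.mk_surjective y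
    obtain ⟨b, rfl⟩ := surjective_frobenius k p a
    exact ⟨Ideal.Quotient.mk 𝔪 b, by simp [frobenius_def]⟩
  let g : WittVector p k →+* WittVector p κ := WittVector.map (Ideal.Quotient.mk 𝔪)
  have hg : 𝔐 ≤ Ideal.comap g (Ideal.span {(p : WittVector p κ)}) := by
    intro x hx
    rw [Ideal.mem_comap, mem_span_p_iff]
    change (WittVector.map (Ideal.Quotient.mk 𝔪) x).coeff 0 = 0
    rw [WittVector.map_coeff, Ideal.Quotient.eq_zero_iff_mem]
    exact Ideal.mem_map_of_mem (WittVector.constantCoeff : WittVector p k →+* k) hx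
  intro hcon
  have h1 : (p : WittVector p κ) ∈ (Ideal.span {(p : WittVector p κ)}) ^ 2 := by
    have h2 : g p ∈ (𝔐 ^ 2).map g := Ideal.mem_map_of_mem g hcon
    rw [Ideal.map_pow] at h2
    have h3 := Ideal.pow_right_mono (Ideal.map_le_iff_le_comap.2 hg) 2 h2
    rwa [map_natCast] at h3
  rw [Ideal.span_singleton_pow, Ideal.mem_span_singleton] at h1
  obtain ⟨c, hc⟩ := h1
  have h2 : (1 - p * c) * (p : WittVector p κ) = 0 := by
    rw [sub_mul, one_mul, sub_eq_zero]
    linear_combination hc
  have h3 : (1 - p * c : WittVector p κ) = 0 := WittVector.eq_zero_of_p_mul_eq_zero _ h2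
  have h4 : (WittVector.constantCoeff : WittVector p κ →+* κ) (1 - p * c) = 0 := by
    rw [h3, map_zero]
  rw [map_sub, map_one, map_mul, map_natCast, hpκ, zero_mul, sub_zero] at h4
  exact one_ne_zero h4

/-- The kernels of `F` and `V` on `M/pM`. -/
theorem comap_eq {M : Type v} [AddCommGroup M] [Module (WittVector p k) M] [PerfectRing k p]
    (hT : ∀ m : M, (p : WittVector p k) • m = 0 →
      m ∈ Ideal.span {(p : WittVector p k)} • (⊤ : Submodule (WittVector p k) M))
    (F : M →ₛₗ[(WittVector.frobenius : WittVector p k →+* WittVector p k)] M)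
    (V : M →ₛₗ[((WittVector.frobeniusEquiv p k).symm : WittVector p k →+* WittVector p k)] M)
    (hFV : ∀ m : M, F (V m) = (p : WittVector p k) • m)
    (hVF : ∀ m : M, V (F m) = (p : WittVector p k) • m) :
    (Ideal.span {(p : WittVector p k)} • (⊤ : Submodule (WittVector p k) M)).comap F =
        Submodule.span (WittVector p k) (Set.range V) ⊔
          Ideal.span {(p : WittVector p k)} • (⊤ : Submodule (WittVector p k) M) ∧
      (Ideal.span {(p : WittVector p k)} • (⊤ : Submodule (WittVector p k) M)).comap V =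
        Submodule.span (WittVector p k) (Set.range F) ⊔
          Ideal.span {(p : WittVector p k)} • (⊤ : Submodule (WittVector p k) M) := by
  have hmem : ∀ x : M, x ∈ Ideal.span {(p : WittVector p k)} • (⊤ : Submodule (WittVector p k) M) ↔
      ∃ y : M, (p : WittVector p k) • y = x := by
    intro x
    rw [Submodule.ideal_span_singleton_smul, Submodule.mem_smul_pointwise_iff_exists]
    simp
  have hVp : ∀ x : M, V ((p : WittVector p k) • x) = (p : WittVector p k) • V x := by
    intro x
    rw [LinearMap.map_smulₛₗ, map_natCast]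
  have hFp : ∀ x : M, F ((p : WittVector p k) • x) = (p : WittVector p k) • F x := by
    intro x
    rw [LinearMap.map_smulₛₗ, map_natCast]
  constructor
  · apply le_antisymm
    · intro m hm
      rw [Submodule.mem_comap, hmem] at hm
      obtain ⟨m', hm'⟩ := hm
      have h1 : (p : WittVector p k) • (m - V m') = 0 := by
        rw [← hVF, map_sub, hFV, hm', sub_self, map_zero]
      rw [← add_sub_cancel (V m') m]
      exact Submodule.add_mem_sup (Submodule.subset_span ⟨m', rfl⟩) (hT _ h1)
    · refine sup_le (Submodule.span_le.2 ?_) ?_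
      · rintro _ ⟨m, rfl⟩
        rw [SetLike.mem_coe, Submodule.mem_comap, hFV, hmem]
        exact ⟨m, rfl⟩
      · intro x hx
        rw [hmem] at hx
        obtain ⟨y, rfl⟩ := hx
        rw [Submodule.mem_comap, hFp, hmem]
        exact ⟨_, rfl⟩
  · apply le_antisymm
    · intro m hm
      rw [Submodule.mem_comap, hmem] at hm
      obtain ⟨m', hm'⟩ := hm
      have h1 : (p : WittVector p k) • (m - F m') = 0 := by
        rw [← hFV, map_sub, hVF, hm', sub_self, map_zero]
      rw [← add_sub_cancel (F m') m]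
      exact Submodule.add_mem_sup (Submodule.subset_span ⟨m', rfl⟩) (hT _ h1)
    · refine sup_le (Submodule.span_le.2 ?_) ?_
      · rintro _ ⟨m, rfl⟩
        rw [SetLike.mem_coe, Submodule.mem_comap, hVF, hmem]
        exact ⟨m, rfl⟩
      · intro x hx
        rw [hmem] at hx
        obtain ⟨y, rfl⟩ := hx
        rw [Submodule.mem_comap, hVp, hmem]
        exact ⟨_, rfl⟩

section General

variable {A : Type w} [CommRing A] [Algebra (WittVector p k) A]
variable {M : Type v} [AddCommGroup M] [Module (WittVector p k) M] [Module A M]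
  [IsScalarTower (WittVector p k) A M]

omit [CharP k p] in
theorem torsion (hA : ∀ a : A, (p : A) * a = 0 → ∃ c, a = p * c) (b : DB A M) (m : M)
    (hm : (p : WittVector p k) • m = 0) :
    m ∈ Ideal.span {(p : WittVector p k)} • (⊤ : Submodule (WittVector p k) M) := by
  rw [← b.h m]
  refine Submodule.sum_mem _ fun i _ => ?_
  have h1 : (p : A) * b.f i m = 0 := by
    have : (p : A) • m = 0 := by
      rw [← map_natCast (algebraMap (WittVector p k) A), algebraMap_smul, hm]
    rw [← smul_eq_mul, ← map_smul, this, map_zero]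
  obtain ⟨c, hc⟩ := hA _ h1
  rw [hc, mul_smul, ← map_natCast (algebraMap (WittVector p k) A), algebraMap_smul]
  exact Submodule.smul_mem_smul (Ideal.mem_span_singleton_self _) Submodule.mem_top

omit [CharP k p] in
/-- functionals with values in quotients of `W` -/
theorem exists_functionals (hsurj : Function.Surjective (algebraMap (WittVector p k) A))
    (b : DB A M) (I : Ideal (WittVector p k)) (hI : RingHom.ker (algebraMap (WittVector p k) A) ≤ I) :
    ∃ g : Fin b.n → (M →ₗ[WittVector p k] (WittVector p k ⧸ I)), ∀ x : M,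
      ∃ c : Fin b.n → WittVector p k, x = ∑ i, c i • b.e i ∧
        ∀ i, Ideal.Quotient.mk I (c i) = g i x := by
  let ρ : A →+* WittVector p k ⧸ I :=
    (Ideal.Quotient.lift _ (Ideal.Quotient.mk I) (fun a ha => by
      rw [Ideal.Quotient.eq_zero_iff_mem]; exact hI ha)).comp
      (RingHom.quotientKerEquivOfSurjective hsurj).symm.toRingHom
  have hρ : ∀ w, ρ (algebraMap (WittVector p k) A w) = Ideal.Quotient.mk I w := by
    intro w
    simp only [ρ, RingHom.comp_apply]
    have : (RingHom.quotientKerEquivOfSurjective hsurj).symm (algebraMap (WittVector p k) A w) =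
        Ideal.Quotient.mk _ w := by
      rw [RingEquiv.symm_apply_eq]; rfl
    erw [this, Ideal.Quotient.lift_mk]
  refine ⟨fun i => { toFun := fun x => ρ (b.f i x), map_add' := ?_, map_smul' := ?_ }, ?_⟩
  · intro x y
    rw [map_add, map_add]
  · intro w x
    rw [← algebraMap_smul A w x, map_smul, smul_eq_mul, map_mul, hρ]
    rfl
  · intro x
    choose c hc using fun i => hsurj (b.f i x)
    refine ⟨c, ?_, ?_⟩
    · conv_lhs => rw [← b.h x]
      refine Finset.sum_congr rfl fun i _ => ?_
      rw [← hc, algebraMap_smul]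
    · intro i
      change _ = ρ (b.f i x)
      rw [← hc, hρ]


variable [PerfectRing k p]

/-- `V y ∈ 𝔐 M ⇒ y ∈ F M + 𝔐 M`. -/
theorem mem_of_V_mem (hsurj : Function.Surjective (algebraMap (WittVector p k) A))
    (hker : RingHom.ker (algebraMap (WittVector p k) A) ≤ Ideal.span {(p : WittVector p k)} ^ 2)
    (b : DB A M)
    (F : M →ₛₗ[(WittVector.frobenius : WittVector p k →+* WittVector p k)] M)
    (V : M →ₛₗ[((WittVector.frobeniusEquiv p k).symm : WittVector p k →+* WittVector p k)] M)
    (hFV : ∀ m : M, F (V m) = (p : WittVector p k) • m)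
    (𝔐 : Ideal (WittVector p k)) (h𝔐 : 𝔐.IsMaximal) (hp𝔐 : (p : WittVector p k) ∈ 𝔐)
    (y : M) (hy : V y ∈ 𝔐 • (⊤ : Submodule (WittVector p k) M)) :
    y ∈ Submodule.span (WittVector p k) (Set.range F) ⊔ 𝔐 • (⊤ : Submodule (WittVector p k) M) := by
  by_contra hcon
  set N := Submodule.span (WittVector p k) (Set.range F) ⊔
    𝔐 • (⊤ : Submodule (WittVector p k) M) with hN
  -- a functional on the `W/𝔐` vector space `M/N`
  have htors : Module.IsTorsionBySet (WittVector p k) (M ⧸ N) (𝔐 : Set (WittVector p k)) := by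
    rintro x ⟨a, ha⟩
    obtain ⟨x, rfl⟩ := N.mkQ_surjective x
    rw [← map_smul, Submodule.mkQ_apply, Submodule.Quotient.mk_eq_zero]
    exact Submodule.mem_sup_right (Submodule.smul_mem_smul ha Submodule.mem_top)
  letI : Module (WittVector p k ⧸ 𝔐) (M ⧸ N) := htors.module
  letI : Field (WittVector p k ⧸ 𝔐) := Ideal.Quotient.field 𝔐
  have hy0 : N.mkQ y ≠ 0 := by
    rwa [Submodule.mkQ_apply, Ne, Submodule.Quotient.mk_eq_zero]
  obtain ⟨ℓ₀, hℓ₀⟩ : ∃ ℓ : (M ⧸ N) →ₗ[WittVector p k ⧸ 𝔐] (WittVector p k ⧸ 𝔐), ℓ (N.mkQ y) ≠ 0 := by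
    by_contra hc
    push_neg at hc
    exact hy0 ((Module.forall_dual_apply_eq_zero_iff (WittVector p k ⧸ 𝔐) _).1 hc)
  have hsm : ∀ (w : WittVector p k) (z : M ⧸ N),
      w • z = (Ideal.Quotient.mk 𝔐 w) • z := fun w z => rfl
  let ℓ : M →ₗ[WittVector p k] (WittVector p k ⧸ 𝔐) :=
    { toFun := fun x => ℓ₀ (N.mkQ x)
      map_add' := fun x y => by rw [map_add, map_add]
      map_smul' := fun w x => by
        rw [map_smul, hsm, map_smul, RingHom.id_apply, Algebra.smul_def]; rfl }
  -- lift it to `W/𝔐²`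
  have hker2 : RingHom.ker (algebraMap (WittVector p k) A) ≤ 𝔐 ^ 2 :=
    hker.trans (Ideal.pow_right_mono ((Ideal.span_singleton_le_iff_mem _).2 hp𝔐) 2)
  obtain ⟨g, hg⟩ := exists_functionals hsurj b (𝔐 ^ 2) hker2
  choose d hd using fun i => Ideal.Quotient.mk_surjective (ℓ (b.e i))
  let L : M →ₗ[WittVector p k] (WittVector p k ⧸ 𝔐 ^ 2) := ∑ i, d i • g i
  have hL : ∀ x, ∃ w : WittVector p k, L x = Ideal.Quotient.mk (𝔐 ^ 2) w ∧
      ℓ x = Ideal.Quotient.mk 𝔐 w := by
    intro x
    obtain ⟨c, hc1, hc2⟩ := hg x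
    refine ⟨∑ i, d i * c i, ?_, ?_⟩
    · simp only [L, LinearMap.sum_apply, LinearMap.smul_apply, map_sum]
      refine Finset.sum_congr rfl fun i _ => ?_
      rw [← hc2, map_mul]
      rfl
    · conv_lhs => rw [hc1]
      rw [map_sum, map_sum]
      refine Finset.sum_congr rfl fun i _ => ?_
      rw [map_smul, ← hd, Algebra.smul_def, mul_comm (d i), map_mul]
      rfl
  have hLF : ∀ z ∈ Submodule.span (WittVector p k) (Set.range F), ∀ a ∈ 𝔐, L (a • z) = 0 := by
    intro z hz a ha
    obtain ⟨w, hw1, hw2⟩ := hL z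
    have h1 : ℓ z = 0 := by
      change ℓ₀ (N.mkQ z) = 0
      have : N.mkQ z = 0 := by
        rw [Submodule.mkQ_apply, Submodule.Quotient.mk_eq_zero]
        exact Submodule.mem_sup_left hz
      rw [this, map_zero]
    rw [h1, eq_comm, Ideal.Quotient.eq_zero_iff_mem] at hw2
    rw [map_smul, hw1, Algebra.smul_def]
    change Ideal.Quotient.mk (𝔐 ^ 2) a * Ideal.Quotient.mk (𝔐 ^ 2) w = 0
    rw [← map_mul, Ideal.Quotient.eq_zero_iff_mem, pow_two]
    exact Ideal.mul_mem_mul ha hw2
  have hmain : L ((p : WittVector p k) • y) = 0 := by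
    rw [← hFV]
    refine Submodule.smul_induction_on (p := fun z => L (F z) = 0) hy ?_ ?_
    · intro a ha n _
      rw [LinearMap.map_smulₛₗ]
      refine hLF _ (Submodule.subset_span ⟨n, rfl⟩) _ ?_
      have : IsAdicComplete (Ideal.span {(p : k)}) k :=
        K789.WittComplete.isAdicComplete_of_isNilpotent
          (by rw [CharP.cast_eq_zero]; exact IsNilpotent.zero)
      have h1 := K789.VSharp.comap_frobenius_of_isMaximal 𝔐 h𝔐
      have h2 : a ∈ 𝔐.comap (WittVector.frobenius : WittVector p k →+* WittVector p k) := by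
        rwa [h1]
      exact h2
    · intro x z hx hz
      rw [map_add, map_add, hx, hz, add_zero]
  obtain ⟨w, hw1, hw2⟩ := hL y
  have hw3 : w ∉ 𝔐 := by
    rw [← Ideal.Quotient.eq_zero_iff_mem, ← hw2]
    exact hℓ₀
  rw [map_smul, hw1, Algebra.smul_def] at hmain
  change Ideal.Quotient.mk (𝔐 ^ 2) (p : WittVector p k) * Ideal.Quotient.mk (𝔐 ^ 2) w = 0 at hmain
  rw [← map_mul, Ideal.Quotient.eq_zero_iff_mem] at hmain
  -- `w` is invertible modulo `𝔐²`
  obtain ⟨v, hv⟩ := Ideal.Quotient.exists_inv (I := 𝔐) (a := Ideal.Quotient.mk 𝔐 w) (by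
    rwa [Ne, Ideal.Quotient.eq_zero_iff_mem])
  obtain ⟨v, rfl⟩ := Ideal.Quotient.mk_surjective v
  rw [← map_mul, ← map_one (Ideal.Quotient.mk 𝔐), Ideal.Quotient.eq] at hv
  have h5 : (w * v - 1) * (w * v - 1) ∈ 𝔐 ^ 2 := by
    rw [pow_two]; exact Ideal.mul_mem_mul hv hv
  refine p_notMem_sq 𝔐 h𝔐 hp𝔐 ?_
  have h6 : (p : WittVector p k) = p * ((w * v - 1) * (w * v - 1)) +
      (p * w) * (v * (2 - w * v)) := by ring
  rw [h6]
  exact Ideal.add_mem _ (Ideal.mul_mem_left _ _ h5) (Ideal.mul_mem_right _ _ hmain)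


omit [Algebra (WittVector p k) A] [Module A M] [IsScalarTower (WittVector p k) A M] [CommRing A]
  [CharP k p] [PerfectRing k p] in
theorem mem_smul_of_mkQ_mem (𝔪 : Ideal (WittVector p k ⧸ Ideal.span {(p : WittVector p k)}))
    (x : M)
    (hx : (Ideal.span {(p : WittVector p k)} • (⊤ : Submodule (WittVector p k) M)).mkQ x ∈
      𝔪 • (⊤ : Submodule (WittVector p k ⧸ Ideal.span {(p : WittVector p k)}) _)) :
    x ∈ (𝔪.comap (Ideal.Quotient.mk _)) • (⊤ : Submodule (WittVector p k) M) := by
  have key : ∀ z ∈ 𝔪 • (⊤ : Submodule (WittVector p k ⧸ Ideal.span {(p : WittVector p k)})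
      (M ⧸ (Ideal.span {(p : WittVector p k)} • (⊤ : Submodule (WittVector p k) M)))),
      ∃ y ∈ (𝔪.comap (Ideal.Quotient.mk _)) • (⊤ : Submodule (WittVector p k) M),
      (Ideal.span {(p : WittVector p k)} • (⊤ : Submodule (WittVector p k) M)).mkQ y = z := by
    intro z hz
    refine Submodule.smul_induction_on hz ?_ ?_
    · intro a ha n _
      obtain ⟨a, rfl⟩ := Ideal.Quotient.mk_surjective a
      obtain ⟨n, rfl⟩ := Submodule.mkQ_surjective _ n
      exact ⟨a • n, Submodule.smul_mem_smul ha Submodule.mem_top, rfl⟩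
    · rintro x y ⟨x, hx, rfl⟩ ⟨y, hy, rfl⟩
      exact ⟨x + y, Submodule.add_mem _ hx hy, map_add _ _ _⟩
  obtain ⟨y, hy, hyx⟩ := key _ hx
  have h1 : x - y ∈ Ideal.span {(p : WittVector p k)} • (⊤ : Submodule (WittVector p k) M) := by
    rw [← Submodule.Quotient.mk_eq_zero, ← Submodule.mkQ_apply, map_sub, hyx, sub_self]
  rw [← sub_add_cancel x y]
  refine Submodule.add_mem _ (Submodule.smul_mono_left ?_ h1) hy
  intro a ha
  rw [Ideal.mem_comap, Ideal.Quotient.eq_zero_iff_mem.2 ha]
  exact 𝔪.zero_mem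

theorem projective (hsurj : Function.Surjective (algebraMap (WittVector p k) A))
    (hker : RingHom.ker (algebraMap (WittVector p k) A) ≤ Ideal.span {(p : WittVector p k)} ^ 2)
    (b : DB A M)
    (F : M →ₛₗ[(WittVector.frobenius : WittVector p k →+* WittVector p k)] M)
    (V : M →ₛₗ[((WittVector.frobeniusEquiv p k).symm : WittVector p k →+* WittVector p k)] M)
    (hFV : ∀ m : M, F (V m) = (p : WittVector p k) • m)
    (hVF : ∀ m : M, V (F m) = (p : WittVector p k) • m) :
    Module.Projective (WittVector p k ⧸ Ideal.span {(p : WittVector p k)})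
      ((M ⧸ (Ideal.span {(p : WittVector p k)} • (⊤ : Submodule (WittVector p k) M))) ⧸
        Submodule.span (WittVector p k ⧸ Ideal.span {(p : WittVector p k)})
          (Set.range fun m : M =>
            (Ideal.span {(p : WittVector p k)} • (⊤ : Submodule (WittVector p k) M)).mkQ (V m))) := by
  set I : Ideal (WittVector p k) := Ideal.span {(p : WittVector p k)} with hI
  set q := (I • (⊤ : Submodule (WittVector p k) M)).mkQ with hq
  have hqs : ∀ (w : WittVector p k) (x : M), q (w • x) = (Ideal.Quotient.mk I w) • q x :=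
    fun w x => rfl
  have hkerI : RingHom.ker (algebraMap (WittVector p k) A) ≤ I :=
    hker.trans (Ideal.pow_le_self two_ne_zero)
  -- dual basis of `M/pM`
  obtain ⟨g, hg⟩ := exists_functionals hsurj b I hkerI
  have hgp : ∀ i, ∀ x ∈ I • (⊤ : Submodule (WittVector p k) M), g i x = 0 := by
    intro i x hx
    refine Submodule.smul_induction_on hx ?_ ?_
    · intro a ha n _
      rw [map_smul, Algebra.smul_def]
      have : algebraMap (WittVector p k) (WittVector p k ⧸ I) a = 0 :=
        Ideal.Quotient.eq_zero_iff_mem.2 ha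
      rw [this, zero_mul]
    · intro x y hx hy
      rw [map_add, hx, hy, add_zero]
  let b' : DB (WittVector p k ⧸ I) (M ⧸ I • (⊤ : Submodule (WittVector p k) M)) :=
    { n := b.n
      e := fun i => q (b.e i)
      f := fun i =>
        { toFun := (I • (⊤ : Submodule (WittVector p k) M)).liftQ (g i) (hgp i)
          map_add' := fun x y => map_add _ x y
          map_smul' := by
            intro a x
            obtain ⟨a, rfl⟩ := Ideal.Quotient.mk_surjective a
            obtain ⟨x, rfl⟩ := Submodule.mkQ_surjective _ x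
            rw [← hqs, Submodule.mkQ_apply, Submodule.mkQ_apply, Submodule.liftQ_apply,
              Submodule.liftQ_apply, map_smul, Algebra.smul_def]
            rfl }
      h := by
        intro x
        obtain ⟨x, rfl⟩ := Submodule.mkQ_surjective _ x
        obtain ⟨c, hc1, hc2⟩ := hg x
        conv_rhs => rw [hc1]
        rw [map_sum]
        refine Finset.sum_congr rfl fun i _ => ?_
        change (g i x) • q (b.e i) = q (c i • b.e i)
        rw [hqs, hc2] }
  have := b'.finite
  have := b'.projective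
  -- the image of `V`
  set K := Submodule.span (WittVector p k ⧸ I) (Set.range fun m : M => q (V m)) with hK
  have hKmem : ∀ z ∈ K, ∃ m : M, q (V m) = z := by
    intro z hz
    refine Submodule.span_induction ?_ ?_ ?_ ?_ hz
    · rintro _ ⟨m, rfl⟩
      exact ⟨m, rfl⟩
    · exact ⟨0, by rw [map_zero, map_zero]⟩
    · rintro _ _ - - ⟨x, rfl⟩ ⟨y, rfl⟩
      exact ⟨x + y, by rw [map_add, map_add]⟩
    · rintro a _ - ⟨x, rfl⟩
      obtain ⟨a, rfl⟩ := Ideal.Quotient.mk_surjective a
      refine ⟨(WittVector.frobenius a) • x, ?_⟩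
      rw [LinearMap.map_smulₛₗ, ← hqs]
      congr 2
      exact (WittVector.frobeniusEquiv p k).symm_apply_apply a
  have hKfg : K.FG := by
    classical
    refine ⟨Finset.univ.image (fun i => q (V (b.e i))), ?_⟩
    apply le_antisymm
    · refine Submodule.span_mono ?_
      intro z hz
      rw [Finset.coe_image] at hz
      obtain ⟨i, -, rfl⟩ := hz
      exact ⟨_, rfl⟩
    · rw [Submodule.span_le]
      rintro _ ⟨m, rfl⟩
      obtain ⟨c, hc1, -⟩ := hg m
      change q (V m) ∈ _
      rw [hc1, map_sum, map_sum]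
      refine Submodule.sum_mem _ fun i _ => ?_
      rw [LinearMap.map_smulₛₗ, hqs]
      exact Submodule.smul_mem _ _ (Submodule.subset_span (by simp))
  refine K789.ProjQuot.projective_quotient K hKfg ?_
  rintro 𝔪 h𝔪 z ⟨hz1, hz2⟩
  obtain ⟨y, rfl⟩ := hKmem z hz1
  set 𝔐 : Ideal (WittVector p k) := 𝔪.comap (Ideal.Quotient.mk I) with h𝔐def
  have h𝔐 : 𝔐.IsMaximal := Ideal.comap_isMaximal_of_surjective _ Ideal.Quotient.mk_surjective
  have hp𝔐 : (p : WittVector p k) ∈ 𝔐 := by
    rw [Ideal.mem_comap, Ideal.Quotient.eq_zero_iff_mem.2 (Ideal.mem_span_singleton_self _)]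
    exact 𝔪.zero_mem
  have h1 : V y ∈ 𝔐 • (⊤ : Submodule (WittVector p k) M) := mem_smul_of_mkQ_mem 𝔪 _ hz2
  have h2 := mem_of_V_mem hsurj hker b F V hFV 𝔐 h𝔐 hp𝔐 y h1
  obtain ⟨s, hs, t, ht, rfl⟩ := Submodule.mem_sup.1 h2
  rw [map_add, map_add]
  have hsV : q (V s) = 0 := by
    refine Submodule.span_induction (p := fun s _ => q (V s) = 0) ?_ ?_ ?_ ?_ hs
    · rintro _ ⟨x, rfl⟩
      rw [hVF, hqs, Ideal.Quotient.eq_zero_iff_mem.2 (Ideal.mem_span_singleton_self _), zero_smul]
    · rw [map_zero, map_zero]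
    · intro x y _ _ hx hy
      rw [map_add, map_add, hx, hy, add_zero]
    · intro a x _ hx
      rw [LinearMap.map_smulₛₗ, hqs, hx, smul_zero]
  rw [hsV, zero_add]
  refine Submodule.smul_induction_on (p := fun t => q (V t) ∈ 𝔪 • K) ht ?_ ?_
  · intro a ha n _
    rw [LinearMap.map_smulₛₗ, hqs]
    refine Submodule.smul_mem_smul ?_ (Submodule.subset_span ⟨n, rfl⟩)
    have : IsAdicComplete (Ideal.span {(p : k)}) k :=
      K789.WittComplete.isAdicComplete_of_isNilpotent
        (by rw [CharP.cast_eq_zero]; exact IsNilpotent.zero)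
    have h3 := K789.VSharp.comap_frobenius_of_isMaximal 𝔐 h𝔐
    have h4 : ((WittVector.frobeniusEquiv p k).symm : WittVector p k →+* WittVector p k) a ∈ 𝔐 := by
      rw [← h3, Ideal.mem_comap]
      have : (WittVector.frobenius : WittVector p k →+* WittVector p k)
          (((WittVector.frobeniusEquiv p k).symm : WittVector p k →+* WittVector p k) a) = a :=
        (WittVector.frobeniusEquiv p k).apply_symm_apply a
      rwa [this]
    exact h4
  · intro x y hx hy
    rw [map_add, map_add]
    exact Submodule.add_mem _ hx hy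

end General


section Trunc

variable [PerfectRing k p]

omit [CharP k p] [PerfectRing k p] in
theorem ker_trunc {n : ℕ} (hn : 2 ≤ n) :
    RingHom.ker (algebraMap (WittVector p k)
      (WittVector p k ⧸ Ideal.span {(p : WittVector p k) ^ n})) ≤
        Ideal.span {(p : WittVector p k)} ^ 2 := by
  intro x hx
  have h1 : x ∈ Ideal.span {(p : WittVector p k) ^ n} := Ideal.Quotient.eq_zero_iff_mem.1 hx
  rw [← Ideal.span_singleton_pow] at h1
  exact Ideal.pow_le_pow_right hn h1

theorem trunc_torsion {n : ℕ} (hn : 2 ≤ n)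
    (a : WittVector p k ⧸ Ideal.span {(p : WittVector p k) ^ n})
    (ha : (p : WittVector p k ⧸ Ideal.span {(p : WittVector p k) ^ n}) * a = 0) :
    ∃ c, a = (p : WittVector p k ⧸ Ideal.span {(p : WittVector p k) ^ n}) * c := by
  obtain ⟨a, rfl⟩ := Ideal.Quotient.mk_surjective a
  rw [← map_natCast (Ideal.Quotient.mk _), ← map_mul, Ideal.Quotient.eq_zero_iff_mem,
    Ideal.mem_span_singleton] at ha
  obtain ⟨c, hc⟩ := ha
  obtain ⟨n, rfl⟩ := Nat.exists_eq_add_of_le' hn
  have h1 : (a - p * (p ^ n * c)) * (p : WittVector p k) = 0 := by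
    rw [sub_mul, sub_eq_zero]
    linear_combination hc
  have h2 := WittVector.eq_zero_of_p_mul_eq_zero _ h1
  refine ⟨Ideal.Quotient.mk _ (p ^ n * c), ?_⟩
  rw [sub_eq_zero] at h2
  conv_lhs => rw [h2]
  rw [map_mul, map_natCast]

end Trunc

end K789.DieuProj
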