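import Groth.Agent.Disp.K789.Vdual

/-!
# The display of a Dieudonné module: nilpotence condition
-/

set_option autoImplicit false

universe u v w

noncomputable section

namespace K789.DieuTop

open WittVector W4c1extbt610 K789.DispBasic K789.DualBasis K789.DNProj K789.Vdual Dieu

variable {p : ℕ} [hp : Fact p.Prime] {k : Type u} [CommRing k] [CharP k p]

local notation "σ" => (WittVector.frobenius : WittVector p k →+* WittVector p k)

theorem mem_J_iff {x : WittVector p k} : x ∈ J p k ↔ x.coeff 0 = 0 := by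
  rw [J]
  constructor
  · intro hx
    obtain ⟨a, ha, b, hb, rfl⟩ := Submodule.mem_sup.1 hx
    obtain ⟨c, rfl⟩ := Ideal.mem_span_singleton.1 hb
    rw [mem_IV_iff_coeff_zero] at ha
    rw [WittVector.add_coeff_zero, ha, zero_add, mul_comm, WittVector.mul_charP_coeff_zero]
  · intro hx
    exact Submodule.mem_sup_left (mem_IV_iff_coeff_zero.2 hx)

variable [PerfectRing k p]

theorem mem_span_p_iff {x : WittVector p k} :
    x ∈ Ideal.span {(p : WittVector p k)} ↔ x.coeff 0 = 0 := by
  constructor
  · intro hx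
    obtain ⟨c, rfl⟩ := Ideal.mem_span_singleton.1 hx
    rw [mul_comm, WittVector.mul_charP_coeff_zero]
  · intro hx
    obtain ⟨w, rfl⟩ := mem_IV_iff_exists.1 (mem_IV_iff_coeff_zero.2 hx)
    obtain ⟨w, rfl⟩ := (WittVector.frobenius_bijective p k).2 w
    rw [verschiebung_frobenius]
    exact Ideal.mul_mem_left _ _ (Ideal.mem_span_singleton_self _)

theorem iterate_frobenius_mem_J_iff {x : WittVector p k} (n : ℕ) :
    (WittVector.frobenius)^[n] x ∈ J p k ↔ x ∈ Ideal.span {(p : WittVector p k)} := by
  rw [mem_J_iff, mem_span_p_iff, WittVector.iterate_frobenius_coeff]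
  constructor
  · intro h
    have h1 : (iterateFrobenius k p n) (x.coeff 0) = (iterateFrobenius k p n) 0 := by
      rw [map_zero, iterateFrobenius_def]; exact h
    exact (bijective_iterateFrobenius k p (n := n)).1 h1
  · intro h
    rw [h, zero_pow (pow_ne_zero _ hp.out.ne_zero)]

variable {M : Type v} [AddCommGroup M] [Module (WittVector p k) M]
  [Module.Finite (WittVector p k) M] [Module.Projective (WittVector p k) M]

omit [Module.Finite (WittVector p k) M] [Module.Projective (WittVector p k) M] in
theorem iterate_Vd_eq (Dm : DieuMod p k M) (D : Display3n p k M)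
    (hQ : ∀ x : M, x ∈ D.Q ↔ x ∈ Set.range Dm.V)
    (hV : ∀ (m : M) (h : Dm.V m ∈ D.Q), D.Vinv ⟨Dm.V m, h⟩ = m)
    {Vs : M →ₗ[WittVector p k] BC σ M} (hVs : IsVSharp D Vs) (n : ℕ)
    (φ : M →ₗ[WittVector p k] WittVector p k) (m : M) :
    (Vd Vs)^[n] φ m = (WittVector.frobenius)^[n] (φ ((⇑Dm.V)^[n] m)) := by
  induction n generalizing m with
  | zero => rfl
  | succ n ih =>
    have h : Dm.V m ∈ D.Q := (hQ _).2 ⟨m, rfl⟩
    rw [Function.iterate_succ_apply', Function.iterate_succ_apply, Function.iterate_succ_apply']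
    conv_lhs => rw [← hV m h]
    rw [Vd_apply_Vinv hVs, ih]
    change WittVector.frobenius ((WittVector.frobenius)^[n] (φ ((⇑Dm.V)^[n] (Dm.V m)))) = _
    rw [← Function.iterate_succ_apply (⇑Dm.V), ← Function.iterate_succ_apply' (⇑Dm.V),
      ← Function.iterate_succ_apply' (WittVector.frobenius (p := p) (R := k)),
      ← Function.iterate_succ_apply (WittVector.frobenius (p := p) (R := k))]

omit [Module.Finite (WittVector p k) M] [Module.Projective (WittVector p k) M] in
theorem iterate_V_p_smul (Dm : DieuMod p k M) (n : ℕ) (m : M) :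
    (⇑Dm.V)^[n] ((p : WittVector p k) • m) = (p : WittVector p k) • (⇑Dm.V)^[n] m := by
  induction n generalizing m with
  | zero => rfl
  | succ n ih =>
    rw [Function.iterate_succ_apply, Function.iterate_succ_apply, LinearMap.map_smulₛₗ]
    have : ((WittVector.frobeniusEquiv p k).symm : WittVector p k →+* WittVector p k)
      (p : WittVector p k) = p := map_natCast _ p
    rw [this, ih]

omit [Module.Finite (WittVector p k) M] [Module.Projective (WittVector p k) M] in
theorem vTopNilp_iff (Dm : DieuMod p k M) :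
    Dm.VTopNilp ↔ ∃ n : ℕ, ∀ m : M,
      (⇑Dm.V)^[n + 1] m ∈ (Ideal.span {(p : WittVector p k)}) • (⊤ : Submodule (WittVector p k) M) := by
  constructor
  · intro h
    obtain ⟨n, hn⟩ := h 1
    refine ⟨n, fun m => ?_⟩
    rw [Function.iterate_succ_apply]
    have := hn (Dm.V m)
    rwa [pow_one] at this
  · rintro ⟨n, hn⟩ e
    refine ⟨(n + 1) * e, ?_⟩
    induction e with
    | zero => intro m; simp
    | succ e ih =>
      intro m
      rw [mul_add, mul_one, Function.iterate_add_apply, pow_succ', Submodule.mul_smul]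
      have h1 := hn m
      rw [Submodule.ideal_span_singleton_smul, Submodule.mem_smul_pointwise_iff_exists] at h1
      obtain ⟨m', -, hm'⟩ := h1
      rw [← hm', iterate_V_p_smul]
      exact Submodule.smul_mem_smul (Ideal.mem_span_singleton_self _) (ih m')

theorem isDisplay_iff (Dm : DieuMod p k M) (D : Display3n p k M)
    (hQ : ∀ x : M, x ∈ D.Q ↔ x ∈ Set.range Dm.V)
    (hV : ∀ (m : M) (h : Dm.V m ∈ D.Q), D.Vinv ⟨Dm.V m, h⟩ = m) :
    IsDisplay D ↔ Dm.VTopNilp := by
  have hpn : IsNilpotent (p : k) := by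
    rw [CharP.cast_eq_zero]; exact IsNilpotent.zero
  have := K789.WittComplete.isAdicComplete_of_isNilpotent (p := p) (R := k) hpn
  obtain ⟨Vs, hVs⟩ := K789.VSharp.exists_vsharp D
  have h1 : IsDisplay D ↔ IsVNilpotent Vs := by
    constructor
    · rintro ⟨Vs', hVs', hn⟩
      rwa [K789.VSharp.vsharp_unique hVs hVs']
    · exact fun h => ⟨Vs, hVs, h⟩
  rw [h1, isVNilpotent_iff, vTopNilp_iff]
  refine exists_congr fun n => ?_
  rw [forall_comm]
  refine forall_congr' fun m => ?_
  rw [mem_smul_top_iff]
  refine forall_congr' fun φ => ?_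
  rw [iterate_Vd_eq Dm D hQ hV hVs, iterate_frobenius_mem_J_iff]

end K789.DieuTop
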