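import Groth.Agent.Disp.K789.OfProj
import Mathlib.LinearAlgebra.ExteriorPower.Basis
import Mathlib.LinearAlgebra.CliffordAlgebra.Contraction

/-!
# Exterior powers of 3n-displays with tangent module of rank one
-/

set_option autoImplicit false

universe u v w

noncomputable section

namespace K789.ExtPow

open exteriorPower

section Alt

variable {A : Type u} [CommRing A] {M : Type v} [AddCommGroup M] [Module A M]
  {N : Type w} [AddCommGroup N] [Module A N]

theorem alt_add_smul_aux {n : ℕ} (f : M [⋀^Fin n]→ₗ[A] N) (c : Fin n → A) (s : M)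
    (S : Finset (Fin n)) : ∀ a : Fin n → M,
    f (fun i => if i ∈ S then a i + c i • s else a i) =
      f a + ∑ i ∈ S, c i • f (Function.update a i s) := by
  induction S using Finset.induction_on with
  | empty => intro a; simp
  | insert j S hj ih =>
    intro a
    rw [Finset.sum_insert hj]
    have h1 : (fun i => if i ∈ insert j S then a i + c i • s else a i) =
        Function.update (fun i => if i ∈ S then a i + c i • s else a i) j (a j + c j • s) := by
      funext i
      by_cases hij : i = j
      · subst hij; simp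
      · rw [Function.update_of_ne hij]
        simp [hij]
    have h2 : Function.update (fun i => if i ∈ S then a i + c i • s else a i) j (a j) =
        (fun i => if i ∈ S then a i + c i • s else a i) := by
      funext i
      by_cases hij : i = j
      · subst hij; simp [hj]
      · rw [Function.update_of_ne hij]
    have h3 : Function.update (fun i => if i ∈ S then a i + c i • s else a i) j s =
        (fun i => if i ∈ S then (Function.update a j s) i + c i • s else (Function.update a j s) i) := by
      funext i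
      by_cases hij : i = j
      · subst hij; simp [hj]
      · simp only [Function.update_of_ne hij]
    rw [h1, AlternatingMap.map_update_add, AlternatingMap.map_update_smul, h2, h3, ih, ih]
    have h4 : ∑ i ∈ S, c i • f (Function.update (Function.update a j s) i s) = 0 := by
      refine Finset.sum_eq_zero fun i hi => ?_
      have hij : i ≠ j := by rintro rfl; exact hj hi
      rw [f.map_eq_zero_of_eq (Function.update (Function.update a j s) i s) (i := i) (j := j) _ hij,
        smul_zero]
      rw [Function.update_self, Function.update_of_ne hij.symm, Function.update_self]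
    rw [h4, add_zero]
    abel

/-- An alternating map is affine in multiples of a fixed vector. -/
theorem alt_add_smul {n : ℕ} (f : M [⋀^Fin n]→ₗ[A] N) (a : Fin n → M) (c : Fin n → A) (s : M) :
    f (fun i => a i + c i • s) = f a + ∑ i, c i • f (Function.update a i s) := by
  have := alt_add_smul_aux f c s Finset.univ a
  simpa using this

theorem exteriorPower_projective [Module.Finite A M] [Module.Projective A M] (r : ℕ) :
    Module.Projective A (⋀[A]^r M) := by
  obtain ⟨n, f, g, -, -, hfg⟩ := Module.Finite.exists_comp_eq_id_of_projective A M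
  refine Module.Projective.of_split (exteriorPower.map r g) (exteriorPower.map r f) ?_
  rw [← exteriorPower.map_comp, hfg, exteriorPower.map_id]

end Alt

section Semi

variable {A : Type u} {B : Type v} [CommRing A] [CommRing B] (σ : A →+* B)
variable {M : Type*} {N : Type*} [AddCommGroup M] [AddCommGroup N] [Module A M] [Module B N]

/-- Restriction of scalars along a ring homomorphism. -/
def Tw (_σ : A →+* B) (N : Type*) : Type _ := N

instance : AddCommGroup (Tw σ N) := inferInstanceAs (AddCommGroup N)
instance : Module A (Tw σ N) := Module.compHom N σ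

/-- The wedge of the values of a semilinear map. -/
def wedgeAlt (Φ : M →ₛₗ[σ] N) (r : ℕ) : M [⋀^Fin r]→ₗ[A] Tw σ (⋀[B]^r N) where
  toFun x := ιMulti B r (fun i => Φ (x i))
  map_update_add' := by
    intro _ m i x y
    have h : ∀ z, (fun j => Φ (Function.update m i z j)) =
        Function.update (fun j => Φ (m j)) i (Φ z) := by
      intro z
      funext j
      by_cases hj : j = i
      · subst hj; simp
      · rw [Function.update_of_ne hj, Function.update_of_ne hj]
    rw [h, h, h, map_add]
    exact AlternatingMap.map_update_add (ιMulti B r) _ _ _ _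
  map_update_smul' := by
    intro _ m i c x
    have h : ∀ z, (fun j => Φ (Function.update m i z j)) =
        Function.update (fun j => Φ (m j)) i (Φ z) := by
      intro z
      funext j
      by_cases hj : j = i
      · subst hj; simp
      · rw [Function.update_of_ne hj, Function.update_of_ne hj]
    rw [h, h, LinearMap.map_smulₛₗ]
    exact AlternatingMap.map_update_smul (ιMulti B r) _ _ _ _
  map_eq_zero_of_eq' := by
    intro v i j hij hne
    exact AlternatingMap.map_eq_zero_of_eq (ιMulti B r) _ (i := i) (j := j)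
      (by simp only [hij]) hne

/-- The exterior power of a semilinear map. -/
def mapSemi (Φ : M →ₛₗ[σ] N) (r : ℕ) : ⋀[A]^r M →ₛₗ[σ] ⋀[B]^r N where
  toFun := alternatingMapLinearEquiv (wedgeAlt σ Φ r)
  map_add' x y := LinearMap.map_add (alternatingMapLinearEquiv (wedgeAlt σ Φ r)) x y
  map_smul' a x := LinearMap.map_smul (alternatingMapLinearEquiv (wedgeAlt σ Φ r)) a x

theorem mapSemi_ιMulti (Φ : M →ₛₗ[σ] N) (r : ℕ) (x : Fin r → M) :
    mapSemi σ Φ r (ιMulti A r x) = ιMulti B r (fun i => Φ (x i)) :=
  alternatingMapLinearEquiv_apply_ιMulti (wedgeAlt σ Φ r) x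

theorem span_range_mapSemi (Φ : M →ₛₗ[σ] N) (hΦ : Submodule.span B (Set.range Φ) = ⊤) (r : ℕ) :
    Submodule.span B (Set.range (mapSemi σ Φ r)) = ⊤ := by
  rw [eq_top_iff, ← ιMulti_span_of_span B r N hΦ]
  refine Submodule.span_mono ?_
  rintro _ ⟨x, hx, rfl⟩
  have h1 : ∀ i, ∃ y, Φ y = x i := fun i => hx ⟨i, rfl⟩
  choose y hy using h1
  refine ⟨ιMulti A r y, ?_⟩
  rw [mapSemi_ιMulti]
  congr 1
  funext i
  exact hy i

end Semi


section Disp

open WittVector W4c1extbt610 K789.DispBasic K789.DualBasis K789.DNProj K789.OfProj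

variable {p : ℕ} [hp : Fact p.Prime] {R : Type u} [CommRing R]
variable {P : Type v} [AddCommGroup P] [Module (WittVector p R) P]

/-- A normal projector of rank one. -/
structure R1 (D : Display3n p R P) extends NProj D where
  t : P
  l : P →ₗ[WittVector p R] WittVector p R
  eq : ∀ x, π x = l x • t
  lt : l t = 1

theorem exists_R1 {D : Display3n p R P} (L T : Submodule (WittVector p R) P) (hLT : IsCompl L T)
    (hQ : D.Q = L ⊔ IV p R • T) (e : T ≃ₗ[WittVector p R] WittVector p R) :
    ∃ N : R1 D, LinearMap.ker N.l = L ∧ N.t ∈ T := by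
  let N := nprojOfIsCompl D L T hLT hQ
  have hmem : ∀ x, N.π x ∈ T := fun x => T.projection_apply_mem hLT.symm x
  let l : P →ₗ[WittVector p R] WittVector p R := e.toLinearMap.comp (N.π.codRestrict T hmem)
  have hl : ∀ x, l x = e ⟨N.π x, hmem x⟩ := fun x => rfl
  have heq : ∀ x, N.π x = l x • ((e.symm 1 : T) : P) := by
    intro x
    rw [← Submodule.coe_smul, ← map_smul, smul_eq_mul, mul_one, hl, LinearEquiv.symm_apply_apply]
  refine ⟨{ N with t := e.symm 1, l := l, eq := heq, lt := ?_ }, ?_, (e.symm 1).2⟩
  · rw [hl]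
    have : (⟨N.π ((e.symm 1 : T) : P), hmem _⟩ : T) = e.symm 1 := by
      apply Subtype.ext
      exact nprojOfIsCompl_apply_of_mem_right D L T hLT hQ (e.symm 1).2
    rw [this, LinearEquiv.apply_symm_apply]
  · ext x
    change l x = 0 ↔ x ∈ L
    rw [hl, LinearEquiv.map_eq_zero_iff, ← Subtype.coe_inj]
    exact T.projection_apply_eq_zero_iff hLT.symm

namespace R1

variable {D : Display3n p R P} (N : R1 D) (r : ℕ)

theorem π_t : N.π N.t = N.t := by rw [N.eq, N.lt, one_smul]

theorem l_sub (x : P) : N.l (x - N.π x) = 0 := by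
  rw [map_sub, N.eq, map_smul, N.lt, smul_eq_mul, mul_one, sub_self]

theorem π_eq_zero_iff (x : P) : N.π x = 0 ↔ N.l x = 0 := by
  constructor
  · intro h
    have := congrArg N.l h
    rwa [N.eq, map_smul, N.lt, smul_eq_mul, mul_one, map_zero] at this
  · intro h
    rw [N.eq, h, zero_smul]

theorem l_mem_of_mem {x : P} (hx : x ∈ D.Q) : N.l x ∈ IV p R := by
  have h1 := apply_mem_of_mem_smul_top ((N.mem_Q x).1 hx) N.l
  rwa [N.eq, map_smul, N.lt, smul_eq_mul, mul_one] at h1

/-- The projector on the exterior power. -/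
def πr : (⋀[WittVector p R]^r P) →ₗ[WittVector p R] (⋀[WittVector p R]^r P) :=
  LinearMap.id - exteriorPower.map r (LinearMap.id - N.π)

theorem πr_apply (z : ⋀[WittVector p R]^r P) :
    N.πr r z = z - exteriorPower.map r (LinearMap.id - N.π) z := rfl

theorem πr_idem (z : ⋀[WittVector p R]^r P) : N.πr r (N.πr r z) = N.πr r z := by
  have h1 : (LinearMap.id - N.π) ∘ₗ (LinearMap.id - N.π) = LinearMap.id - N.π := by
    ext x
    simp only [LinearMap.comp_apply, LinearMap.sub_apply, LinearMap.id_apply, map_sub, N.idem]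
    abel
  have h2 : exteriorPower.map r (LinearMap.id - N.π)
      (exteriorPower.map r (LinearMap.id - N.π) z) = exteriorPower.map r (LinearMap.id - N.π) z := by
    rw [← LinearMap.comp_apply, ← exteriorPower.map_comp, h1]
  rw [πr_apply, πr_apply, map_sub, h2, sub_self, sub_zero]

/-- expansion of a wedge -/
theorem ιMulti_eq (a : Fin r → P) :
    ιMulti (WittVector p R) r a = ιMulti (WittVector p R) r (fun i => a i - N.π (a i)) +
      ∑ i, N.l (a i) • ιMulti (WittVector p R) r (Function.update (fun i => a i - N.π (a i)) i N.t) := by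
  rw [← alt_add_smul]
  congr 1
  funext i
  rw [← N.eq, sub_add_cancel]

theorem πr_ιMulti (a : Fin r → P) :
    N.πr r (ιMulti (WittVector p R) r a) =
      ∑ i, N.l (a i) • ιMulti (WittVector p R) r (Function.update (fun i => a i - N.π (a i)) i N.t) := by
  rw [πr_apply, exteriorPower.map_apply_ιMulti]
  conv_lhs => lhs; rw [N.ιMulti_eq]
  rw [add_sub_assoc, add_comm, sub_add]
  have : (fun i => a i - N.π (a i)) =
      ⇑(LinearMap.id - N.π : P →ₗ[WittVector p R] P) ∘ a := by
    funext i; rfl
  rw [this, sub_self, sub_zero]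

theorem πr_of_l_eq_zero (a : Fin r → P) (h : ∀ i, N.l (a i) = 0) :
    N.πr r (ιMulti (WittVector p R) r a) = 0 := by
  rw [πr_ιMulti]
  exact Finset.sum_eq_zero fun i _ => by rw [h, zero_smul]

theorem πr_of_eq_t (a : Fin r → P) (i : Fin r) (h : a i = N.t) :
    N.πr r (ιMulti (WittVector p R) r a) = ιMulti (WittVector p R) r a := by
  have h1 : ιMulti (WittVector p R) r (⇑(LinearMap.id - N.π : P →ₗ[WittVector p R] P) ∘ a) = 0 :=
    AlternatingMap.map_coord_zero _ i (by simp [h, N.π_t])
  rw [πr_apply, exteriorPower.map_apply_ιMulti, h1, sub_zero]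

theorem mem_Qof_iff (z : ⋀[WittVector p R]^r P) : z ∈ Qof (N.πr r) ↔
    z ∈ Submodule.span (WittVector p R)
      (Set.range fun q : Fin r → D.Q => ιMulti (WittVector p R) r (fun i => (q i : P))) := by
  constructor
  · intro hz
    have h1 : z = exteriorPower.map r (LinearMap.id - N.π) z + N.πr r z := by
      rw [πr_apply]; abel
    rw [h1]
    refine Submodule.add_mem _ ?_ ?_
    · -- the part in `⋀ʳ L`
      have h2 : z ∈ Submodule.span (WittVector p R) (Set.range (ιMulti (WittVector p R) r)) := by
        rw [ιMulti_span]; trivial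
      refine Submodule.span_induction ?_ ?_ ?_ ?_ h2
      · rintro _ ⟨a, rfl⟩
        rw [exteriorPower.map_apply_ιMulti]
        exact Submodule.subset_span ⟨fun i => ⟨a i - N.π (a i), N.sub_mem _⟩, rfl⟩
      · rw [map_zero]; exact Submodule.zero_mem _
      · intro x y _ _ hx hy
        rw [map_add]; exact Submodule.add_mem _ hx hy
      · intro c x _ hx
        rw [map_smul]; exact Submodule.smul_mem _ _ hx
    · have h2 : N.πr r (N.πr r z) = N.πr r z := N.πr_idem r z
      rw [← h2]
      have h3 : N.πr r z ∈ IV p R • (⊤ : Submodule (WittVector p R) (⋀[WittVector p R]^r P)) := hz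
      refine Submodule.smul_induction_on (p := fun z => N.πr r z ∈ _) h3 ?_ ?_
      · intro a ha z' _
        have h4 : z' ∈ Submodule.span (WittVector p R) (Set.range (ιMulti (WittVector p R) r)) := by
          rw [ιMulti_span]; trivial
        refine Submodule.span_induction (p := fun z' _ => N.πr r (a • z') ∈ _) ?_ ?_ ?_ ?_ h4
        · rintro _ ⟨x, rfl⟩
          rw [map_smul, πr_ιMulti, Finset.smul_sum]
          refine Submodule.sum_mem _ fun i _ => ?_
          rw [smul_comm]
          refine Submodule.smul_mem _ _ ?_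
          rw [← AlternatingMap.map_update_smul]
          have h5 : a • N.t ∈ D.Q :=
            D.IV_smul_le (Submodule.smul_mem_smul ha Submodule.mem_top)
          refine Submodule.subset_span ⟨Function.update (fun i => ⟨x i - N.π (x i), N.sub_mem _⟩) i
            ⟨_, h5⟩, ?_⟩
          beta_reduce
          congr 1
          funext j
          by_cases hj : j = i
          · subst hj; simp
          · simp [Function.update_of_ne hj]
        · rw [smul_zero, map_zero]; exact Submodule.zero_mem _
        · intro x y _ _ hx hy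
          rw [smul_add, map_add]; exact Submodule.add_mem _ hx hy
        · intro c x _ hx
          rw [smul_comm, map_smul]; exact Submodule.smul_mem _ _ hx
      · intro x y hx hy
        rw [map_add]; exact Submodule.add_mem _ hx hy
  · intro hz
    refine (Submodule.span_le.2 ?_ : _ ≤ Qof (N.πr r)) hz
    rintro _ ⟨q, rfl⟩
    change N.πr r (ιMulti (WittVector p R) r (fun i => (q i : P))) ∈
      IV p R • (⊤ : Submodule (WittVector p R) (⋀[WittVector p R]^r P))
    rw [πr_ιMulti]
    exact Submodule.sum_mem _ fun i _ =>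
      Submodule.smul_mem_smul (N.l_mem_of_mem (q i).2) Submodule.mem_top

/-- The exterior power of a 3n-display with tangent module free of rank one. -/
def ext (b : DB (WittVector p R) (⋀[WittVector p R]^r P)) :
    Display3n p R (⋀[WittVector p R]^r P) :=
  ofProj b (N.πr r) (mapSemi (WittVector.frobenius : WittVector p R →+* WittVector p R) N.Φ r)
    (N.πr_idem r) (span_range_mapSemi _ N.Φ N.span_range_Φ r)

theorem ext_Q (b : DB (WittVector p R) (⋀[WittVector p R]^r P)) : (N.ext r b).Q =
    Submodule.span (WittVector p R)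
      (Set.range fun q : Fin r → D.Q => ιMulti (WittVector p R) r (fun i => (q i : P))) := by
  ext z
  exact N.mem_Qof_iff r z

theorem Φ_t : N.Φ N.t = D.F N.t := N.Φ_of_apply_eq_self N.π_t

/-- `V⁻¹` on an element of `Q`. -/
theorem Vinv_eq {x : P} (hx : x ∈ D.Q) {u : WittVector p R} (hu : verschiebung u = N.l x) :
    D.Vinv ⟨x, hx⟩ = N.Φ (x - N.π x) + u • N.Φ N.t := by
  have h1 : (⟨x, hx⟩ : D.Q) = ⟨x - N.π x, N.sub_mem x⟩ +
      ⟨verschiebung u • N.t, verschiebung_smul_mem D u N.t⟩ := by
    apply Subtype.ext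
    change x = (x - N.π x) + verschiebung u • N.t
    rw [hu, ← N.eq, sub_add_cancel]
  rw [h1, map_add, D.Vinv_verschiebung_smul, N.Φ_t, N.Φ_of_apply_eq_zero (N.apply_sub x)]

theorem ext_Vinv (b : DB (WittVector p R) (⋀[WittVector p R]^r P)) (q : Fin r → D.Q)
    (hq : ιMulti (WittVector p R) r (fun i => (q i : P)) ∈ (N.ext r b).Q) :
    (N.ext r b).Vinv ⟨_, hq⟩ = ιMulti (WittVector p R) r (fun i => D.Vinv (q i)) := by
  have hu : ∀ i, ∃ u, verschiebung u = N.l (q i) := fun i =>
    mem_IV_iff_exists.1 (N.l_mem_of_mem (q i).2)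
  choose u hu using hu
  set a : Fin r → P := fun i => (q i : P) - N.π (q i) with ha
  have hla : ∀ i, N.l (a i) = 0 := fun i => N.l_sub _
  -- the first summand
  have h1 : N.πr r (ιMulti (WittVector p R) r a) = 0 := N.πr_of_l_eq_zero r a hla
  have h1Q : ιMulti (WittVector p R) r a ∈ (N.ext r b).Q := by
    change N.πr r _ ∈ IV p R • (⊤ : Submodule (WittVector p R) (⋀[WittVector p R]^r P))
    rw [h1]; exact Submodule.zero_mem _
  have h1V : (N.ext r b).Vinv ⟨_, h1Q⟩ = ιMulti (WittVector p R) r (fun i => N.Φ (a i)) := by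
    rw [← mapSemi_ιMulti]
    exact Vof_of_π_eq_zero b (N.πr r) _ _ h1 h1Q
  -- the other summands
  have h2F : ∀ i, (N.ext r b).F (ιMulti (WittVector p R) r (Function.update a i N.t)) =
      ιMulti (WittVector p R) r (Function.update (fun i => N.Φ (a i)) i (N.Φ N.t)) := by
    intro i
    have h3 : N.πr r (ιMulti (WittVector p R) r (Function.update a i N.t)) =
        ιMulti (WittVector p R) r (Function.update a i N.t) :=
      N.πr_of_eq_t r _ i (Function.update_self _ _ _)
    have h4 := Fof_π (N.πr r)
      (mapSemi (WittVector.frobenius : WittVector p R →+* WittVector p R) N.Φ r) (N.πr_idem r)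
      (ιMulti (WittVector p R) r (Function.update a i N.t))
    rw [h3, mapSemi_ιMulti] at h4
    change Fof (N.πr r) _ _ = _
    rw [h4]
    congr 1
    funext j
    by_cases hj : j = i
    · subst hj; simp
    · simp [Function.update_of_ne hj]
  have h2Q : ∀ i, verschiebung (u i) • ιMulti (WittVector p R) r (Function.update a i N.t) ∈
      (N.ext r b).Q := fun i => verschiebung_smul_mem _ _ _
  have h2V : ∀ i, (N.ext r b).Vinv ⟨_, h2Q i⟩ =
      u i • ιMulti (WittVector p R) r (Function.update (fun i => N.Φ (a i)) i (N.Φ N.t)) := by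
    intro i
    rw [← h2F]
    exact (N.ext r b).Vinv_verschiebung_smul _ _
  have hsum : (⟨_, hq⟩ : (N.ext r b).Q) = ⟨_, h1Q⟩ + ∑ i, ⟨_, h2Q i⟩ := by
    apply Subtype.ext
    rw [Submodule.coe_add, Submodule.coe_sum]
    change ιMulti (WittVector p R) r (fun i => (q i : P)) = ιMulti (WittVector p R) r a + _
    rw [N.ιMulti_eq]
    congr 1
    refine Finset.sum_congr rfl fun i _ => ?_
    rw [← hu]
  rw [hsum, map_add, map_sum, h1V]
  simp_rw [h2V]
  rw [← alt_add_smul]
  congr 1
  funext i
  exact (N.Vinv_eq (q i).2 (hu i)).symm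

theorem isExtPow (b : DB (WittVector p R) (⋀[WittVector p R]^r P)) :
    IsExtPow D r (N.ext r b) :=
  ⟨N.ext_Q r b, N.ext_Vinv r b⟩

end R1

/-- Induction over the `Q` of an exterior power. -/
theorem extQ_induction {D : Display3n p R P} {r : ℕ} {E : Display3n p R (⋀[WittVector p R]^r P)}
    (hE : IsExtPow D r E) {motive : E.Q → Prop}
    (hw : ∀ (q : Fin r → D.Q) (h : ιMulti (WittVector p R) r (fun i => (q i : P)) ∈ E.Q),
      motive ⟨_, h⟩)
    (h0 : motive 0)
    (hadd : ∀ x y, motive x → motive y → motive (x + y))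
    (hsmul : ∀ (a : WittVector p R) x, motive x → motive (a • x)) (z : E.Q) : motive z := by
  have key : ∀ z ∈ Submodule.span (WittVector p R)
      (Set.range fun q : Fin r → D.Q => ιMulti (WittVector p R) r (fun i => (q i : P))),
      ∃ h : z ∈ E.Q, motive ⟨z, h⟩ := by
    intro z hz
    refine Submodule.span_induction ?_ ?_ ?_ ?_ hz
    · rintro _ ⟨q, rfl⟩
      have : ιMulti (WittVector p R) r (fun i => (q i : P)) ∈ E.Q := by
        rw [hE.1]; exact Submodule.subset_span ⟨q, rfl⟩
      exact ⟨this, hw q this⟩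
    · exact ⟨E.Q.zero_mem, h0⟩
    · rintro x y - - ⟨hx, hx'⟩ ⟨hy, hy'⟩
      exact ⟨E.Q.add_mem hx hy, hadd _ _ hx' hy'⟩
    · rintro a x - ⟨hx, hx'⟩
      exact ⟨E.Q.smul_mem a hx, hsmul a _ hx'⟩
  obtain ⟨z, hz⟩ := z
  have hz' := hz
  rw [hE.1] at hz'
  obtain ⟨h, h'⟩ := key z hz'
  exact h'

theorem unique {D : Display3n p R P} {r : ℕ} {E E' : Display3n p R (⋀[WittVector p R]^r P)}
    (hE : IsExtPow D r E) (hE' : IsExtPow D r E') : E' = E := by
  have hQ : E'.Q = E.Q := by rw [hE.1, hE'.1]
  refine display_ext hQ ?_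
  intro y hy hy'
  refine extQ_induction hE (motive := fun z => ∀ h : (z : ⋀[WittVector p R]^r P) ∈ E'.Q,
    E'.Vinv ⟨z, h⟩ = E.Vinv z) ?_ ?_ ?_ ?_ ⟨y, hy'⟩ hy
  · intro q h h'
    rw [hE.2, hE'.2]
  · intro h
    rw [map_zero]
    exact map_zero E'.Vinv
  · intro x y hx hy h
    have hx' : (x : ⋀[WittVector p R]^r P) ∈ E'.Q := by rw [hQ]; exact x.2
    have hy' : (y : ⋀[WittVector p R]^r P) ∈ E'.Q := by rw [hQ]; exact y.2
    rw [map_add, ← hx hx', ← hy hy', ← map_add]
    rfl
  · intro a x hx h
    have hx' : (x : ⋀[WittVector p R]^r P) ∈ E'.Q := by rw [hQ]; exact x.2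
    rw [LinearMap.map_smulₛₗ, ← hx hx', ← LinearMap.map_smulₛₗ]
    rfl

theorem isAltMult {D : Display3n p R P} {r : ℕ} {E : Display3n p R (⋀[WittVector p R]^r P)}
    (hE : IsExtPow D r E) : IsAltMult D E (ιMulti (WittVector p R) r) where
  mapsTo q := by
    rw [hE.1]; exact Submodule.subset_span ⟨q, rfl⟩
  vCond q := hE.2 q _
  fCond i x q := by
    rw [F_eq_Vinv, F_eq_Vinv]
    have h1 : verschiebung (1 : WittVector p R) •
        ιMulti (WittVector p R) r (Function.update (fun j => (q j : P)) i x) =
        ιMulti (WittVector p R) r (fun j => ((Function.update q i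
          ⟨verschiebung (1 : WittVector p R) • x, verschiebung_smul_mem D 1 x⟩) j : P)) := by
      rw [← AlternatingMap.map_update_smul]
      congr 1
      funext j
      by_cases hj : j = i
      · subst hj; simp
      · simp [Function.update_of_ne hj]
    rw [Vinv_eq_of_eq E h1 _ (by rw [hE.1]; exact Submodule.subset_span ⟨_, rfl⟩), hE.2]
    congr 1
    funext j
    by_cases hj : j = i
    · subst hj; simp
    · simp [Function.update_of_ne hj]

theorem universal {D : Display3n p R P} {r : ℕ} {E : Display3n p R (⋀[WittVector p R]^r P)}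
    (hE : IsExtPow D r E) {P' : Type w} [AddCommGroup P'] [Module (WittVector p R) P']
    (D' : Display3n p R P') (φ : P [⋀^Fin r]→ₗ[WittVector p R] P') (hφ : IsAltMult D D' φ) :
    ∃! ψ : ⋀[WittVector p R]^r P →ₗ[WittVector p R] P',
      IsHom E D' ψ ∧ ψ.compAlternatingMap (ιMulti (WittVector p R) r) = φ := by
  set ψ := alternatingMapLinearEquiv φ with hψ
  have hψι : ∀ a, ψ (ιMulti (WittVector p R) r a) = φ a := fun a =>
    alternatingMapLinearEquiv_apply_ιMulti φ a
  refine ⟨ψ, ⟨?_, ?_⟩, ?_⟩
  · have hmaps : ∀ z : ⋀[WittVector p R]^r P, z ∈ E.Q → ψ z ∈ D'.Q := by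
      intro z hz
      refine extQ_induction hE (motive := fun z => ψ z ∈ D'.Q) ?_ ?_ ?_ ?_ ⟨z, hz⟩
      · intro q h
        change ψ (ιMulti _ r _) ∈ D'.Q
        rw [hψι]; exact hφ.mapsTo q
      · change ψ 0 ∈ _
        rw [map_zero]; exact D'.Q.zero_mem
      · intro x y hx hy
        change ψ ((x : ⋀[WittVector p R]^r P) + y) ∈ _
        rw [map_add]; exact D'.Q.add_mem hx hy
      · intro a x hx
        change ψ (a • (x : ⋀[WittVector p R]^r P)) ∈ _
        rw [map_smul]; exact D'.Q.smul_mem a hx
    have hV : ∀ z : E.Q, ψ (E.Vinv z) = D'.Vinv ⟨ψ z, hmaps z z.2⟩ := by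
      intro z
      refine extQ_induction hE (motive := fun z => ψ (E.Vinv z) = D'.Vinv ⟨ψ z, hmaps z z.2⟩)
        ?_ ?_ ?_ ?_ z
      · intro q h
        rw [hE.2, hψι, ← hφ.vCond]
        exact Vinv_eq_of_eq D' (hψι _).symm _ _
      · rw [map_zero, map_zero]
        symm
        rw [Vinv_eq_of_eq D' (show ψ ((0 : E.Q) : ⋀[WittVector p R]^r P) = 0 from map_zero ψ) _
          D'.Q.zero_mem]
        exact map_zero D'.Vinv
      · intro x y hx hy
        rw [map_add, map_add, hx, hy, ← map_add]
        exact Vinv_eq_of_eq D' (by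
          change ψ x + ψ y = ψ ((x : ⋀[WittVector p R]^r P) + y); rw [map_add]) _ _
      · intro a x hx
        rw [LinearMap.map_smulₛₗ, map_smul, hx, ← LinearMap.map_smulₛₗ]
        exact Vinv_eq_of_eq D' (by
          change a • ψ x = ψ (a • (x : ⋀[WittVector p R]^r P)); rw [map_smul]) _ _
    refine ⟨hmaps, ?_, hV⟩
    intro x
    rw [F_eq_Vinv, hV, F_eq_Vinv]
    exact Vinv_eq_of_eq D' (map_smul ψ _ x) _ _
  · ext a
    exact hψι a
  · rintro ψ' ⟨-, h⟩
    apply exteriorPower.linearMap_ext
    rw [h]
    ext a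
    exact (hψι a).symm

end Disp

end K789.ExtPow
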