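import Groth.Agent.Disp.K789.ExtPow

/-!
# The rank of the tangent module of an exterior power
-/

set_option autoImplicit false

universe u v w

noncomputable section

namespace K789.ExtRank

open exteriorPower

variable {A : Type u} [CommRing A] {M : Type v} [AddCommGroup M] [Module A M]

/-- wedge with `t` -/
def wt (t : M) (L : Submodule A M) (n : ℕ) : ⋀[A]^n L →ₗ[A] ⋀[A]^(n + 1) M :=
  alternatingMapLinearEquiv (((ιMulti A (n + 1)).curryLeft t).compLinearMap L.subtype)

theorem wt_ιMulti (t : M) (L : Submodule A M) (n : ℕ) (a : Fin n → L) :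
    wt t L n (ιMulti A n a) = ιMulti A (n + 1) (Matrix.vecCons t (fun i => (a i : M))) :=
  alternatingMapLinearEquiv_apply_ιMulti _ _

theorem coe_wt (t : M) (L : Submodule A M) (n : ℕ) (z : ⋀[A]^n L) :
    (wt t L n z : ExteriorAlgebra A M) =
      ExteriorAlgebra.ι A t * (exteriorPower.map n L.subtype z : ExteriorAlgebra A M) := by
  have hz : z ∈ Submodule.span A (Set.range (ιMulti A n)) := by rw [ιMulti_span]; trivial
  refine Submodule.span_induction ?_ ?_ ?_ ?_ hz
  · rintro _ ⟨a, rfl⟩
    rw [wt_ιMulti, ιMulti_apply_coe, ExteriorAlgebra.ιMulti_succ_apply, exteriorPower.map_apply_ιMulti,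
      ιMulti_apply_coe]
    simp [Matrix.vecTail, Function.comp_def]
  · simp
  · intro x y _ _ hx hy
    rw [map_add, map_add, Submodule.coe_add, Submodule.coe_add, hx, hy, mul_add]
  · intro c x _ hx
    rw [map_smul, map_smul, Submodule.coe_smul, Submodule.coe_smul, hx, mul_smul_comm]

theorem contractLeft_ιMulti (l : M →ₗ[A] A) (n : ℕ) : ∀ (a : Fin n → M), (∀ i, l (a i) = 0) →
    CliffordAlgebra.contractLeft (Q := (0 : QuadraticForm A M)) l (ExteriorAlgebra.ιMulti A n a) = 0 := by
  induction n with
  | zero =>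
    intro a _
    rw [ExteriorAlgebra.ιMulti_zero_apply]
    exact CliffordAlgebra.contractLeft_one _ _
  | succ n ih =>
    intro a ha
    rw [ExteriorAlgebra.ιMulti_succ_apply]
    erw [CliffordAlgebra.contractLeft_ι_mul]
    rw [ha, zero_smul, zero_sub]
    have := ih (Matrix.vecTail a) (fun i => ha _)
    erw [this, mul_zero, neg_zero]

theorem contractLeft_map (l : M →ₗ[A] A) (L : Submodule A M) (hL : ∀ x ∈ L, l x = 0) (n : ℕ)
    (z : ⋀[A]^n L) : CliffordAlgebra.contractLeft (Q := (0 : QuadraticForm A M)) l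
      (exteriorPower.map n L.subtype z : ExteriorAlgebra A M) = 0 := by
  have hz : z ∈ Submodule.span A (Set.range (ιMulti A n)) := by rw [ιMulti_span]; trivial
  refine Submodule.span_induction ?_ ?_ ?_ ?_ hz
  · rintro _ ⟨a, rfl⟩
    rw [exteriorPower.map_apply_ιMulti, ιMulti_apply_coe]
    exact contractLeft_ιMulti l n _ (fun i => hL _ (a i).2)
  · rw [map_zero, Submodule.coe_zero, map_zero]
  · intro x y _ _ hx hy
    rw [map_add, Submodule.coe_add, map_add, hx, hy, add_zero]
  · intro c x _ hx
    rw [map_smul, Submodule.coe_smul, map_smul, hx, smul_zero]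

theorem wt_injective (t : M) (l : M →ₗ[A] A) (hlt : l t = 1) (n : ℕ) :
    Function.Injective (wt t (LinearMap.ker l) n) := by
  rw [injective_iff_map_eq_zero]
  intro z hz
  have h1 := coe_wt t (LinearMap.ker l) n z
  rw [hz, Submodule.coe_zero] at h1
  have h2 := congrArg (CliffordAlgebra.contractLeft (Q := (0 : QuadraticForm A M)) l) h1
  erw [CliffordAlgebra.contractLeft_ι_mul] at h2
  rw [hlt, one_smul, contractLeft_map l _ (fun x hx => hx), map_zero] at h2
  erw [mul_zero, sub_zero] at h2
  have h3 : exteriorPower.map n (LinearMap.ker l).subtype z = 0 := Subtype.ext h2.symm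
  have hret : (LinearMap.id - l.smulRight t).codRestrict (LinearMap.ker l) (fun x => by
      simp [hlt]) ∘ₗ (LinearMap.ker l).subtype = LinearMap.id := by
    ext x
    have : l (x : M) = 0 := x.2
    simp [this]
  exact exteriorPower.map_injective _ hret (by rw [h3, map_zero])

theorem mem_range_wt (t : M) (L : Submodule A M) (n : ℕ) (i : Fin (n + 1)) (a : Fin (n + 1) → M)
    (hi : a i = t) (ha : ∀ j, j ≠ i → a j ∈ L) :
    ιMulti A (n + 1) a ∈ LinearMap.range (wt t L n) := by
  have h1 : ιMulti A (n + 1) (a ∘ Equiv.swap 0 i) ∈ LinearMap.range (wt t L n) := by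
    have h2 : ∀ j : Fin n, a (Equiv.swap 0 i j.succ) ∈ L := by
      intro j
      apply ha
      intro h
      have : Equiv.swap 0 i j.succ = Equiv.swap 0 i 0 := by rw [h, Equiv.swap_apply_left]
      exact Fin.succ_ne_zero j ((Equiv.swap 0 i).injective this)
    refine ⟨ιMulti A n (fun j => ⟨_, h2 j⟩), ?_⟩
    rw [wt_ιMulti]
    congr 1
    funext j
    refine Fin.cases ?_ (fun j => ?_) j
    · simp [hi]
    · simp
  rw [AlternatingMap.map_perm] at h1
  rcases Int.units_eq_one_or (Equiv.Perm.sign (Equiv.swap 0 i)) with h | h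
  · rwa [h, one_smul] at h1
  · rw [h] at h1
    simpa using h1


section Disp

open W4c1extbt610 K789.DualBasis K789.DNProj K789.OfProj K789.ExtPow

variable {p : ℕ} [hp : Fact p.Prime] {R : Type u} [CommRing R]
variable {P : Type v} [AddCommGroup P] [Module (WittVector p R) P]

theorem range_πr {D : Display3n p R P} (N : R1 D) (n : ℕ) :
    LinearMap.range (N.πr (n + 1)) = LinearMap.range (wt N.t (LinearMap.ker N.l) n) := by
  apply le_antisymm
  · rintro _ ⟨z, rfl⟩
    have hz : z ∈ Submodule.span (WittVector p R)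
        (Set.range (ιMulti (WittVector p R) (M := P) (n + 1))) := by
      rw [ιMulti_span]; trivial
    refine Submodule.span_induction ?_ ?_ ?_ ?_ hz
    · rintro _ ⟨a, rfl⟩
      rw [N.πr_ιMulti]
      refine Submodule.sum_mem _ fun i _ => Submodule.smul_mem _ _ ?_
      refine mem_range_wt N.t _ n i _ (Function.update_self _ _ _) ?_
      intro j hj
      rw [Function.update_of_ne hj]
      exact N.l_sub _
    · rw [map_zero]; exact Submodule.zero_mem _
    · intro x y _ _ hx hy
      rw [map_add]; exact Submodule.add_mem _ hx hy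
    · intro c x _ hx
      rw [map_smul]; exact Submodule.smul_mem _ _ hx
  · rintro _ ⟨z, rfl⟩
    have hz : z ∈ Submodule.span (WittVector p R)
        (Set.range (ιMulti (WittVector p R) (M := LinearMap.ker N.l) n)) := by
      rw [ιMulti_span]; trivial
    refine Submodule.span_induction ?_ ?_ ?_ ?_ hz
    · rintro _ ⟨a, rfl⟩
      rw [wt_ιMulti]
      exact ⟨_, N.πr_of_eq_t _ _ 0 rfl⟩
    · rw [map_zero]; exact Submodule.zero_mem _
    · intro x y _ _ hx hy
      rw [map_add]; exact Submodule.add_mem _ hx hy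
    · intro c x _ hx
      rw [map_smul]; exact Submodule.smul_mem _ _ hx

theorem main [Nontrivial R] {D : Display3n p R P} (m : ℕ)
    (L T : Submodule (WittVector p R) P) (hLT : IsCompl L T) (hQ : D.Q = L ⊔ IV p R • T)
    (hL : Module.Free (WittVector p R) L) (hLr : Module.finrank (WittVector p R) L = m)
    (e : T ≃ₗ[WittVector p R] WittVector p R)
    (n : ℕ) (E : Display3n p R (⋀[WittVector p R]^(n + 1) P)) (hE : IsExtPow D (n + 1) E) :
    ∃ L' T' : Submodule (WittVector p R) (⋀[WittVector p R]^(n + 1) P), IsCompl L' T' ∧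
      E.Q = L' ⊔ IV p R • T' ∧ Module.Free (WittVector p R) T' ∧
      Module.finrank (WittVector p R) T' = m.choose n := by
  obtain ⟨N, hNL, -⟩ := exists_R1 L T hLT hQ e
  have := D.finite
  have := D.projective
  have := exteriorPower_projective (A := WittVector p R) (M := P) (n + 1)
  obtain ⟨b⟩ := exists_db (A := WittVector p R) (M := ⋀[WittVector p R]^(n + 1) P)
  have hfin : Module.Finite (WittVector p R) L :=
    Module.Finite.of_surjective (L.projection T hLT |>.codRestrict L
      (L.projection_apply_mem hLT)) (fun x => ⟨x, Subtype.ext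
        (L.projection_apply_of_mem_left hLT x.2)⟩)
  have hQ' : E.Q = (N.ext (n + 1) b).Q := by rw [hE.1, N.ext_Q]
  refine ⟨LinearMap.ker (N.πr (n + 1)), LinearMap.range (N.πr (n + 1)),
    isCompl_ker_range _ (N.πr_idem (n + 1)), ?_, ?_⟩
  · rw [hQ']
    exact Qof_eq _ (N.πr_idem (n + 1))
  · rw [range_πr]
    let e' := LinearEquiv.ofInjective _ (wt_injective N.t N.l N.lt n)
    subst hNL
    refine ⟨Module.Free.of_equiv e', ?_⟩
    rw [← e'.finrank_eq, exteriorPower.finrank_eq, hLr]

end Disp

end K789.ExtRank
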