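import Groth.Agent.Disp.K789.WittIdeal
import Mathlib.LinearAlgebra.Basis.Basic
import Mathlib.RingTheory.Ideal.Maps

/-!
# Lifting homomorphisms of modules with Frobenius-linear isomorphisms
-/

set_option autoImplicit false

universe u v w z

noncomputable section

namespace K789.FrobLift

open K789.WittIdeal

variable {A : Type u} [CommRing A] (σ : A →+* A)
variable {P₁ : Type v} [AddCommGroup P₁] [Module A P₁]
variable {P₂ : Type w} [AddCommGroup P₂] [Module A P₂]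
variable {ι₁ : Type z}

@[elab_as_elim]
theorem basis_induction {ι : Type*} {P : Type*} [AddCommGroup P] [Module A P] (b : Module.Basis ι A P)
    {motive : P → Prop} (x : P) (coe : ∀ i, motive (b i)) (zero : motive 0)
    (smul : ∀ (a : A) (x : P), motive x → motive (a • x))
    (add : ∀ x y, motive x → motive y → motive (x + y)) : motive x := by
  refine Submodule.span_induction (p := fun x _ => motive x) ?_ zero ?_ ?_ (b.mem_span x)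
  · rintro _ ⟨i, rfl⟩; exact coe i
  · intro x y _ _ hx hy; exact add x y hx hy
  · intro a x _ hx; exact smul a x hx

/-- The operator `α ↦ F₂ ∘ α ∘ F₁⁻¹` (linearised). -/
def U (b₁ : Module.Basis ι₁ A P₁) (c₁ : Module.Basis ι₁ A P₁) (F₂ : P₂ →ₛₗ[σ] P₂)
    (α : P₁ →ₗ[A] P₂) : P₁ →ₗ[A] P₂ :=
  c₁.constr ℕ (fun i => F₂ (α (b₁ i)))

variable {σ}
variable {b₁ c₁ : Module.Basis ι₁ A P₁} {F₁ : P₁ →ₛₗ[σ] P₁} {F₂ : P₂ →ₛₗ[σ] P₂}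

theorem U_apply_basis (α : P₁ →ₗ[A] P₂) (i : ι₁) : U σ b₁ c₁ F₂ α (c₁ i) = F₂ (α (b₁ i)) := by
  simp [U]

theorem U_apply (hc : ∀ i, c₁ i = F₁ (b₁ i)) (α : P₁ →ₗ[A] P₂) (x : P₁) :
    U σ b₁ c₁ F₂ α (F₁ x) = F₂ (α x) := by
  refine basis_induction b₁ x ?_ ?_ ?_ ?_
  · intro i; rw [← hc, U_apply_basis]
  · simp
  · intro a x hx
    rw [LinearMap.map_smulₛₗ, map_smul, hx, map_smul, LinearMap.map_smulₛₗ]
  · intro x y hx hy; rw [map_add, map_add, hx, hy, map_add, map_add]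

theorem eq_U_iff (hc : ∀ i, c₁ i = F₁ (b₁ i)) (α : P₁ →ₗ[A] P₂) :
    U σ b₁ c₁ F₂ α = α ↔ ∀ x, F₂ (α x) = α (F₁ x) := by
  constructor
  · intro h x
    rw [← U_apply (b₁ := b₁) (c₁ := c₁) hc α x, h]
  · intro h
    apply c₁.ext
    intro i
    rw [U_apply_basis, h, hc]

theorem semilin_mem {𝔠 𝔡 : Ideal A} (h : ∀ a ∈ 𝔠, σ a ∈ 𝔡) {x : P₂}
    (hx : x ∈ 𝔠 • (⊤ : Submodule A P₂)) : F₂ x ∈ 𝔡 • (⊤ : Submodule A P₂) := by
  refine Submodule.smul_induction_on hx ?_ ?_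
  · intro r hr n _
    rw [LinearMap.map_smulₛₗ]
    exact Submodule.smul_mem_smul (h r hr) Submodule.mem_top
  · intro x y hx hy
    rw [map_add]
    exact Submodule.add_mem _ hx hy

theorem basis_cong {𝔠 : Ideal A} (c₁ : Module.Basis ι₁ A P₁) (α β : P₁ →ₗ[A] P₂)
    (h : ∀ i, α (c₁ i) - β (c₁ i) ∈ 𝔠 • (⊤ : Submodule A P₂)) (x : P₁) :
    α x - β x ∈ 𝔠 • (⊤ : Submodule A P₂) := by
  refine basis_induction c₁ x ?_ ?_ ?_ ?_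
  · exact h
  · simp
  · intro a x hx; rw [map_smul, map_smul, ← smul_sub]; exact Submodule.smul_mem _ _ hx
  · intro x y hx hy
    rw [map_add, map_add, add_sub_add_comm]; exact Submodule.add_mem _ hx hy

theorem U_cong {𝔠 𝔡 : Ideal A} (h : ∀ a ∈ 𝔠, σ a ∈ 𝔡) {α β : P₁ →ₗ[A] P₂}
    (hαβ : ∀ x, α x - β x ∈ 𝔠 • (⊤ : Submodule A P₂)) (x : P₁) :
    U σ b₁ c₁ F₂ α x - U σ b₁ c₁ F₂ β x ∈ 𝔡 • (⊤ : Submodule A P₂) := by
  revert x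
  apply basis_cong c₁
  intro i
  rw [U_apply_basis, U_apply_basis, ← map_sub]
  exact semilin_mem h (hαβ _)

theorem iterate_U_cong {𝔠 : Ideal A} {α β : P₁ →ₗ[A] P₂}
    (hαβ : ∀ x, α x - β x ∈ 𝔠 • (⊤ : Submodule A P₂)) (m : ℕ) :
    ∀ x, (U σ b₁ c₁ F₂)^[m] α x - (U σ b₁ c₁ F₂)^[m] β x ∈
      (Ideal.span (σ^[m] '' 𝔠)) • (⊤ : Submodule A P₂) := by
  induction m with
  | zero => simpa using hαβ
  | succ m ih =>
    rw [Function.iterate_succ_apply', Function.iterate_succ_apply']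
    apply U_cong ?_ ih
    intro a ha
    refine Submodule.span_induction (p := fun a _ => σ a ∈ Ideal.span (σ^[m+1] '' (𝔠 : Set A))) ?_ ?_ ?_ ?_ ha
    · rintro _ ⟨y, hy, rfl⟩
      exact Ideal.subset_span ⟨y, hy, by rw [Function.iterate_succ_apply']⟩
    · simp
    · intro x y _ _ hx hy; rw [map_add]; exact Ideal.add_mem _ hx hy
    · intro a x _ hx; rw [smul_eq_mul, map_mul]; exact Ideal.mul_mem_left _ _ hx

theorem iterate_U_eq {𝔠 : Ideal A} {α β : P₁ →ₗ[A] P₂}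
    (hαβ : ∀ x, α x - β x ∈ 𝔠 • (⊤ : Submodule A P₂)) {m : ℕ} (hm : ∀ x ∈ 𝔠, σ^[m] x = 0) :
    (U σ b₁ c₁ F₂)^[m] α = (U σ b₁ c₁ F₂)^[m] β := by
  ext x
  have h := iterate_U_cong (b₁ := b₁) (c₁ := c₁) (F₂ := F₂) hαβ m x
  have h0 : Ideal.span (σ^[m] '' (𝔠 : Set A)) = ⊥ := by
    rw [eq_bot_iff, Ideal.span_le]
    rintro _ ⟨y, hy, rfl⟩
    exact hm y hy
  rw [h0, Submodule.bot_smul, Submodule.mem_bot, sub_eq_zero] at h
  exact h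

theorem exists_lift (hc : ∀ i, c₁ i = F₁ (b₁ i)) {𝔠 𝔧 : Ideal A} {m : ℕ} (h𝔠𝔧 : 𝔠 ≤ 𝔧)
    (hm : ∀ x ∈ 𝔧, σ^[m] x = 0) (h𝔠 : ∀ x ∈ 𝔠, σ x ∈ 𝔠) (α₀ : P₁ →ₗ[A] P₂)
    (hα₀ : ∀ x, F₂ (α₀ x) - α₀ (F₁ x) ∈ 𝔠 • (⊤ : Submodule A P₂)) :
    ∃ α : P₁ →ₗ[A] P₂, (∀ x, α x - α₀ x ∈ 𝔠 • (⊤ : Submodule A P₂)) ∧ ∀ x, F₂ (α x) = α (F₁ x) := by
  have h1 : ∀ x, U σ b₁ c₁ F₂ α₀ x - α₀ x ∈ 𝔠 • (⊤ : Submodule A P₂) := by
    apply basis_cong c₁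
    intro i
    rw [U_apply_basis, hc]
    exact hα₀ _
  refine ⟨(U σ b₁ c₁ F₂)^[m] α₀, ?_, ?_⟩
  · have key : ∀ k : ℕ, ∀ x, (U σ b₁ c₁ F₂)^[k] α₀ x - α₀ x ∈ 𝔠 • (⊤ : Submodule A P₂) := by
      intro k
      induction k with
      | zero => intro x; simp
      | succ k ih =>
        intro x
        rw [Function.iterate_succ_apply']
        have h2 := U_cong (b₁ := b₁) (c₁ := c₁) (F₂ := F₂) h𝔠 ih x
        have := Submodule.add_mem _ h2 (h1 x)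
        rwa [sub_add_sub_cancel] at this
    exact key m
  · rw [← eq_U_iff (b₁ := b₁) (c₁ := c₁) hc,
      ← Function.iterate_succ_apply' (U σ b₁ c₁ F₂) m α₀, Function.iterate_succ_apply]
    exact iterate_U_eq (𝔠 := 𝔧) (fun x => Submodule.smul_mono_left h𝔠𝔧 (h1 x)) hm

theorem unique_lift (hc : ∀ i, c₁ i = F₁ (b₁ i)) {𝔧 : Ideal A} {m : ℕ}
    (hm : ∀ x ∈ 𝔧, σ^[m] x = 0) (α β : P₁ →ₗ[A] P₂)
    (hαβ : ∀ x, α x - β x ∈ 𝔧 • (⊤ : Submodule A P₂))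
    (hα : ∀ x, F₂ (α x) = α (F₁ x)) (hβ : ∀ x, F₂ (β x) = β (F₁ x)) : α = β := by
  have h1 : U σ b₁ c₁ F₂ α = α := (eq_U_iff hc α).2 hα
  have h2 : U σ b₁ c₁ F₂ β = β := (eq_U_iff hc β).2 hβ
  have h := iterate_U_eq (b₁ := b₁) (c₁ := c₁) (F₂ := F₂) hαβ hm
  rwa [Function.iterate_fixed h1, Function.iterate_fixed h2] at h

end K789.FrobLift
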