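import Groth.Agent.Disp.K789.Vdual
import Mathlib.Algebra.CharP.Quotient
import Mathlib.LinearAlgebra.Matrix.ToLin

/-!
# The matrix criterion for the nilpotence condition
-/

set_option autoImplicit false

universe u v w

noncomputable section

namespace K789.MatrixCrit

open WittVector W4c1extbt610 K789.DispBasic K789.DualBasis K789.DNProj K789.Vdual Dieu

variable {p : ℕ} [hp : Fact p.Prime] {R : Type u} [CommRing R]

/-- Reduction `W(R) → R/p`. -/
def red (p : ℕ) [Fact p.Prime] (R : Type u) [CommRing R] : WittVector p R →+* R ⧸ Ideal.span {(p : R)} :=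
  (Ideal.Quotient.mk (Ideal.span {(p : R)})).comp WittVector.constantCoeff

theorem red_apply (x : WittVector p R) :
    red p R x = Ideal.Quotient.mk (Ideal.span {(p : R)}) (WittVector.constantCoeff x) := rfl

omit hp in
theorem natCast_quot : (p : R ⧸ Ideal.span {(p : R)}) = 0 := by
  rw [← map_natCast (Ideal.Quotient.mk (Ideal.span {(p : R)})), Ideal.Quotient.eq_zero_iff_mem]
  exact Ideal.mem_span_singleton_self _

theorem mem_J_iff {x : WittVector p R} : x ∈ J p R ↔ red p R x = 0 := by
  constructor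
  · intro hx
    obtain ⟨a, ha, b, hb, rfl⟩ := Submodule.mem_sup.1 hx
    obtain ⟨c, rfl⟩ := Ideal.mem_span_singleton.1 hb
    have h1 : red p R a = 0 := by
      rw [red_apply]
      have : WittVector.constantCoeff a = 0 := mem_IV_iff_coeff_zero.1 ha
      rw [this, map_zero]
    rw [map_add, h1, map_mul, map_natCast, natCast_quot, zero_mul, add_zero]
  · intro hx
    rw [red_apply, Ideal.Quotient.eq_zero_iff_mem, Ideal.mem_span_singleton] at hx
    obtain ⟨c, hc⟩ := hx
    have h1 : x = (x - (p : WittVector p R) * teichmuller p c) + (p : WittVector p R) * teichmuller p c := by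
      ring
    rw [h1]
    refine Submodule.add_mem_sup ?_ (Ideal.mul_mem_right _ _ (Ideal.mem_span_singleton_self _))
    rw [mem_IV_iff_coeff_zero]
    change WittVector.constantCoeff (x - (p : WittVector p R) * teichmuller p c) = 0
    rw [map_sub, map_mul, map_natCast, hc]
    change _ - (p : R) * (teichmuller p c).coeff 0 = 0
    rw [teichmuller_coeff_zero, sub_self]

theorem red_frobenius (x : WittVector p R) : red p R (WittVector.frobenius x) = red p R x ^ p := by
  rw [← map_pow, ← sub_eq_zero, ← map_sub, ← mem_J_iff]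
  exact K789.VSharp.frobenius_sub_pow_mem x

variable {P : Type v} [AddCommGroup P] [Module (WittVector p R) P]
variable {D : Display3n p R P}

theorem Vd_apply_sum {Vs : P →ₗ[WittVector p R] BC (WittVector.frobenius : WittVector p R →+* WittVector p R) P}
    (hVs : IsVSharp D Vs) {ιT ιL : Type w} [Fintype ιT] [Fintype ιL]
    [DecidableEq ιT] [DecidableEq ιL]
    (t : ιT → P) (l : ιL → P) (hl : ∀ k, l k ∈ D.Q)
    (α β : Matrix (ιT ⊕ ιL) (ιT ⊕ ιL) (WittVector p R)) (hαβ : α * β = 1)
    (hF : ∀ j : ιT, D.F (t j) = Finset.univ.sum fun i : ιT ⊕ ιL => α i (Sum.inl j) • Sum.elim t l i)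
    (hV : ∀ k : ιL, D.Vinv ⟨l k, hl k⟩ =
      Finset.univ.sum fun i : ιT ⊕ ιL => α i (Sum.inr k) • Sum.elim t l i)
    (φ : P →ₗ[WittVector p R] WittVector p R) (m : ιT ⊕ ιL) :
    red p R (Vd Vs φ (Sum.elim t l m)) =
      ∑ k, red p R (β (Sum.inr k) m) * red p R (φ (l k)) ^ p := by
  let c : ιT ⊕ ιL → P := Sum.elim (fun j => D.F (t j)) (fun k => D.Vinv ⟨l k, hl k⟩)
  have hc : ∀ q, c q = ∑ i, α i q • Sum.elim t l i := by
    rintro (j | k)
    · exact hF j
    · exact hV k
  have he : Sum.elim t l m = ∑ q, β q m • c q := by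
    simp_rw [hc, Finset.smul_sum, smul_smul]
    rw [Finset.sum_comm]
    have h1 : ∀ i, ∑ q, (β q m * α i q) • Sum.elim t l i = (1 : Matrix (ιT ⊕ ιL) (ιT ⊕ ιL) (WittVector p R)) i m •
        Sum.elim t l i := by
      intro i
      rw [← Finset.sum_smul, ← hαβ, Matrix.mul_apply]
      congr 1
      exact Finset.sum_congr rfl fun q _ => mul_comm _ _
    simp_rw [h1, Matrix.one_apply, ite_smul, one_smul, zero_smul]
    rw [Finset.sum_ite_eq' Finset.univ m]
    simp
  rw [he, map_sum, map_sum, Fintype.sum_sum_type]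
  have h1 : ∑ j : ιT, red p R (Vd Vs φ (β (Sum.inl j) m • c (Sum.inl j))) = 0 := by
    refine Finset.sum_eq_zero fun j _ => ?_
    rw [map_smul, smul_eq_mul, map_mul]
    change _ * red p R (Vd Vs φ (D.F (t j))) = 0
    rw [Vd_apply_F hVs, map_mul, map_natCast, natCast_quot, zero_mul, mul_zero]
  rw [h1, zero_add]
  refine Finset.sum_congr rfl fun k _ => ?_
  rw [map_smul, smul_eq_mul, map_mul]
  change _ * red p R (Vd Vs φ (D.Vinv ⟨l k, hl k⟩)) = _
  rw [Vd_apply_Vinv hVs, red_frobenius]

/-- The twisted product of matrices. -/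
def tw {k : Type*} [CommRing k] (p : ℕ) {ι : Type*} [Fintype ι] [DecidableEq ι] (B : Matrix ι ι k) (N : ℕ) :
    Matrix ι ι k :=
  ((List.range N).reverse.map fun i : ℕ => B.map fun x : k => x ^ p ^ i).prod

theorem tw_zero {k : Type*} [CommRing k] (p : ℕ) {ι : Type*} [Fintype ι] [DecidableEq ι] (B : Matrix ι ι k) :
    tw p B 0 = 1 := by
  simp [tw]

theorem tw_succ {k : Type*} [CommRing k] (p : ℕ) {ι : Type*} [Fintype ι] [DecidableEq ι] (B : Matrix ι ι k)
    (N : ℕ) : tw p B (N + 1) = (B.map fun x : k => x ^ p ^ N) * tw p B N := by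
  rw [tw, List.range_succ, List.reverse_append, List.reverse_singleton, List.singleton_append, List.map_cons,
    List.prod_cons]
  rfl

theorem iterate_Vd_red [CharP (R ⧸ Ideal.span {(p : R)}) p]
    {Vs : P →ₗ[WittVector p R] BC (WittVector.frobenius : WittVector p R →+* WittVector p R) P}
    (hVs : IsVSharp D Vs) {ιT ιL : Type w} [Fintype ιT] [Fintype ιL]
    [DecidableEq ιT] [DecidableEq ιL]
    (t : ιT → P) (l : ιL → P) (hl : ∀ k, l k ∈ D.Q)
    (α β : Matrix (ιT ⊕ ιL) (ιT ⊕ ιL) (WittVector p R)) (hαβ : α * β = 1)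
    (hF : ∀ j : ιT, D.F (t j) = Finset.univ.sum fun i : ιT ⊕ ιL => α i (Sum.inl j) • Sum.elim t l i)
    (hV : ∀ k : ιL, D.Vinv ⟨l k, hl k⟩ =
      Finset.univ.sum fun i : ιT ⊕ ιL => α i (Sum.inr k) • Sum.elim t l i)
    (n : ℕ) (φ : P →ₗ[WittVector p R] WittVector p R) (j : ιL) :
    red p R ((Vd Vs)^[n] φ (l j)) =
      ∑ k, red p R (φ (l k)) ^ p ^ n *
        tw p (Matrix.of fun k l : ιL => red p R (β (Sum.inr k) (Sum.inr l))) n k j := by
  induction n generalizing φ with
  | zero =>
    rw [tw_zero]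
    simp [Matrix.one_apply]
  | succ n ih =>
    rw [Function.iterate_succ_apply, ih, tw_succ]
    simp_rw [Matrix.mul_apply, Finset.mul_sum]
    rw [Finset.sum_comm]
    refine Finset.sum_congr rfl fun k _ => ?_
    have h1 := Vd_apply_sum hVs t l hl α β hαβ hF hV φ (Sum.inr k)
    rw [Sum.elim_inr] at h1
    rw [h1, ← iterateFrobenius_def, map_sum, Finset.sum_mul]
    refine Finset.sum_congr rfl fun q _ => ?_
    rw [iterateFrobenius_def, Matrix.map_apply, Matrix.of_apply, mul_pow, ← pow_mul, pow_succ']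
    ring

theorem isDisplay_iff_tw (hpn : IsNilpotent (p : R)) (L T : Submodule (WittVector p R) P)
    (hLT : IsCompl L T) (hLQ : L ≤ D.Q) {ιT ιL : Type w} [Fintype ιT] [Fintype ιL]
    [DecidableEq ιT] [DecidableEq ιL]
    (bT : Module.Basis ιT (WittVector p R) T) (bL : Module.Basis ιL (WittVector p R) L)
    (α β : Matrix (ιT ⊕ ιL) (ιT ⊕ ιL) (WittVector p R)) (hαβ : α * β = 1)
    (hF : ∀ j : ιT, D.F (bT j : P) =
      Finset.univ.sum fun i : ιT ⊕ ιL => α i (Sum.inl j) • Sum.elim (fun a : ιT => (bT a : P)) (fun a : ιL => (bL a : P)) i)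
    (hV : ∀ k : ιL, D.Vinv ⟨(bL k : P), hLQ (bL k).2⟩ =
      Finset.univ.sum fun i : ιT ⊕ ιL => α i (Sum.inr k) • Sum.elim (fun a : ιT => (bT a : P)) (fun a : ιL => (bL a : P)) i) :
    IsDisplay D ↔ ∃ N : ℕ, 0 < N ∧
      tw p (Matrix.of fun k l : ιL => red p R (β (Sum.inr k) (Sum.inr l))) N = 0 := by
  have := D.finite
  have := D.projective
  have := K789.WittComplete.isAdicComplete_of_isNilpotent (p := p) (R := R) hpn
  obtain ⟨Vs, hVs⟩ := K789.VSharp.exists_vsharp D
  have h1 : IsDisplay D ↔ IsVNilpotent Vs := by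
    constructor
    · rintro ⟨Vs', hVs', hn⟩
      rwa [K789.VSharp.vsharp_unique hVs hVs']
    · exact fun h => ⟨Vs, hVs, h⟩
  rw [h1, isVNilpotent_iff]
  rcases subsingleton_or_nontrivial (R ⧸ Ideal.span {(p : R)}) with hs | hnt
  · constructor
    · intro _
      exact ⟨1, one_pos, Subsingleton.elim _ _⟩
    · intro _
      exact ⟨0, fun φ x => mem_J_iff.2 (Subsingleton.elim _ _)⟩
  · have hchar : CharP (R ⧸ Ideal.span {(p : R)}) p := by
      apply CharP.quotient
      intro hu
      have h2 : (⊤ : Ideal R) ≤ Ideal.span {(p : R)} := by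
        rw [Ideal.span_singleton_eq_top.2 hu]
      have := Ideal.Quotient.subsingleton_iff.2 (top_le_iff.1 h2)
      exact not_subsingleton _ this
    let E : Module.Basis (ιT ⊕ ιL) (WittVector p R) P :=
      (bT.prod bL).map (Submodule.prodEquivOfIsCompl T L hLT.symm)
    have hE : ∀ i, E i = Sum.elim (fun a : ιT => (bT a : P)) (fun a : ιL => (bL a : P)) i := by
      rintro (j | k) <;> simp [E]
    have key := fun n => iterate_Vd_red hVs (fun a : ιT => (bT a : P)) (fun a : ιL => (bL a : P))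
      (fun k => hLQ (bL k).2) α β hαβ hF hV n
    constructor
    · rintro ⟨n, hn⟩
      refine ⟨n + 1, n.succ_pos, ?_⟩
      ext k j
      have h2 := key (n + 1) (E.coord (Sum.inr k)) j
      rw [mem_J_iff.1 (hn _ _)] at h2
      rw [Matrix.zero_apply, h2]
      have h3 : ∀ k', E.coord (Sum.inr k) (bL k' : P) = if k' = k then 1 else 0 := by
        intro k'
        have h4 : (bL k' : P) = E (Sum.inr k') := by rw [hE]; rfl
        rw [h4, Module.Basis.coord_apply, Module.Basis.repr_self, Finsupp.single_apply]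
        simp
      rw [Finset.sum_eq_single k]
      · rw [h3, if_pos rfl, map_one, one_pow, one_mul]
      · intro k' _ hk'
        rw [h3, if_neg hk', map_zero, zero_pow (pow_ne_zero _ hp.out.ne_zero), zero_mul]
      · intro h; exact absurd (Finset.mem_univ _) h
    · rintro ⟨N, -, hN⟩
      refine ⟨N, fun φ x => ?_⟩
      have h2 : ∀ j : ιL, red p R ((Vd Vs)^[N] φ (bL j : P)) = 0 := by
        intro j
        rw [key N φ j]
        refine Finset.sum_eq_zero fun k _ => ?_
        rw [hN, Matrix.zero_apply, mul_zero]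
      have h3 : ∀ m, (Vd Vs)^[N + 1] φ (E m) ∈ J p R := by
        intro m
        rw [mem_J_iff, Function.iterate_succ_apply', hE]
        rw [Vd_apply_sum hVs (fun a : ιT => (bT a : P)) (fun a : ιL => (bL a : P))
          (fun k => hLQ (bL k).2) α β hαβ hF hV]
        refine Finset.sum_eq_zero fun k _ => ?_
        rw [h2, zero_pow hp.out.ne_zero, mul_zero]
      have h4 : (⊤ : Submodule (WittVector p R) P) ≤ Submodule.comap ((Vd Vs)^[N + 1] φ) (J p R) := by
        rw [← E.span_eq, Submodule.span_le]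
        rintro _ ⟨m, rfl⟩
        exact h3 m
      exact h4 (Submodule.mem_top (x := x))

end K789.MatrixCrit
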