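import Groth.Agent.Disp.K789.Normal
import Groth.Agent.Disp.K789.DualBasis

/-!
# 3n-displays and normal projectors
-/

set_option autoImplicit false

universe u v w

noncomputable section

namespace K789.DNProj

open WittVector W4c1extbt610 K789.DispBasic K789.DualBasis Dieu

variable {p : ℕ} [Fact p.Prime] {R : Type u} [CommRing R]
variable {P : Type v} [AddCommGroup P] [Module (WittVector p R) P]

/-- A normal projector of a 3n-display: the projector onto `T` along `L`. -/
structure NProj (D : Display3n p R P) where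
  π : P →ₗ[WittVector p R] P
  idem : ∀ x, π (π x) = π x
  mem_Q : ∀ x, x ∈ D.Q ↔ π x ∈ IV p R • (⊤ : Submodule (WittVector p R) P)

theorem mem_smul_top_of_mem_smul {A : Type*} [CommRing A] {M : Type*} [AddCommGroup M] [Module A M]
    {𝔠 : Ideal A} {T : Submodule A M} {x : M} (hx : x ∈ 𝔠 • T) : x ∈ 𝔠 • (⊤ : Submodule A M) :=
  Submodule.smul_mono le_rfl le_top hx

theorem apply_mem_smul {A : Type*} [CommRing A] {M : Type*} [AddCommGroup M] [Module A M]
    {𝔠 : Ideal A} {T : Submodule A M} (π : M →ₗ[A] M) (hπ : ∀ x, π x ∈ T) {x : M}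
    (hx : x ∈ 𝔠 • (⊤ : Submodule A M)) : π x ∈ 𝔠 • T := by
  refine Submodule.smul_induction_on hx ?_ ?_
  · intro r hr n _
    rw [map_smul]
    exact Submodule.smul_mem_smul hr (hπ n)
  · intro x y hx hy
    rw [map_add]
    exact Submodule.add_mem _ hx hy

/-- The normal projector of a normal decomposition. -/
def nprojOfIsCompl (D : Display3n p R P) (L T : Submodule (WittVector p R) P) (hLT : IsCompl L T)
    (hQ : D.Q = L ⊔ IV p R • T) : NProj D where
  π := T.projection L hLT.symm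
  idem x := T.projection_apply_of_mem_left hLT.symm (T.projection_apply_mem hLT.symm x)
  mem_Q x := by
    constructor
    · intro hx
      rw [hQ, Submodule.mem_sup] at hx
      obtain ⟨l, hl, t, ht, rfl⟩ := hx
      rw [map_add, (T.projection_apply_eq_zero_iff hLT.symm).2 hl, zero_add]
      exact map_mem_of_mem_smul_top (mem_smul_top_of_mem_smul ht) _
    · intro hx
      have h1 : x = (x - T.projection L hLT.symm x) + T.projection L hLT.symm x := by abel
      rw [h1, hQ]
      refine Submodule.add_mem_sup (T.sub_projection_mem hLT.symm x) ?_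
      have h2 := apply_mem_smul (T.projection L hLT.symm) (T.projection_apply_mem hLT.symm) hx
      rwa [T.projection_apply_of_mem_left hLT.symm (T.projection_apply_mem hLT.symm x)] at h2

@[simp] theorem nprojOfIsCompl_apply_of_mem_right (D : Display3n p R P) (L T : Submodule (WittVector p R) P)
    (hLT : IsCompl L T) (hQ : D.Q = L ⊔ IV p R • T) {x : P} (hx : x ∈ T) :
    (nprojOfIsCompl D L T hLT hQ).π x = x :=
  T.projection_apply_of_mem_left hLT.symm hx

@[simp] theorem nprojOfIsCompl_apply_of_mem_left (D : Display3n p R P) (L T : Submodule (WittVector p R) P)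
    (hLT : IsCompl L T) (hQ : D.Q = L ⊔ IV p R • T) {x : P} (hx : x ∈ L) :
    (nprojOfIsCompl D L T hLT hQ).π x = 0 :=
  (T.projection_apply_eq_zero_iff hLT.symm).2 hx

theorem exists_nproj (D : Display3n p R P) : Nonempty (NProj D) := by
  obtain ⟨L, T, hLT, hQ⟩ := D.exists_normal
  exact ⟨nprojOfIsCompl D L T hLT hQ⟩

variable {D : Display3n p R P} (N : NProj D)

theorem NProj.mem_Q_of_apply_eq_zero {x : P} (hx : N.π x = 0) : x ∈ D.Q := by
  rw [N.mem_Q, hx]; exact Submodule.zero_mem _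

theorem NProj.sub_mem (x : P) : x - N.π x ∈ D.Q :=
  N.mem_Q_of_apply_eq_zero (by rw [map_sub, N.idem, sub_self])

theorem NProj.apply_sub (x : P) : N.π (x - N.π x) = 0 := by
  rw [map_sub, N.idem, sub_self]

/-- Elements of `IV • ⊤` lie in `Q`. -/
theorem mem_Q_of_mem_IV_smul (D : Display3n p R P) {x : P}
    (hx : x ∈ IV p R • (⊤ : Submodule (WittVector p R) P)) : x ∈ D.Q := D.IV_smul_le hx

/-- Induction principle for elements of `Q`. -/
theorem NProj.Q_induction {motive : D.Q → Prop}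
    (hl : ∀ (x : P) (hx : N.π x = 0), motive ⟨x, N.mem_Q_of_apply_eq_zero hx⟩)
    (ht : ∀ (w : WittVector p R) (x : P), motive ⟨verschiebung w • x, verschiebung_smul_mem D w x⟩)
    (hadd : ∀ x y, motive x → motive y → motive (x + y)) (y : D.Q) : motive y := by
  have key : ∀ x ∈ IV p R • (⊤ : Submodule (WittVector p R) P), ∃ h : x ∈ D.Q, motive ⟨x, h⟩ := by
    intro x hx
    refine Submodule.smul_induction_on hx ?_ ?_
    · intro r hr t _
      obtain ⟨w, rfl⟩ := mem_IV_iff_exists.1 hr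
      exact ⟨verschiebung_smul_mem D w t, ht w t⟩
    · rintro x y ⟨hx, hx'⟩ ⟨hy, hy'⟩
      exact ⟨D.Q.add_mem hx hy, hadd _ _ hx' hy'⟩
  obtain ⟨y, hy⟩ := y
  obtain ⟨h, h'⟩ := key _ ((N.mem_Q y).1 hy)
  have h1 := hl (y - N.π y) (N.apply_sub y)
  have h2 := hadd _ _ h1 h'
  have h3 : (⟨y - N.π y, N.mem_Q_of_apply_eq_zero (N.apply_sub y)⟩ : D.Q) + ⟨N.π y, h⟩ = ⟨y, hy⟩ := by
    apply Subtype.ext
    simp
  rwa [h3] at h2

/-- The semilinear map `Φ (l + t) = V⁻¹ l + F t`. -/
def NProj.Φ : P →ₛₗ[(WittVector.frobenius : WittVector p R →+* WittVector p R)] P :=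
  D.Vinv.comp ((LinearMap.id - N.π).codRestrict D.Q N.sub_mem) + D.F.comp N.π

theorem NProj.Φ_apply (x : P) : N.Φ x = D.Vinv ⟨x - N.π x, N.sub_mem x⟩ + D.F (N.π x) := rfl

theorem NProj.Φ_of_apply_eq_zero {x : P} (hx : N.π x = 0) :
    N.Φ x = D.Vinv ⟨x, N.mem_Q_of_apply_eq_zero hx⟩ := by
  rw [N.Φ_apply, Vinv_eq_of_eq D (show x - N.π x = x by rw [hx, sub_zero]) _
    (N.mem_Q_of_apply_eq_zero hx), hx, map_zero, add_zero]

theorem NProj.Φ_of_apply_eq_self {x : P} (hx : N.π x = x) : N.Φ x = D.F x := by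
  rw [N.Φ_apply, Vinv_eq_of_eq D (show x - N.π x = 0 by rw [hx, sub_self]) _ D.Q.zero_mem, hx]
  have h2 : D.Vinv ⟨0, D.Q.zero_mem⟩ = 0 := map_zero D.Vinv
  rw [h2, zero_add]

theorem NProj.F_eq (x : P) : D.F x = N.Φ ((p : WittVector p R) • (x - N.π x) + N.π x) := by
  rw [map_add, N.Φ_of_apply_eq_self (N.idem x), LinearMap.map_smulₛₗ, map_natCast,
    N.Φ_of_apply_eq_zero (N.apply_sub x), ← F_of_mem_Q, ← map_add, sub_add_cancel]

/-- Submodules containing the image of `Φ` are everything. -/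
theorem NProj.span_range_Φ : Submodule.span (WittVector p R) (Set.range N.Φ) = ⊤ := by
  rw [eq_top_iff, ← D.span_range_Vinv, Submodule.span_le]
  rintro _ ⟨y, rfl⟩
  refine N.Q_induction (motive := fun y => D.Vinv y ∈ Submodule.span (WittVector p R) (Set.range N.Φ))
    ?_ ?_ ?_ y
  · intro x hx
    rw [← N.Φ_of_apply_eq_zero hx]
    exact Submodule.subset_span ⟨x, rfl⟩
  · intro w x
    rw [D.Vinv_verschiebung_smul, N.F_eq]
    exact Submodule.smul_mem _ _ (Submodule.subset_span ⟨_, rfl⟩)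
  · intro x y hx hy
    rw [map_add]
    exact Submodule.add_mem _ hx hy

/-- Two 3n-displays with the same `Q` and the same `V⁻¹` are equal. -/
theorem display_ext {D D' : Display3n p R P} (hQ : D.Q = D'.Q)
    (hV : ∀ (y : P) (hy : y ∈ D.Q) (hy' : y ∈ D'.Q), D.Vinv ⟨y, hy⟩ = D'.Vinv ⟨y, hy'⟩) : D = D' := by
  have hF : D.F = D'.F := by
    ext x
    rw [F_eq_Vinv, F_eq_Vinv]
    exact hV _ _ _
  obtain ⟨Q, F, Vinv, h1, h2, h3, h4, h5, h6⟩ := D
  obtain ⟨Q', F', Vinv', h1', h2', h3', h4', h5', h6'⟩ := D'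
  obtain rfl : Q = Q' := hQ
  obtain rfl : F = F' := hF
  have : Vinv = Vinv' := by
    ext ⟨y, hy⟩
    exact hV y hy hy
  subst this
  rfl

end K789.DNProj
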