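import Groth.Agent.Disp.K789.Basic
import Mathlib.RingTheory.Finiteness.Basic
import Mathlib.LinearAlgebra.Basis.Prod
import Mathlib.RingTheory.OrzechProperty
import Mathlib.LinearAlgebra.Projection

/-!
# Normal decompositions of 3n-displays: the images of `V⁻¹` on `L` and of `F` on `T` generate
-/

set_option autoImplicit false

universe u v w

noncomputable section

namespace K789.DispNormal

open WittVector W4c1extbt610 K789.DispBasic

variable {p : ℕ} [Fact p.Prime] {R : Type u} [CommRing R]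
variable {P : Type v} [AddCommGroup P] [Module (WittVector p R) P]

/-- Elements of `IV • T` are finite sums of `V w • t`; induction principle for `F`/`Vinv`. -/
theorem Vinv_mem_of_mem_IV_smul (D : Display3n p R P) (T : Submodule (WittVector p R) P)
    (N : Submodule (WittVector p R) P) (hT : ∀ t ∈ T, D.F t ∈ N)
    (x : P) (hx : x ∈ IV p R • T) (hxQ : x ∈ D.Q) : D.Vinv ⟨x, hxQ⟩ ∈ N := by
  have key : ∀ x ∈ IV p R • T, ∃ h : x ∈ D.Q, D.Vinv ⟨x, h⟩ ∈ N := by
    intro x hx
    refine Submodule.smul_induction_on hx ?_ ?_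
    · intro r hr t ht
      obtain ⟨w, rfl⟩ := mem_IV_iff_exists.1 hr
      refine ⟨verschiebung_smul_mem D w t, ?_⟩
      rw [D.Vinv_verschiebung_smul]
      exact N.smul_mem _ (hT t ht)
    · rintro x y ⟨hx, hx'⟩ ⟨hy, hy'⟩
      refine ⟨D.Q.add_mem hx hy, ?_⟩
      have : (⟨x + y, D.Q.add_mem hx hy⟩ : D.Q) = ⟨x, hx⟩ + ⟨y, hy⟩ := rfl
      rw [this, map_add]
      exact N.add_mem hx' hy'
  exact (key x hx).2

theorem span_eq_top_of_normal (D : Display3n p R P) (L T : Submodule (WittVector p R) P)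
    (hQ : D.Q = L ⊔ IV p R • T) (hLQ : L ≤ D.Q) (N : Submodule (WittVector p R) P)
    (hL : ∀ (l : P) (hl : l ∈ L), D.Vinv ⟨l, hLQ hl⟩ ∈ N) (hT : ∀ t ∈ T, D.F t ∈ N) : N = ⊤ := by
  rw [eq_top_iff, ← D.span_range_Vinv, Submodule.span_le]
  rintro _ ⟨⟨y, hy⟩, rfl⟩
  have hy' := hy
  rw [hQ, Submodule.mem_sup] at hy'
  obtain ⟨l, hl, t, ht, rfl⟩ := hy'
  have htQ : t ∈ D.Q := by
    rw [hQ]; exact Submodule.mem_sup_right ht
  have : (⟨l + t, hy⟩ : D.Q) = ⟨l, hLQ hl⟩ + ⟨t, htQ⟩ := rfl
  rw [this, map_add]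
  exact N.add_mem (hL l hl) (Vinv_mem_of_mem_IV_smul D T N hT t ht htQ)

variable {A : Type*} [CommRing A] {M : Type*} [AddCommGroup M] [Module A M]

/-- A spanning family indexed like a basis of a finite module is linearly independent. -/
theorem linearIndependent_of_span_eq_top [Module.Finite A M] {ι : Type*} (b : Module.Basis ι A M)
    (v : ι → M) (hv : Submodule.span A (Set.range v) = ⊤) : LinearIndependent A v := by
  have hsurj : Function.Surjective (b.constr ℕ v) := by
    rw [← LinearMap.range_eq_top, Module.Basis.constr_range, hv]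
  have hinj := OrzechProperty.injective_of_surjective_endomorphism (b.constr ℕ v) hsurj
  have := b.linearIndependent.map' (b.constr ℕ v) (LinearMap.ker_eq_bot.2 hinj)
  have h2 : (⇑(b.constr ℕ v) ∘ ⇑b) = v := by
    funext i; simp
  rwa [h2] at this

end K789.DispNormal
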