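import Groth.Agent.Disp.K789.NProj

/-!
# Construction of 3n-displays from a projector and a semilinear map
-/

set_option autoImplicit false

universe u v w

noncomputable section

namespace K789.OfProj

open WittVector W4c1extbt610 K789.DispBasic K789.DualBasis K789.DNProj Dieu

variable {p : ℕ} [hp : Fact p.Prime] {R : Type u} [CommRing R]
variable {P : Type v} [AddCommGroup P] [Module (WittVector p R) P]

local notation "σ" => (WittVector.frobenius : WittVector p R →+* WittVector p R)

/-- `V⁻¹` on the ideal `I_R`. -/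
def vinv (p : ℕ) [Fact p.Prime] (R : Type u) [CommRing R] :
    IV p R →ₛₗ[(WittVector.frobenius : WittVector p R →+* WittVector p R)] WittVector p R where
  toFun x := (mem_IV_iff_exists.1 x.2).choose
  map_add' x y := by
    apply WittVector.verschiebung_injective p R
    rw [map_add, (mem_IV_iff_exists.1 x.2).choose_spec, (mem_IV_iff_exists.1 y.2).choose_spec,
      (mem_IV_iff_exists.1 (x + y).2).choose_spec]
    rfl
  map_smul' a x := by
    apply WittVector.verschiebung_injective p R
    rw [(mem_IV_iff_exists.1 (a • x).2).choose_spec, smul_eq_mul, mul_comm,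
      verschiebung_mul_frobenius, (mem_IV_iff_exists.1 x.2).choose_spec, mul_comm]
    rfl

theorem verschiebung_vinv (x : IV p R) : verschiebung (vinv p R x) = (x : WittVector p R) :=
  (mem_IV_iff_exists.1 x.2).choose_spec

theorem vinv_mk_verschiebung (w : WittVector p R) (h : verschiebung w ∈ IV p R) :
    vinv p R ⟨verschiebung w, h⟩ = w :=
  WittVector.verschiebung_injective p R (verschiebung_vinv _)

theorem vinv_eq_of {x : IV p R} {w : WittVector p R} (h : verschiebung w = x) : vinv p R x = w :=
  WittVector.verschiebung_injective p R ((verschiebung_vinv _).trans h.symm)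

variable (b : DB (WittVector p R) P) (π : P →ₗ[WittVector p R] P)
  (Φ : P →ₛₗ[(WittVector.frobenius : WittVector p R →+* WittVector p R)] P)

/-- The submodule `Q`. -/
def Qof (π : P →ₗ[WittVector p R] P) : Submodule (WittVector p R) P :=
  (IV p R • (⊤ : Submodule (WittVector p R) P)).comap π

/-- The Frobenius. -/
def Fof : P →ₛₗ[σ] P :=
  Φ.comp ((p : WittVector p R) • (LinearMap.id - π) + π)

theorem Fof_apply (x : P) : Fof π Φ x = Φ ((p : WittVector p R) • (x - π x) + π x) := rfl

theorem Fof_apply' (x : P) : Fof π Φ x = (p : WittVector p R) • Φ (x - π x) + Φ (π x) := by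
  rw [Fof_apply, map_add, LinearMap.map_smulₛₗ, map_natCast]

theorem coord_mem (x : Qof π) (i : Fin b.n) : b.f i (π x) ∈ IV p R :=
  apply_mem_of_mem_smul_top x.2 _

/-- The operator `V⁻¹`. -/
def Vof : Qof π →ₛₗ[σ] P where
  toFun x := Φ ((x : P) - π x) + ∑ i, vinv p R ⟨b.f i (π x), coord_mem b π x i⟩ • Fof π Φ (b.e i)
  map_add' x y := by
    have h1 : ((x + y : Qof π) : P) - π ((x + y : Qof π) : P) = ((x : P) - π x) + ((y : P) - π y) := by
      rw [Submodule.coe_add, map_add]; abel
    rw [h1, map_add]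
    have h2 : ∀ i, vinv p R ⟨b.f i (π ((x + y : Qof π) : P)), coord_mem b π (x + y) i⟩ =
        vinv p R ⟨b.f i (π x), coord_mem b π x i⟩ + vinv p R ⟨b.f i (π y), coord_mem b π y i⟩ := by
      intro i
      rw [← map_add]
      congr 1
      apply Subtype.ext
      change b.f i (π ((x : P) + (y : P))) = b.f i (π x) + b.f i (π y)
      rw [map_add, map_add]
    simp_rw [h2, add_smul, Finset.sum_add_distrib]
    abel
  map_smul' a x := by
    have h1 : ((a • x : Qof π) : P) - π ((a • x : Qof π) : P) = a • ((x : P) - π x) := by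
      rw [Submodule.coe_smul, map_smul, smul_sub]
    rw [h1, LinearMap.map_smulₛₗ, smul_add, Finset.smul_sum]
    have h2 : ∀ i, vinv p R ⟨b.f i (π ((a • x : Qof π) : P)), coord_mem b π (a • x) i⟩ =
        WittVector.frobenius a * vinv p R ⟨b.f i (π x), coord_mem b π x i⟩ := by
      intro i
      rw [← smul_eq_mul, ← LinearMap.map_smulₛₗ]
      congr 1
      apply Subtype.ext
      change b.f i (π (a • (x : P))) = a • b.f i (π x)
      rw [map_smul, map_smul]
    simp_rw [h2, mul_smul]

theorem Vof_apply (x : Qof π) : Vof b π Φ x =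
    Φ ((x : P) - π x) + ∑ i, vinv p R ⟨b.f i (π x), coord_mem b π x i⟩ • Fof π Φ (b.e i) := rfl

variable (hπ : ∀ x, π (π x) = π x)
include hπ

theorem π_sub (x : P) : π (x - π x) = 0 := by rw [map_sub, hπ, sub_self]

theorem Fof_π (x : P) : Fof π Φ (π x) = Φ (π x) := by
  rw [Fof_apply, hπ, sub_self, smul_zero, zero_add]

omit hπ in
theorem Vof_of_π_eq_zero (x : P) (hx : π x = 0) (h : x ∈ Qof π) : Vof b π Φ ⟨x, h⟩ = Φ x := by
  rw [Vof_apply]
  have h1 : ∀ i, vinv p R ⟨b.f i (π x), coord_mem b π ⟨x, h⟩ i⟩ = 0 := by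
    intro i
    apply vinv_eq_of
    rw [map_zero]
    change 0 = b.f i (π x)
    rw [hx, map_zero]
  have h2 : ∑ i, vinv p R ⟨b.f i (π x), coord_mem b π ⟨x, h⟩ i⟩ • Fof π Φ (b.e i) = 0 :=
    Finset.sum_eq_zero fun i _ => by rw [h1, zero_smul]
  change Φ (x - π x) + ∑ i, vinv p R ⟨b.f i (π x), coord_mem b π ⟨x, h⟩ i⟩ • Fof π Φ (b.e i) = _
  rw [h2, add_zero, hx, sub_zero]

theorem Vof_verschiebung_smul (w : WittVector p R) (x : P) (h : verschiebung w • x ∈ Qof π) :
    Vof b π Φ ⟨verschiebung w • x, h⟩ = w • Fof π Φ x := by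
  change Φ (verschiebung w • x - π (verschiebung w • x)) +
    ∑ i, vinv p R ⟨b.f i (π (verschiebung w • x)), coord_mem b π ⟨_, h⟩ i⟩ • Fof π Φ (b.e i) = _
  have h1 : ∀ i, vinv p R ⟨b.f i (π (verschiebung w • x)), coord_mem b π ⟨_, h⟩ i⟩ =
      w * WittVector.frobenius (b.f i (π x)) := by
    intro i
    apply vinv_eq_of
    change _ = b.f i (π (verschiebung w • x))
    rw [verschiebung_mul_frobenius, map_smul, map_smul, smul_eq_mul]
  simp_rw [h1, mul_smul, ← LinearMap.map_smulₛₗ]
  rw [← Finset.smul_sum, ← map_sum, b.h, Fof_π π Φ hπ, map_smul, ← smul_sub, LinearMap.map_smulₛₗ,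
    frobenius_verschiebung', Fof_apply', smul_add, mul_comm, mul_smul]

theorem isCompl_ker_range : IsCompl (LinearMap.ker π) (LinearMap.range π) := by
  have : IsIdempotentElem π := by
    ext x; exact hπ x
  exact (LinearMap.IsIdempotentElem.isCompl this).symm

theorem Qof_eq : Qof π = LinearMap.ker π ⊔ IV p R • LinearMap.range π := by
  apply le_antisymm
  · intro x hx
    have h1 : x = (x - π x) + π x := by abel
    rw [h1]
    refine Submodule.add_mem_sup (by rw [LinearMap.mem_ker]; exact π_sub π hπ x) ?_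
    have h2 := apply_mem_smul π (T := LinearMap.range π) (fun x => ⟨x, rfl⟩) hx
    rwa [hπ] at h2
  · apply sup_le
    · intro x hx
      change π x ∈ IV p R • (⊤ : Submodule (WittVector p R) P)
      rw [LinearMap.mem_ker.1 hx]; exact Submodule.zero_mem _
    · intro x hx
      exact map_mem_of_mem_smul_top (mem_smul_top_of_mem_smul hx) π

/-- The 3n-display attached to a projector and a semilinear map. -/
def ofProj (hΦ : Submodule.span (WittVector p R) (Set.range Φ) = ⊤) : Display3n p R P where
  Q := Qof π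
  F := Fof π Φ
  Vinv := Vof b π Φ
  finite := b.finite
  projective := b.projective
  IV_smul_le := fun _ hx => map_mem_of_mem_smul_top hx π
  exists_normal := ⟨LinearMap.ker π, LinearMap.range π, isCompl_ker_range π hπ, Qof_eq π hπ⟩
  span_range_Vinv := by
    rw [eq_top_iff, ← hΦ, Submodule.span_le]
    rintro _ ⟨x, rfl⟩
    have h1 : x - π x ∈ Qof π := by
      change π (x - π x) ∈ IV p R • (⊤ : Submodule (WittVector p R) P)
      rw [π_sub π hπ]; exact Submodule.zero_mem _
    have h2 : verschiebung (1 : WittVector p R) • π x ∈ Qof π :=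
      map_mem_of_mem_smul_top (Submodule.smul_mem_smul (verschiebung_mem_IV p R _) Submodule.mem_top) π
    have h3 : Φ x = Vof b π Φ ⟨_, h1⟩ + Vof b π Φ ⟨_, h2⟩ := by
      rw [Vof_of_π_eq_zero b π Φ _ (π_sub π hπ x) h1, Vof_verschiebung_smul b π Φ hπ, one_smul,
        Fof_π π Φ hπ, ← map_add, sub_add_cancel]
    rw [h3]
    exact Submodule.add_mem _ (Submodule.subset_span ⟨_, rfl⟩) (Submodule.subset_span ⟨_, rfl⟩)
  Vinv_verschiebung_smul := fun w x => Vof_verschiebung_smul b π Φ hπ w x _

end K789.OfProj
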