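import Groth.Agent.Disp.K789.Rigid
import Groth.Agent.Disp.K789.BaseChange2

/-!
# Lifting homomorphisms of displays up to a power of `p`
-/

set_option autoImplicit false

universe u v w

noncomputable section

namespace K789.QuasiLift

open WittVector W4c1extbt610 K789.DispBasic K789.DualBasis K789.DNProj K789.Vdual K789.WittIdeal
  K789.WittAdd K789.Rigid Dieu

variable {p : ℕ} [hp : Fact p.Prime] {S R : Type u} [CommRing S] [CommRing R]
variable {P : Type v} [AddCommGroup P] [Module (WittVector p S) P]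
variable {P' : Type w} [AddCommGroup P'] [Module (WittVector p S) P']

/-- The operator `u ↦ F'^# ∘ (1 ⊗ u) ∘ V^#`. -/
def UU (Vs : P →ₗ[WittVector p S] BC (WittVector.frobenius : WittVector p S →+* WittVector p S) P)
    (D' : Display3n p S P') (u : P →ₗ[WittVector p S] P') : P →ₗ[WittVector p S] P' :=
  (BC.lift _ (D'.F.comp u)).comp Vs

variable {Vs : P →ₗ[WittVector p S] BC (WittVector.frobenius : WittVector p S →+* WittVector p S) P}
  {D : Display3n p S P} {D' : Display3n p S P'}

theorem UU_Vinv (hVs : IsVSharp D Vs) (u : P →ₗ[WittVector p S] P') (y : D.Q) :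
    UU Vs D' u (D.Vinv y) = D'.F (u y) := by
  have h1 := hVs.app_smul_Vinv 1 y
  rw [one_smul] at h1
  rw [UU, LinearMap.comp_apply, h1, BC.lift_tmul, one_smul]
  rfl

theorem UU_F (hVs : IsVSharp D Vs) (u : P →ₗ[WittVector p S] P') (x : P) :
    UU Vs D' u (D.F x) = (p : WittVector p S) • D'.F (u x) := by
  have h1 := hVs.app_smul_F 1 x
  rw [one_smul] at h1
  rw [UU, LinearMap.comp_apply, h1, map_smul, BC.lift_tmul, one_smul]
  rfl

theorem UU_p_smul (hVs : IsVSharp D Vs) (u : P →ₗ[WittVector p S] P') :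
    UU Vs D' ((p : WittVector p S) • u) = (p : WittVector p S) • UU Vs D' u := by
  apply LinearMap.ext_on_range (v := fun y : D.Q => D.Vinv y)
  · exact D.span_range_Vinv
  · intro y
    rw [UU_Vinv hVs, LinearMap.smul_apply, LinearMap.smul_apply, UU_Vinv hVs, LinearMap.map_smulₛₗ,
      map_natCast]

theorem iterate_UU_p_smul (hVs : IsVSharp D Vs) (u : P →ₗ[WittVector p S] P') (n : ℕ) :
    (UU Vs D')^[n] ((p : WittVector p S) • u) = (p : WittVector p S) • (UU Vs D')^[n] u := by
  induction n with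
  | zero => rfl
  | succ n ih => rw [Function.iterate_succ_apply', ih, UU_p_smul hVs, Function.iterate_succ_apply']

theorem F_mem {𝔠 𝔡 : Ideal (WittVector p S)} (h : ∀ a ∈ 𝔠, WittVector.frobenius a ∈ 𝔡) {x : P'}
    (hx : x ∈ 𝔠 • (⊤ : Submodule (WittVector p S) P')) :
    D'.F x ∈ 𝔡 • (⊤ : Submodule (WittVector p S) P') := by
  refine Submodule.smul_induction_on hx ?_ ?_
  · intro r hr n _
    rw [LinearMap.map_smulₛₗ]
    exact Submodule.smul_mem_smul (h r hr) Submodule.mem_top
  · intro x y hx hy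
    rw [map_add]
    exact Submodule.add_mem _ hx hy

theorem UU_cong (hVs : IsVSharp D Vs) {𝔠 𝔡 : Ideal (WittVector p S)}
    (h : ∀ a ∈ 𝔠, WittVector.frobenius a ∈ 𝔡) {u u' : P →ₗ[WittVector p S] P'}
    (huu : ∀ x, u x - u' x ∈ 𝔠 • (⊤ : Submodule (WittVector p S) P')) (x : P) :
    UU Vs D' u x - UU Vs D' u' x ∈ 𝔡 • (⊤ : Submodule (WittVector p S) P') := by
  have htop : (⊤ : Submodule (WittVector p S) P) ≤
      (𝔡 • (⊤ : Submodule (WittVector p S) P')).comap (UU Vs D' u - UU Vs D' u') := by
    rw [← D.span_range_Vinv, Submodule.span_le]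
    rintro _ ⟨y, rfl⟩
    change UU Vs D' u (D.Vinv y) - UU Vs D' u' (D.Vinv y) ∈ 𝔡 • (⊤ : Submodule (WittVector p S) P')
    rw [UU_Vinv hVs, UU_Vinv hVs, ← map_sub]
    exact F_mem h (huu _)
  exact htop (Submodule.mem_top (x := x))

theorem iterate_UU_cong (hVs : IsVSharp D Vs) {𝔠 : Ideal (WittVector p S)}
    {u u' : P →ₗ[WittVector p S] P'}
    (huu : ∀ x, u x - u' x ∈ 𝔠 • (⊤ : Submodule (WittVector p S) P')) (m : ℕ) :
    ∀ x, (UU Vs D')^[m] u x - (UU Vs D')^[m] u' x ∈
      (Ideal.span ((WittVector.frobenius)^[m] '' (𝔠 : Set (WittVector p S)))) •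
        (⊤ : Submodule (WittVector p S) P') := by
  induction m with
  | zero => simpa using huu
  | succ m ih =>
    rw [Function.iterate_succ_apply', Function.iterate_succ_apply']
    apply UU_cong hVs ?_ ih
    intro a ha
    refine Submodule.span_induction (p := fun a _ => WittVector.frobenius a ∈
      Ideal.span ((WittVector.frobenius)^[m+1] '' (𝔠 : Set (WittVector p S)))) ?_ ?_ ?_ ?_ ha
    · rintro _ ⟨y, hy, rfl⟩
      exact Ideal.subset_span ⟨y, hy, by rw [Function.iterate_succ_apply']⟩
    · simp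
    · intro x y _ _ hx hy; rw [map_add]; exact Ideal.add_mem _ hx hy
    · intro a x _ hx; rw [smul_eq_mul, map_mul]; exact Ideal.mul_mem_left _ _ hx

theorem iterate_UU_eq (hVs : IsVSharp D Vs) {𝔠 : Ideal (WittVector p S)}
    {u u' : P →ₗ[WittVector p S] P'}
    (huu : ∀ x, u x - u' x ∈ 𝔠 • (⊤ : Submodule (WittVector p S) P')) {m : ℕ}
    (hm : ∀ x ∈ 𝔠, (WittVector.frobenius)^[m] x = 0) :
    (UU Vs D')^[m] u = (UU Vs D')^[m] u' := by
  ext x
  have h := iterate_UU_cong (D' := D') hVs huu m x
  have h0 : Ideal.span ((WittVector.frobenius)^[m] '' (𝔠 : Set (WittVector p S))) = ⊥ := by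
    rw [eq_bot_iff, Ideal.span_le]
    rintro _ ⟨y, hy, rfl⟩
    exact hm y hy
  rw [h0, Submodule.bot_smul, Submodule.mem_bot, sub_eq_zero] at h
  exact h

/-- A linear map commuting with `V^#` and `F` up to `p` gives a homomorphism after multiplication by `p^c`. -/
theorem isHom_p_pow_smul {c : ℕ} (hc : (p : S) ^ c = 0) (w : P →ₗ[WittVector p S] P')
    (hF : ∀ x, w (D.F x) = D'.F (w x)) :
    IsHom D D' (((p : WittVector p S) ^ c) • w) := by
  have hIV : (p : WittVector p S) ^ c ∈ IV p S := by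
    rw [mem_IV_iff_coeff_zero]
    change WittVector.constantCoeff ((p : WittVector p S) ^ c) = 0
    rw [map_pow, map_natCast, hc]
  obtain ⟨π, hπ⟩ := mem_IV_iff_exists.1 hIV
  have hπp : π * (p : WittVector p S) = (p : WittVector p S) ^ c := by
    rw [← frobenius_verschiebung, hπ, map_pow, map_natCast]
  refine ⟨?_, ?_, ?_⟩
  · intro q _
    rw [LinearMap.smul_apply]
    exact D'.IV_smul_le (Submodule.smul_mem_smul hIV Submodule.mem_top)
  · intro x
    rw [LinearMap.smul_apply, LinearMap.smul_apply, LinearMap.map_smulₛₗ, hF, map_pow, map_natCast]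
  · intro q
    have h1 : (((p : WittVector p S) ^ c) • w) (q : P) = verschiebung π • w q := by
      rw [LinearMap.smul_apply, hπ]
    rw [Vinv_eq_of_eq D' h1 _ (verschiebung_smul_mem D' _ _), D'.Vinv_verschiebung_smul, ← hF,
      F_of_mem_Q, map_smul, smul_smul, hπp]
    rfl

theorem exists_lin_lift (f : S →+* R) (hf : Function.Surjective f)
    [Module.Finite (WittVector p S) P] [Module.Projective (WittVector p S) P]
    (χ : BC (WittVector.map f : WittVector p S →+* WittVector p R) P →ₗ[WittVector p R]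
      BC (WittVector.map f : WittVector p S →+* WittVector p R) P') :
    ∃ u : P →ₗ[WittVector p S] P', BC.map (WittVector.map f : WittVector p S →+* WittVector p R) u = χ := by
  obtain ⟨b⟩ := exists_db (A := WittVector p S) (M := P)
  have h1 : ∀ i, ∃ y : P', BC.tmul (WittVector.map f : WittVector p S →+* WittVector p R) 1 y =
      χ (BC.tmul _ 1 (b.e i)) := fun i => tmul_one_surjective _ (WittVector.map_surjective f hf) _
  choose y hy using h1
  refine ⟨∑ i, (b.f i).smulRight (y i), ?_⟩
  apply BC.ext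
  intro x
  rw [BC.map_tmul, (b.bc (WittVector.map f : WittVector p S →+* WittVector p R)).functional_eq χ,
    LinearMap.sum_apply]
  have h4 : ∀ (s : Finset (Fin b.n)) (v : Fin b.n → P'), BC.tmul
      (WittVector.map f : WittVector p S →+* WittVector p R) 1 (∑ i ∈ s, v i) =
      ∑ i ∈ s, BC.tmul (WittVector.map f : WittVector p S →+* WittVector p R) 1 (v i) := by
    intro s v
    classical
    induction s using Finset.induction_on with
    | empty => simp
    | insert a s ha ih => rw [Finset.sum_insert ha, Finset.sum_insert ha, BC.tmul_add, ih]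
  rw [h4]
  refine Finset.sum_congr rfl fun i _ => ?_
  change BC.tmul _ 1 (b.f i x • y i) = bcFun _ (b.f i) (BC.tmul _ 1 x) • χ (BC.tmul _ 1 (b.e i))
  rw [bcFun_tmul, ← hy i, one_mul, ← BC.tmul_apply_eq, BC.smul_tmul, mul_one]

theorem map_UU (hVs : IsVSharp D Vs) (f : S →+* R)
    {DR : Display3n p R (BC (WittVector.map f : WittVector p S →+* WittVector p R) P)}
    (hDR : IsDispBaseChange f D DR)
    {DR' : Display3n p R (BC (WittVector.map f : WittVector p S →+* WittVector p R) P')}
    (hDR' : IsDispBaseChange f D' DR')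
    {χ : BC (WittVector.map f : WittVector p S →+* WittVector p R) P →ₗ[WittVector p R]
      BC (WittVector.map f : WittVector p S →+* WittVector p R) P'} (hχ : IsHom DR DR' χ)
    (u : P →ₗ[WittVector p S] P') (k : ℕ)
    (hu : BC.map (WittVector.map f : WittVector p S →+* WittVector p R) u =
      ((p : WittVector p R) ^ k) • χ) :
    BC.map (WittVector.map f : WittVector p S →+* WittVector p R) (UU Vs D' u) =
      ((p : WittVector p R) ^ (k + 1)) • χ := by
  apply BC.ext
  intro x
  have hx : x ∈ Submodule.span (WittVector p S) (Set.range D.Vinv) := by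
    rw [D.span_range_Vinv]; trivial
  refine Submodule.span_induction (p := fun x _ => BC.map
    (WittVector.map f : WittVector p S →+* WittVector p R) (UU Vs D' u) (BC.tmul _ 1 x) =
      (((p : WittVector p R) ^ (k + 1)) • χ) (BC.tmul _ 1 x)) ?_ ?_ ?_ ?_ hx
  · rintro _ ⟨y, rfl⟩
    have h1 : DR'.F (BC.tmul _ 1 (u y)) = BC.tmul _ 1 (D'.F (u y)) := by
      rw [hDR'.F_tmul, map_one]
    have h2 : DR.F (BC.tmul _ 1 (y : P)) = (p : WittVector p R) • BC.tmul _ 1 (D.Vinv y) := by
      rw [hDR.F_tmul, map_one, F_of_mem_Q, ← BC.tmul_apply_eq, map_natCast, BC.smul_tmul, mul_one]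
    have h3 : BC.tmul (WittVector.map f : WittVector p S →+* WittVector p R) 1 (u y) =
        ((p : WittVector p R) ^ k) • χ (BC.tmul _ 1 (y : P)) := by
      rw [← LinearMap.smul_apply, ← hu, BC.map_tmul]
    rw [BC.map_tmul, UU_Vinv hVs, ← h1, h3, LinearMap.map_smulₛₗ, map_pow, map_natCast, ← hχ.comm_F,
      h2, map_smul, smul_smul, ← pow_succ, LinearMap.smul_apply]
  · simp
  · intro x y _ _ hx hy
    rw [BC.tmul_add, map_add, map_add, hx, hy]
  · intro a x _ hx
    rw [← BC.tmul_apply_eq, BC.tmul_eq_smul_tmul_one, map_smul, map_smul, hx]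

theorem exists_quasi_lift (hpn : IsNilpotent (p : S)) (f : S →+* R) (hf : Function.Surjective f)
    (hker : IsNilpotent (RingHom.ker f)) (hVs : IsVSharp D Vs)
    {DR : Display3n p R (BC (WittVector.map f : WittVector p S →+* WittVector p R) P)}
    (hDR : IsDispBaseChange f D DR)
    {DR' : Display3n p R (BC (WittVector.map f : WittVector p S →+* WittVector p R) P')}
    (hDR' : IsDispBaseChange f D' DR')
    (χ : BC (WittVector.map f : WittVector p S →+* WittVector p R) P →ₗ[WittVector p R]
      BC (WittVector.map f : WittVector p S →+* WittVector p R) P') (hχ : IsHom DR DR' χ) :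
    ∃ (n : ℕ) (ψ : P →ₗ[WittVector p S] P'), IsHom D D' ψ ∧
      BC.map (WittVector.map f : WittVector p S →+* WittVector p R) ψ = ((p : WittVector p R) ^ n) • χ := by
  have := D.finite
  have := D.projective
  have := D'.finite
  have := D'.projective
  obtain ⟨N, hN⟩ := hker
  obtain ⟨m, hm⟩ := exists_iterate_frobenius_eq_zero (p := p) hpn (RingHom.ker f) N (by
    intro a ha
    have h1 := Ideal.pow_mem_pow ha N
    rw [hN] at h1
    exact (Ideal.mem_bot).1 h1)
  rw [← ker_map_eq] at hm
  obtain ⟨c, hc⟩ := hpn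
  obtain ⟨ũ, hũ⟩ := exists_lin_lift f hf χ
  have hmap : ∀ k, BC.map (WittVector.map f : WittVector p S →+* WittVector p R) ((UU Vs D')^[k] ũ) =
      ((p : WittVector p R) ^ k) • χ := by
    intro k
    induction k with
    | zero => simpa using hũ
    | succ k ih =>
      rw [Function.iterate_succ_apply']
      exact map_UU hVs f hDR hDR' hχ _ k ih
  -- `U ũ ≡ p ũ`
  have h1 : ∀ x, UU Vs D' ũ x - ((p : WittVector p S) • ũ) x ∈
      RingHom.ker (WittVector.map f : WittVector p S →+* WittVector p R) •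
        (⊤ : Submodule (WittVector p S) P') := by
    intro x
    rw [← tmul_one_eq_zero_iff, sub_eq_add_neg, BC.tmul_add, BC.tmul_neg, ← sub_eq_add_neg, sub_eq_zero,
      ← BC.map_tmul, ← BC.map_tmul, map_smul', hũ, map_natCast]
    have := hmap 1
    rw [pow_one] at this
    exact LinearMap.congr_fun this _
  have h2 : UU Vs D' ((UU Vs D')^[m] ũ) = (p : WittVector p S) • ((UU Vs D')^[m] ũ) := by
    rw [← iterate_UU_p_smul hVs, ← Function.iterate_succ_apply' (UU Vs D'), Function.iterate_succ_apply]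
    exact iterate_UU_eq hVs h1 hm
  refine ⟨c + (m + 1), ((p : WittVector p S) ^ c) • (UU Vs D')^[m + 1] ũ, ?_, ?_⟩
  · apply isHom_p_pow_smul hc
    intro x
    rw [Function.iterate_succ_apply']
    conv_lhs => rw [UU_F hVs]
    rw [h2, LinearMap.smul_apply, LinearMap.map_smulₛₗ, map_natCast]
  · rw [map_smul', hmap, map_pow, map_natCast, smul_smul, ← pow_add]

/-- Injectivity of reduction. -/
theorem eq_of_map_eq (hpn : IsNilpotent (p : S)) (f : S →+* R)
    (hker : IsNilpotent (RingHom.ker f)) (hD : IsDisplay D) {ψ χ : P →ₗ[WittVector p S] P'}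
    (hψ : IsHom D D' ψ) (hχ : IsHom D D' χ)
    (h : BC.map (WittVector.map f : WittVector p S →+* WittVector p R) ψ = BC.map _ χ) : ψ = χ := by
  have := D'.finite
  have := D'.projective
  rw [← sub_eq_zero]
  have hQ : ∀ y : D.Q, (ψ - χ) y ∈ D'.Q := fun y =>
    D'.Q.sub_mem (hψ.mapsTo y y.2) (hχ.mapsTo y y.2)
  refine eq_zero_of_mem hpn hker hD (ψ - χ) hQ ?_ ?_
  · intro y
    rw [LinearMap.sub_apply, hψ.comm_Vinv, hχ.comm_Vinv, ← map_sub]
    rfl
  · intro x
    rw [WP, ← ker_map_eq, ← tmul_one_eq_zero_iff, LinearMap.sub_apply, sub_eq_add_neg, BC.tmul_add,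
      BC.tmul_neg, ← sub_eq_add_neg, sub_eq_zero, ← BC.map_tmul, ← BC.map_tmul, h]

end K789.QuasiLift
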