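import Groth.Agent.Disp.K789.WittAdd
import Groth.Agent.Disp.K789.Vdual

/-!
# Rigidity of homomorphisms of displays
-/

set_option autoImplicit false

universe u v w

noncomputable section

namespace K789.Rigid

open WittVector W4c1extbt610 K789.DispBasic K789.DualBasis K789.DNProj K789.Vdual K789.WittIdeal
  K789.WittAdd Dieu

variable {p : ℕ} [hp : Fact p.Prime] {S : Type u} [CommRing S]
variable {P : Type v} [AddCommGroup P] [Module (WittVector p S) P]
variable {P' : Type w} [AddCommGroup P'] [Module (WittVector p S) P']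

/-- The submodule `W(𝔠) P`. -/
def WP (𝔠 : Ideal S) (P : Type v) [AddCommGroup P] [Module (WittVector p S) P] :
    Submodule (WittVector p S) P := WI p 𝔠 • ⊤

theorem WP_mono {𝔠 𝔡 : Ideal S} (h : 𝔠 ≤ 𝔡) : WP (p := p) 𝔠 P ≤ WP 𝔡 P :=
  Submodule.smul_mono_left (WI_mono h)

theorem smul_mem_WP {𝔠 : Ideal S} {a : WittVector p S} (ha : a ∈ WI p 𝔠) (x : P) :
    a • x ∈ WP (p := p) 𝔠 P := Submodule.smul_mem_smul ha Submodule.mem_top

theorem J_smul_mem {𝔟 : Ideal S} {a : WittVector p S} (ha : a ∈ J p S) {x : P}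
    (hx : x ∈ WP (p := p) 𝔟 P) : a • x ∈ WP (p := p) (nxt p 𝔟) P := by
  refine Submodule.smul_induction_on (p := fun x => a • x ∈ WP (p := p) (nxt p 𝔟) P) hx ?_ ?_
  · intro r hr n _
    rw [smul_smul]
    refine smul_mem_WP ?_ n
    obtain ⟨b, hb, c, hc, rfl⟩ := Submodule.mem_sup.1 ha
    obtain ⟨w, rfl⟩ := mem_IV_iff_exists.1 hb
    obtain ⟨c, rfl⟩ := Ideal.mem_span_singleton.1 hc
    rw [add_mul]
    refine Ideal.add_mem _ (verschiebung_mul_mem_nxt hr w) ?_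
    rw [mul_right_comm]
    exact Ideal.mul_mem_right _ _ (p_mul_mem_nxt hr)
  · intro x y hx hy
    rw [smul_add]; exact Submodule.add_mem _ hx hy

variable (D' : Display3n p S P') (b' : DB (WittVector p S) P')

/-- The operator `τ ⊗ F'`. -/
def Ph (z : P') : P' := ∑ i, (b'.f i z).shift 1 • D'.F (b'.e i)

theorem Ph_add {𝔟 : Ideal S} {z z' : P'} (hz : z ∈ WP (p := p) 𝔟 P') (hz' : z' ∈ WP (p := p) 𝔟 P') :
    Ph D' b' (z + z') - (Ph D' b' z + Ph D' b' z') ∈ WP (p := p) (nxt p 𝔟) P' := by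
  rw [Ph, Ph, Ph, ← Finset.sum_add_distrib, ← Finset.sum_sub_distrib]
  refine Submodule.sum_mem _ fun i _ => ?_
  rw [← add_smul, ← sub_smul, map_add]
  refine smul_mem_WP (WI_mono (sq_le_nxt 𝔟) (shift_add_sub_mem ?_ ?_)) _
  · exact apply_mem_of_mem_smul_top hz _
  · exact apply_mem_of_mem_smul_top hz' _

theorem Ph_smul {𝔟 : Ideal S} {z : P'} (hz : z ∈ WP (p := p) 𝔟 P') (a : WittVector p S) :
    Ph D' b' (a • z) - WittVector.frobenius a • Ph D' b' z ∈ WP (p := p) (nxt p 𝔟) P' := by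
  rw [Ph, Ph, Finset.smul_sum, ← Finset.sum_sub_distrib]
  refine Submodule.sum_mem _ fun i _ => ?_
  rw [smul_smul, ← sub_smul, map_smul, smul_eq_mul]
  exact smul_mem_WP (shift_mul_sub_mem (apply_mem_of_mem_smul_top hz _) a) _

theorem Ph_smul' {𝔟 : Ideal S} {a : WittVector p S} (ha : a ∈ WI p 𝔟) (x : P') :
    Ph D' b' (a • x) - a.shift 1 • D'.F x ∈ WP (p := p) (nxt p 𝔟) P' := by
  have h1 : D'.F x = ∑ i, WittVector.frobenius (b'.f i x) • D'.F (b'.e i) := by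
    conv_lhs => rw [← b'.h x]
    rw [map_sum]
    simp_rw [LinearMap.map_smulₛₗ]
  rw [h1, Ph, Finset.smul_sum, ← Finset.sum_sub_distrib]
  refine Submodule.sum_mem _ fun i _ => ?_
  rw [smul_smul, ← sub_smul, map_smul, smul_eq_mul]
  exact smul_mem_WP (shift_mul_sub_mem' ha _) _

theorem Ph_mem {𝔠 : Ideal S} {z : P'} (hz : z ∈ WP (p := p) 𝔠 P') : Ph D' b' z ∈ WP (p := p) 𝔠 P' :=
  Submodule.sum_mem _ fun _ _ => smul_mem_WP (shift_mem_WI (apply_mem_of_mem_smul_top hz _) 1) _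

theorem Ph_zero : Ph D' b' 0 = 0 := by
  rw [Ph]
  refine Finset.sum_eq_zero fun i _ => ?_
  have : (b'.f i 0).shift 1 = 0 := by
    rw [map_zero]; ext n; rw [WittVector.shift_coeff, WittVector.zero_coeff, WittVector.zero_coeff]
  rw [this, zero_smul]

theorem Ph_sum {𝔟 : Ideal S} {ι : Type*} (s : Finset ι) (z : ι → P')
    (hz : ∀ i, z i ∈ WP (p := p) 𝔟 P') :
    Ph D' b' (∑ i ∈ s, z i) - ∑ i ∈ s, Ph D' b' (z i) ∈ WP (p := p) (nxt p 𝔟) P' := by
  classical
  induction s using Finset.induction_on with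
  | empty => rw [Finset.sum_empty, Finset.sum_empty, Ph_zero, sub_zero]; exact Submodule.zero_mem _
  | insert a s ha ih =>
    rw [Finset.sum_insert ha, Finset.sum_insert ha]
    have h1 := Ph_add D' b' (hz a) (Submodule.sum_mem _ fun i (_ : i ∈ s) => hz i)
    have h2 := Submodule.add_mem _ h1 ih
    convert h2 using 1
    abel

theorem Ph_congr {𝔟 : Ideal S} {z z' : P'} (hz' : z' ∈ WP (p := p) 𝔟 P')
    (h : z - z' ∈ WP (p := p) (nxt p 𝔟) P') :
    Ph D' b' z - Ph D' b' z' ∈ WP (p := p) (nxt p 𝔟) P' := by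
  have h1 := Ph_add D' b' (WP_mono (nxt_le 𝔟) h) hz'
  rw [sub_add_cancel] at h1
  have h2 := Submodule.add_mem _ h1 (Ph_mem D' b' h)
  convert h2 using 1
  abel

theorem Vinv_sum_verschiebung {D' : Display3n p S P'} {ι : Type*} (s : Finset ι)
    (w : ι → WittVector p S) (e : ι → P') (h : ∑ i ∈ s, verschiebung (w i) • e i ∈ D'.Q) :
    D'.Vinv ⟨_, h⟩ = ∑ i ∈ s, w i • D'.F (e i) := by
  have h1 : (⟨_, h⟩ : D'.Q) = ∑ i ∈ s, ⟨verschiebung (w i) • e i, verschiebung_smul_mem D' _ _⟩ := by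
    apply Subtype.ext
    simp
  rw [h1, map_sum]
  simp_rw [D'.Vinv_verschiebung_smul]

/-- `V⁻¹` agrees with `τ ⊗ F'` modulo `W(𝔟² + p𝔟)`. -/
theorem Vinv_sub_Ph_mem {𝔟 : Ideal S} {z : P'} (hz : z ∈ WP (p := p) 𝔟 P') (hQ : z ∈ D'.Q) :
    D'.Vinv ⟨z, hQ⟩ - Ph D' b' z ∈ WP (p := p) (nxt p 𝔟) P' := by
  obtain ⟨N⟩ := exists_nproj D'
  have hπz : N.π z ∈ WP (p := p) 𝔟 P' := map_mem_of_mem_smul_top hz _
  have hl : z - N.π z ∈ WP (p := p) 𝔟 P' := Submodule.sub_mem _ hz hπz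
  -- the `T`-part
  have hπQ : N.π z ∈ D'.Q := by rw [N.mem_Q, N.idem]; exact (N.mem_Q z).1 hQ
  have hT : D'.Vinv ⟨N.π z, hπQ⟩ = Ph D' b' (N.π z) := by
    have h1 : N.π z = ∑ i, verschiebung ((b'.f i (N.π z)).shift 1) • b'.e i := by
      conv_lhs => rw [← b'.h (N.π z)]
      refine Finset.sum_congr rfl fun i _ => ?_
      congr 1
      have h2 : b'.f i (N.π z) ∈ IV p S := apply_mem_of_mem_smul_top ((N.mem_Q z).1 hQ) _
      obtain ⟨w, hw⟩ := mem_IV_iff_exists.1 h2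
      rw [← hw, shift_verschiebung]
    rw [Vinv_eq_of_eq D' h1 hπQ (h1 ▸ hπQ), Vinv_sum_verschiebung]
    rfl
  -- the `L`-part
  have hL0 : ∀ i, b'.e i - N.π (b'.e i) ∈ D'.Q := fun i => N.sub_mem _
  have hLdec : z - N.π z = ∑ i, b'.f i (z - N.π z) • (b'.e i - N.π (b'.e i)) := by
    have h1 : z - N.π z = (z - N.π z) - N.π (z - N.π z) := by rw [N.apply_sub, sub_zero]
    rw [h1]
    conv_lhs => rw [← b'.h (z - N.π z)]
    rw [map_sum, ← Finset.sum_sub_distrib]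
    refine Finset.sum_congr rfl fun i _ => ?_
    rw [map_smul, ← smul_sub, ← h1]
  have hfl : ∀ i, b'.f i (z - N.π z) ∈ WI p 𝔟 := fun i => apply_mem_of_mem_smul_top hl _
  have hLV : D'.Vinv ⟨z - N.π z, N.sub_mem z⟩ ∈ WP (p := p) (nxt p 𝔟) P' := by
    have h2 : (⟨z - N.π z, N.sub_mem z⟩ : D'.Q) =
        ∑ i, b'.f i (z - N.π z) • (⟨b'.e i - N.π (b'.e i), hL0 i⟩ : D'.Q) := by
      apply Subtype.ext
      rw [AddSubmonoidClass.coe_finsetSum]
      exact hLdec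
    rw [h2, map_sum]
    refine Submodule.sum_mem _ fun i _ => ?_
    rw [LinearMap.map_smulₛₗ]
    exact smul_mem_WP (frobenius_mem_nxt (hfl i)) _
  have hLP : Ph D' b' (z - N.π z) ∈ WP (p := p) (nxt p 𝔟) P' := by
    have h3 := Ph_sum D' b' Finset.univ (fun i => b'.f i (z - N.π z) • (b'.e i - N.π (b'.e i)))
      (fun i => smul_mem_WP (hfl i) _)
    rw [← hLdec] at h3
    have h4 : ∑ i, Ph D' b' (b'.f i (z - N.π z) • (b'.e i - N.π (b'.e i))) ∈
        WP (p := p) (nxt p 𝔟) P' := by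
      refine Submodule.sum_mem _ fun i _ => ?_
      have h5 := Ph_smul' D' b' (hfl i) (b'.e i - N.π (b'.e i))
      have h6 : (b'.f i (z - N.π z)).shift 1 • D'.F (b'.e i - N.π (b'.e i)) ∈
          WP (p := p) (nxt p 𝔟) P' := by
        rw [F_of_mem_Q D' ⟨_, hL0 i⟩, smul_smul, mul_comm]
        exact smul_mem_WP (p_mul_mem_nxt (shift_mem_WI (hfl i) 1)) _
      have := Submodule.add_mem _ h5 h6
      rwa [sub_add_cancel] at this
    have := Submodule.add_mem _ h3 h4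
    rwa [sub_add_cancel] at this
  have hsum : D'.Vinv ⟨z, hQ⟩ = D'.Vinv ⟨z - N.π z, N.sub_mem z⟩ + D'.Vinv ⟨N.π z, hπQ⟩ := by
    rw [← map_add]
    congr 1
    apply Subtype.ext
    simp
  have h7 := Ph_add D' b' hl hπz
  rw [sub_add_cancel] at h7
  rw [hsum, hT]
  have h8 := Submodule.sub_mem _ (Submodule.sub_mem _ hLV hLP) h7
  convert h8 using 1
  abel

variable {D'} {D : Display3n p S P}

/-- One step of the rigidity argument. -/
theorem step {Vs : P →ₗ[WittVector p S] BC (WittVector.frobenius : WittVector p S →+* WittVector p S) P}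
    (hVs : IsVSharp D Vs) (hn : IsVNilpotent Vs)
    (u : P →ₗ[WittVector p S] P') (hQ : ∀ y : D.Q, u y ∈ D'.Q)
    (hV : ∀ y : D.Q, u (D.Vinv y) = D'.Vinv ⟨u y, hQ y⟩)
    {𝔟 : Ideal S} (h𝔟 : ∀ x, u x ∈ WP (p := p) 𝔟 P') (x : P) :
    u x ∈ WP (p := p) (nxt p 𝔟) P' := by
  have := D.finite
  have := D.projective
  have := D'.finite
  have := D'.projective
  obtain ⟨b⟩ := exists_db (A := WittVector p S) (M := P)
  obtain ⟨b'⟩ := exists_db (A := WittVector p S) (M := P')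
  have key : ∀ n : ℕ, ∃ z : Fin b.n → P', (∀ j, z j ∈ WP (p := p) 𝔟 P') ∧
      ∀ x, u x - ∑ j, ((Vd Vs)^[n] (b.f j) x) • z j ∈ WP (p := p) (nxt p 𝔟) P' := by
    intro n
    induction n with
    | zero =>
      refine ⟨fun j => u (b.e j), fun j => h𝔟 _, fun x => ?_⟩
      simp only [Function.iterate_zero, id_eq]
      rw [b.functional_eq u x, sub_self]
      exact Submodule.zero_mem _
    | succ n ih =>
      obtain ⟨z, hz, hz'⟩ := ih
      refine ⟨fun j => Ph D' b' (z j), fun j => Ph_mem D' b' (hz j), ?_⟩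
      let M : P →ₗ[WittVector p S] P' :=
        u - ∑ j, ((Vd Vs)^[n + 1] (b.f j)).smulRight (Ph D' b' (z j))
      have hM : ∀ x, M x = u x - ∑ j, ((Vd Vs)^[n + 1] (b.f j) x) • Ph D' b' (z j) := by
        intro x
        simp only [M, LinearMap.sub_apply, LinearMap.sum_apply, LinearMap.smulRight_apply]
      have htop : (⊤ : Submodule (WittVector p S) P) ≤ (WP (p := p) (nxt p 𝔟) P').comap M := by
        rw [← D.span_range_Vinv, Submodule.span_le]
        rintro _ ⟨y, rfl⟩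
        change M (D.Vinv y) ∈ WP (p := p) (nxt p 𝔟) P'
        rw [hM, hV y]
        have h1 := Vinv_sub_Ph_mem D' b' (h𝔟 y) (hQ y)
        have hzz : ∀ j, ((Vd Vs)^[n] (b.f j) y) • z j ∈ WP (p := p) 𝔟 P' :=
          fun j => Submodule.smul_mem _ _ (hz j)
        have h2 := Ph_congr D' b' (Submodule.sum_mem _ fun j (_ : j ∈ Finset.univ) => hzz j) (hz' y)
        have h3 := Ph_sum D' b' Finset.univ _ hzz
        have h4 : ∑ j, Ph D' b' (((Vd Vs)^[n] (b.f j) y) • z j) -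
            ∑ j, ((Vd Vs)^[n + 1] (b.f j) (D.Vinv y)) • Ph D' b' (z j) ∈
            WP (p := p) (nxt p 𝔟) P' := by
          rw [← Finset.sum_sub_distrib]
          refine Submodule.sum_mem _ fun j _ => ?_
          rw [Function.iterate_succ_apply', Vd_apply_Vinv hVs]
          exact Ph_smul D' b' (hz j) _
        have h5 := Submodule.add_mem _ (Submodule.add_mem _ (Submodule.add_mem _ h1 h2) h3) h4
        convert h5 using 1
        abel
      intro x
      have := htop (Submodule.mem_top (x := x))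
      rw [Submodule.mem_comap, hM] at this
      exact this
  obtain ⟨n, hn⟩ := (isVNilpotent_iff Vs).1 hn
  obtain ⟨z, hz, hz'⟩ := key (n + 1)
  have h1 : ∑ j, ((Vd Vs)^[n + 1] (b.f j) x) • z j ∈ WP (p := p) (nxt p 𝔟) P' :=
    Submodule.sum_mem _ fun j _ => J_smul_mem (hn _ x) (hz j)
  have := Submodule.add_mem _ (hz' x) h1
  rwa [sub_add_cancel] at this

/-- Rigidity. -/
theorem eq_zero_of_mem (hpn : IsNilpotent (p : S)) {𝔞 : Ideal S} (h𝔞 : IsNilpotent 𝔞)
    (hD : IsDisplay D)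
    (u : P →ₗ[WittVector p S] P') (hQ : ∀ y : D.Q, u y ∈ D'.Q)
    (hV : ∀ y : D.Q, u (D.Vinv y) = D'.Vinv ⟨u y, hQ y⟩)
    (hu : ∀ x, u x ∈ WP (p := p) 𝔞 P') : u = 0 := by
  obtain ⟨Vs, hVs, hn⟩ := hD
  have key : ∀ k, ∀ x, u x ∈ WP (p := p) ((nxt p)^[k] 𝔞) P' := by
    intro k
    induction k with
    | zero => exact hu
    | succ k ih =>
      rw [Function.iterate_succ_apply']
      exact step hVs hn u hQ hV ih
  obtain ⟨k, hk⟩ := exists_iterate_nxt_eq_bot hpn h𝔞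
  ext x
  have := key k x
  rw [hk, WP, WI_bot, Submodule.bot_smul] at this
  exact this

end K789.Rigid
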