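import Mathlib.RingTheory.WittVector.Frobenius
import Mathlib.RingTheory.WittVector.Truncated
import Mathlib.RingTheory.WittVector.Identities
import Mathlib.RingTheory.Ideal.Quotient.Operations

/-!
# Ideals `W(𝔠)` of Witt vectors with coefficients in an ideal, and the Frobenius on them
-/

set_option autoImplicit false

universe u v w

noncomputable section

namespace K789.WittIdeal

open WittVector MvPolynomial

variable {p : ℕ} [hp : Fact p.Prime] {S : Type u} [CommRing S]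

/-- The ideal `W(𝔠)` of Witt vectors all of whose coefficients lie in `𝔠`. -/
def WI (p : ℕ) [Fact p.Prime] {S : Type u} [CommRing S] (𝔠 : Ideal S) : Ideal (WittVector p S) :=
  RingHom.ker (WittVector.map (p := p) (Ideal.Quotient.mk 𝔠))

theorem mem_WI {𝔠 : Ideal S} {x : WittVector p S} : x ∈ WI p 𝔠 ↔ ∀ n, x.coeff n ∈ 𝔠 := by
  rw [WI, RingHom.mem_ker, WittVector.map_eq_zero_iff]
  simp [Ideal.Quotient.eq_zero_iff_mem]

theorem mem_ker_map {R : Type v} [CommRing R] (φ : S →+* R) {x : WittVector p S} :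
    x ∈ RingHom.ker (WittVector.map (p := p) φ) ↔ x ∈ WI p (RingHom.ker φ) := by
  rw [RingHom.mem_ker, WittVector.map_eq_zero_iff, mem_WI]
  simp [RingHom.mem_ker]

theorem ker_map_eq {R : Type v} [CommRing R] (φ : S →+* R) :
    RingHom.ker (WittVector.map (p := p) φ) = WI p (RingHom.ker φ) := by
  ext x; exact mem_ker_map φ

theorem WI_mono {𝔠 𝔡 : Ideal S} (h : 𝔠 ≤ 𝔡) : WI p 𝔠 ≤ WI p 𝔡 := by
  intro x hx
  rw [mem_WI] at hx ⊢
  exact fun n => h (hx n)

theorem WI_bot : WI p (⊥ : Ideal S) = ⊥ := by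
  rw [eq_bot_iff]
  intro x hx
  rw [mem_WI] at hx
  rw [Ideal.mem_bot]
  ext n
  simpa using hx n

theorem WI_top : WI p (⊤ : Ideal S) = ⊤ := by
  rw [eq_top_iff]
  intro x _
  rw [mem_WI]
  exact fun _ => Submodule.mem_top

/-- An integral polynomial with zero constant coefficient takes values in `𝔠` on tuples from `𝔠`. -/
theorem aeval_mem_of_constantCoeff_eq_zero {σ : Type*} (φ : MvPolynomial σ ℤ)
    (hφ : MvPolynomial.constantCoeff φ = 0) {𝔠 : Ideal S} (a : σ → S) (ha : ∀ i, a i ∈ 𝔠) :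
    MvPolynomial.aeval a φ ∈ 𝔠 := by
  rw [← Ideal.Quotient.eq_zero_iff_mem]
  have h1 : Ideal.Quotient.mk 𝔠 (MvPolynomial.aeval a φ) =
      MvPolynomial.eval₂Hom ((Ideal.Quotient.mk 𝔠).comp (algebraMap ℤ S)) (fun i => Ideal.Quotient.mk 𝔠 (a i)) φ := by
    rw [MvPolynomial.aeval_def, MvPolynomial.coe_eval₂Hom, MvPolynomial.eval₂_comp_left]
    rfl
  have h2 : (fun i => Ideal.Quotient.mk 𝔠 (a i)) = 0 := by
    funext i; exact Ideal.Quotient.eq_zero_iff_mem.2 (ha i)
  rw [h1, h2]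
  simp [hφ]

theorem constantCoeff_frobeniusPoly (n : ℕ) :
    MvPolynomial.constantCoeff (frobeniusPoly p n) = 0 := by
  have h := WittVector.coeff_frobenius (p := p) (0 : WittVector p ℤ) n
  rw [map_zero, WittVector.zero_coeff] at h
  have h2 : (0 : WittVector p ℤ).coeff = 0 := by
    funext i; simp
  rw [h2] at h
  rw [MvPolynomial.constantCoeff_eq]
  have h3 : MvPolynomial.aeval (0 : ℕ → ℤ) (frobeniusPoly p n) =
      MvPolynomial.coeff 0 (frobeniusPoly p n) := by
    rw [MvPolynomial.aeval_def, MvPolynomial.eval₂_zero_apply]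
    simp [MvPolynomial.constantCoeff_eq]
  rw [← h3, ← h]

theorem constantCoeff_frobeniusPolyAux (n : ℕ) :
    MvPolynomial.constantCoeff (frobeniusPolyAux p n) = 0 := by
  have h := constantCoeff_frobeniusPoly (p := p) n
  rw [frobeniusPoly, map_add, map_mul, map_pow, MvPolynomial.constantCoeff_X, MvPolynomial.constantCoeff_C,
    zero_pow hp.out.ne_zero, zero_add] at h
  rcases mul_eq_zero.1 h with h | h
  · exact absurd h (by exact_mod_cast hp.out.ne_zero)
  · exact h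

/-- `(σ x)_n - x_n ^ p ∈ p 𝔠` for `x ∈ W(𝔠)`. -/
theorem coeff_frobenius_sub_pow_mem {𝔠 : Ideal S} {x : WittVector p S} (hx : x ∈ WI p 𝔠) (n : ℕ) :
    ∃ c ∈ 𝔠, (WittVector.frobenius x).coeff n = x.coeff n ^ p + (p : S) * c := by
  refine ⟨MvPolynomial.aeval x.coeff (frobeniusPolyAux p n),
    aeval_mem_of_constantCoeff_eq_zero _ (constantCoeff_frobeniusPolyAux n) _ (mem_WI.1 hx), ?_⟩
  rw [WittVector.coeff_frobenius, frobeniusPoly]
  simp

/-- The Frobenius maps `W(𝔠)` to `W(𝔠 ^ 2 + p 𝔠)`. -/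
theorem frobenius_mem_WI {𝔠 : Ideal S} {x : WittVector p S} (hx : x ∈ WI p 𝔠) :
    WittVector.frobenius x ∈ WI p (𝔠 ^ 2 ⊔ Ideal.span {(p : S)} * 𝔠) := by
  rw [mem_WI]
  intro n
  obtain ⟨c, hc, h⟩ := coeff_frobenius_sub_pow_mem hx n
  rw [h]
  refine Submodule.add_mem_sup ?_ ?_
  · exact Ideal.pow_le_pow_right hp.out.two_le (Ideal.pow_mem_pow (mem_WI.1 hx n) p)
  · exact Ideal.mul_mem_mul (Ideal.mem_span_singleton_self _) hc

theorem frobenius_mem_WI_self {𝔠 : Ideal S} {x : WittVector p S} (hx : x ∈ WI p 𝔠) :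
    WittVector.frobenius x ∈ WI p 𝔠 :=
  WI_mono (sup_le (Ideal.pow_le_self two_ne_zero) Ideal.mul_le_right) (frobenius_mem_WI hx)

/-- Frobenius maps `W(p^i 𝔠)` to `W(p^(i+1) 𝔠)` (for `i ≥ 1`). -/
theorem frobenius_mem_WI_span_pow {i : ℕ} {x : WittVector p S}
    (hx : x ∈ WI p (Ideal.span {(p : S) ^ (i + 1)})) :
    WittVector.frobenius x ∈ WI p (Ideal.span {(p : S) ^ (i + 2)}) := by
  rw [mem_WI]
  intro n
  obtain ⟨c, hc, h⟩ := coeff_frobenius_sub_pow_mem hx n
  rw [h]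
  refine Ideal.add_mem _ ?_ ?_
  · obtain ⟨d, hd⟩ := Ideal.mem_span_singleton.1 (mem_WI.1 hx n)
    rw [Ideal.mem_span_singleton, hd, mul_pow, ← pow_mul]
    refine Dvd.dvd.mul_right (pow_dvd_pow _ ?_) _
    have := hp.out.two_le
    nlinarith
  · obtain ⟨d, rfl⟩ := Ideal.mem_span_singleton.1 hc
    rw [Ideal.mem_span_singleton]
    exact ⟨d, by ring⟩

theorem iterate_frobenius_mem_WI_span_pow {x : WittVector p S}
    (hx : x ∈ WI p (Ideal.span {(p : S)})) (k : ℕ) :
    (WittVector.frobenius)^[k] x ∈ WI p (Ideal.span {(p : S) ^ (k + 1)}) := by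
  induction k with
  | zero => simpa using hx
  | succ k ih =>
    rw [Function.iterate_succ_apply']
    exact frobenius_mem_WI_span_pow ih

/-- `(σ^k x)_n ≡ x_n ^ (p^k) mod p`. -/
theorem coeff_iterate_frobenius (x : WittVector p S) (k n : ℕ) :
    ((WittVector.frobenius)^[k] x).coeff n - x.coeff n ^ p ^ k ∈ Ideal.span {(p : S)} := by
  induction k with
  | zero => simp
  | succ k ih =>
    rw [Function.iterate_succ_apply']
    obtain ⟨c, -, h⟩ := coeff_frobenius_sub_pow_mem (𝔠 := ⊤)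
      (x := (WittVector.frobenius)^[k] x) (by rw [WI_top]; trivial) n
    rw [h, ← Ideal.Quotient.eq, map_add, map_mul, map_pow, pow_succ, pow_mul, map_pow]
    rw [← Ideal.Quotient.eq] at ih
    rw [ih]
    have : Ideal.Quotient.mk (Ideal.span {(p : S)}) (p : S) = 0 :=
      Ideal.Quotient.eq_zero_iff_mem.2 (Ideal.mem_span_singleton_self _)
    rw [this, zero_mul, add_zero]

/-- If `p` is nilpotent in `S` and `a ^ N = 0` for all `a ∈ 𝔞`, then a power of the Frobenius kills `W(𝔞)`. -/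
theorem exists_iterate_frobenius_eq_zero (hpn : IsNilpotent (p : S)) (𝔞 : Ideal S) (N : ℕ)
    (hN : ∀ a ∈ 𝔞, a ^ N = 0) :
    ∃ m : ℕ, ∀ x ∈ WI p 𝔞, (WittVector.frobenius)^[m] x = 0 := by
  obtain ⟨c, hc⟩ := hpn
  refine ⟨c + N, fun x hx => ?_⟩
  have h1 : (WittVector.frobenius)^[N] x ∈ WI p (Ideal.span {(p : S)}) := by
    rw [mem_WI]
    intro n
    have h := coeff_iterate_frobenius x N n
    have h0 : x.coeff n ^ p ^ N = 0 :=
      pow_eq_zero_of_le (Nat.lt_pow_self hp.out.one_lt).le (hN _ (mem_WI.1 hx n))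
    rwa [h0, sub_zero] at h
  have h2 := iterate_frobenius_mem_WI_span_pow h1 c
  rw [← Function.iterate_add_apply, pow_succ, hc, zero_mul, Ideal.span_singleton_zero, WI_bot] at h2
  exact (Ideal.mem_bot).1 h2

end K789.WittIdeal
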