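import Groth.Agent.Disp.K789.NProj
import Groth.Agent.Disp.K789.Complete
import Groth.Agent.Disp.K789.WittIdeal
import Groth.Agent.Disp.K789.BCRank
import Mathlib.RingTheory.WittVector.Teichmuller

/-!
# Existence and uniqueness of `V^#`
-/

set_option autoImplicit false

universe u v w

noncomputable section

namespace K789.VSharp

open WittVector W4c1extbt610 K789.DispBasic K789.DualBasis K789.DNProj K789.WittComplete Dieu

variable {p : ℕ} [hp : Fact p.Prime] {R : Type u} [CommRing R]
variable {P : Type v} [AddCommGroup P] [Module (WittVector p R) P]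

local notation "σ" => (WittVector.frobenius : WittVector p R →+* WittVector p R)

/-- `σ x ≡ x ^ p` modulo `I_R + pW`. -/
theorem frobenius_sub_pow_mem (x : WittVector p R) :
    WittVector.frobenius x - x ^ p ∈ IV p R ⊔ Ideal.span {(p : WittVector p R)} := by
  obtain ⟨c, -, hc⟩ := K789.WittIdeal.coeff_frobenius_sub_pow_mem (𝔠 := ⊤) (x := x)
    (by rw [K789.WittIdeal.WI_top]; trivial) 0
  have h1 : WittVector.frobenius x - x ^ p =
      (WittVector.frobenius x - x ^ p - (p : WittVector p R) * teichmuller p c) +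
        (p : WittVector p R) * teichmuller p c := by ring
  rw [h1]
  refine Submodule.add_mem_sup ?_ ?_
  · rw [mem_IV_iff_coeff_zero]
    change WittVector.constantCoeff
      (WittVector.frobenius x - x ^ p - (p : WittVector p R) * teichmuller p c) = 0
    rw [map_sub, map_sub, map_pow, map_mul, map_natCast]
    change (WittVector.frobenius x).coeff 0 - x.coeff 0 ^ p - p * (teichmuller p c).coeff 0 = 0
    rw [hc, teichmuller_coeff_zero]; ring
  · exact Ideal.mul_mem_right _ _ (Ideal.mem_span_singleton_self _)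

theorem IV_sup_span_le_of_isMaximal [IsAdicComplete (Ideal.span {(p : R)}) R]
    (m : Ideal (WittVector p R)) (hm : m.IsMaximal) :
    IV p R ⊔ Ideal.span {(p : WittVector p R)} ≤ m := by
  refine sup_le ?_ ?_
  · intro x hx
    obtain ⟨w, rfl⟩ := mem_IV_iff_exists.1 hx
    exact verschiebung_mem_of_isMaximal m hm w
  · rw [Ideal.span_le, Set.singleton_subset_iff]
    have h := p_mem_jacobson (p := p) (R := R)
    rw [Ideal.jacobson, Ideal.mem_sInf] at h
    exact h ⟨bot_le, hm⟩

theorem comap_frobenius_of_isMaximal [IsAdicComplete (Ideal.span {(p : R)}) R]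
    (m : Ideal (WittVector p R)) (hm : m.IsMaximal) :
    m.comap σ = m := by
  ext x
  rw [Ideal.mem_comap]
  have h := IV_sup_span_le_of_isMaximal m hm (frobenius_sub_pow_mem x)
  constructor
  · intro hx
    have h2 := Ideal.sub_mem _ hx h
    rw [sub_sub_cancel] at h2
    exact hm.isPrime.mem_of_pow_mem _ h2
  · intro hx
    have h2 := Ideal.add_mem _ h (Ideal.pow_mem_of_mem m hx p hp.out.pos)
    rwa [sub_add_cancel] at h2

/-- A semilinear endomorphism whose image generates linearises to an isomorphism. -/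
theorem bijective_lift_of_span [IsAdicComplete (Ideal.span {(p : R)}) R]
    [Module.Finite (WittVector p R) P] [Module.Projective (WittVector p R) P]
    (Φ : P →ₛₗ[σ] P) (hΦ : Submodule.span (WittVector p R) (Set.range Φ) = ⊤) :
    Function.Bijective (BC.lift σ Φ) := by
  apply Module.bijective_of_surjective_of_rankAtStalk_eq
  · rw [← LinearMap.range_eq_top, eq_top_iff, ← hΦ, Submodule.span_le]
    rintro _ ⟨x, rfl⟩
    exact ⟨BC.tmul σ 1 x, by rw [BC.lift_tmul, one_smul]⟩
  · intro m hm
    rw [K789.BCRank.rankAtStalk_bc]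
    congr 1
    apply PrimeSpectrum.ext
    exact comap_frobenius_of_isMaximal m hm

theorem vsharp_unique {D : Display3n p R P} {Vs Vs' : P →ₗ[WittVector p R] BC σ P}
    (h : IsVSharp D Vs) (h' : IsVSharp D Vs') : Vs = Vs' := by
  apply LinearMap.ext_on_range (v := fun y : D.Q => D.Vinv y)
  · exact D.span_range_Vinv
  · intro y
    have h1 := h.app_smul_Vinv 1 y
    have h2 := h'.app_smul_Vinv 1 y
    rw [one_smul] at h1 h2
    rw [h1, h2]

/-- It is enough to know `V^#` on `V⁻¹ Q`. -/
theorem isVSharp_of_app_Vinv {D : Display3n p R P} {Vs : P →ₗ[WittVector p R] BC σ P}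
    (h : ∀ y : D.Q, Vs (D.Vinv y) = BC.tmul σ 1 (y : P)) : IsVSharp D Vs where
  app_smul_F w x := by
    rw [map_smul, F_eq_Vinv, h, ← BC.tmul_apply_eq, frobenius_verschiebung, one_mul,
      BC.smul_tmul, BC.smul_tmul, mul_comm]
  app_smul_Vinv w y := by
    rw [map_smul, h, BC.smul_tmul, mul_one]

theorem exists_vsharp [IsAdicComplete (Ideal.span {(p : R)}) R] (D : Display3n p R P) :
    ∃ Vs : P →ₗ[WittVector p R] BC σ P, IsVSharp D Vs := by
  obtain ⟨N⟩ := exists_nproj D
  have := D.finite
  have := D.projective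
  have hbij := bijective_lift_of_span N.Φ N.span_range_Φ
  let e : BC σ P ≃ₗ[WittVector p R] P := LinearEquiv.ofBijective (BC.lift σ N.Φ) hbij
  let μ : P →ₗ[WittVector p R] P := (LinearMap.id - N.π) + (p : WittVector p R) • N.π
  have he : ∀ x, e.symm (N.Φ x) = BC.tmul σ 1 x := by
    intro x
    rw [LinearEquiv.symm_apply_eq]
    change N.Φ x = BC.lift σ N.Φ (BC.tmul σ 1 x)
    rw [BC.lift_tmul, one_smul]
  let Vs : P →ₗ[WittVector p R] BC σ P := (BC.map σ μ).comp e.symm.toLinearMap
  have hVs : ∀ x, Vs (N.Φ x) = BC.tmul σ 1 (μ x) := by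
    intro x
    change BC.map σ μ (e.symm (N.Φ x)) = _
    rw [he, BC.map_tmul]
  have hVsF : ∀ x, Vs (D.F x) = BC.tmul σ 1 ((p : WittVector p R) • x) := by
    intro x
    rw [N.F_eq, hVs]
    congr 1
    have hπ : N.π ((p : WittVector p R) • (x - N.π x) + N.π x) = N.π x := by
      rw [map_add, map_smul, N.apply_sub, smul_zero, zero_add, N.idem]
    simp only [μ, LinearMap.add_apply, LinearMap.sub_apply, LinearMap.id_apply, LinearMap.smul_apply,
      hπ]
    rw [add_sub_cancel_right, ← smul_add, sub_add_cancel]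
  refine ⟨Vs, isVSharp_of_app_Vinv fun y => ?_⟩
  refine N.Q_induction (motive := fun y => Vs (D.Vinv y) = BC.tmul σ 1 (y : P)) ?_ ?_ ?_ y
  · intro x hx
    rw [← N.Φ_of_apply_eq_zero hx, hVs]
    congr 1
    simp [μ, hx]
  · intro w x
    rw [D.Vinv_verschiebung_smul, map_smul, hVsF, ← BC.tmul_apply_eq, ← BC.tmul_apply_eq,
      map_natCast, BC.smul_tmul, frobenius_verschiebung]
  · intro x y hx hy
    rw [map_add, map_add, hx, hy, Submodule.coe_add, BC.tmul_add]

end K789.VSharp
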