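import Groth.Agent.Disp.K789.WittIdeal
import Mathlib.RingTheory.MvPolynomial.Ideal
import Mathlib.RingTheory.WittVector.Teichmuller
import Mathlib.RingTheory.WittVector.InitTail
import Mathlib.RingTheory.WittVector.Domain

/-!
# Addition of Witt vectors modulo squares; the shift operator on `W(𝔟)`
-/

set_option autoImplicit false

universe u v w

noncomputable section

namespace K789.WittAdd

open WittVector MvPolynomial K789.WittIdeal

variable {p : ℕ} [hp : Fact p.Prime] {S : Type u} [CommRing S]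

theorem aeval_mem_pow {τ : Type*} {q : MvPolynomial τ ℤ} {k : ℕ} (hq : q ∈ idealOfVars τ ℤ ^ k)
    {𝔟 : Ideal S} (v : τ → S) (hv : ∀ i, v i ∈ 𝔟) : MvPolynomial.aeval v q ∈ 𝔟 ^ k := by
  have h1 : Ideal.map (MvPolynomial.aeval v : MvPolynomial τ ℤ →ₐ[ℤ] S) (idealOfVars τ ℤ) ≤ 𝔟 := by
    rw [idealOfVars, Ideal.map_span, Ideal.span_le]
    rintro _ ⟨_, ⟨i, rfl⟩, rfl⟩
    rw [MvPolynomial.aeval_X]
    exact hv i
  have h2 := Ideal.mem_map_of_mem (MvPolynomial.aeval v : MvPolynomial τ ℤ →ₐ[ℤ] S) hq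
  rw [Ideal.map_pow] at h2
  exact Ideal.pow_right_mono h1 k h2

theorem ghost_sub_mem {A : Type*} [CommRing A] {𝔪 : Ideal A} {z : WittVector p A}
    (hz : ∀ i, z.coeff i ∈ 𝔪) (n : ℕ) :
    ghostComponent n z - (p : A) ^ n * z.coeff n ∈ 𝔪 ^ 2 := by
  rw [ghostComponent_apply, aeval_wittPolynomial, Finset.sum_range_succ, Nat.sub_self, pow_zero,
    pow_one, add_sub_cancel_right]
  refine Ideal.sum_mem _ fun i hi => Ideal.mul_mem_left _ _ ?_
  have h1 : 2 ≤ p ^ (n - i) := by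
    have : 0 < n - i := Nat.sub_pos_of_lt (Finset.mem_range.1 hi)
    calc 2 ≤ p := hp.out.two_le
      _ = p ^ 1 := (pow_one p).symm
      _ ≤ p ^ (n - i) := Nat.pow_le_pow_right hp.out.pos this
  exact Ideal.pow_le_pow_right h1 (Ideal.pow_mem_pow (hz i) _)

theorem wittAdd_sub_mem (n : ℕ) :
    wittAdd p n - (X (0, n) + X (1, n)) ∈ idealOfVars (Fin 2 × ℕ) ℤ ^ 2 := by
  let x : WittVector p (MvPolynomial (Fin 2 × ℕ) ℤ) := WittVector.mk p fun i => X (0, i)
  let y : WittVector p (MvPolynomial (Fin 2 × ℕ) ℤ) := WittVector.mk p fun i => X (1, i)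
  have hxy : ∀ i, (x + y).coeff i = wittAdd p i := by
    intro i
    rw [WittVector.add_coeff, peval]
    have h1 : (Function.uncurry ![x.coeff, y.coeff]) = (X : (Fin 2 × ℕ) → MvPolynomial (Fin 2 × ℕ) ℤ) := by
      funext ⟨j, i⟩
      fin_cases j <;> simp [x, y]
    rw [h1]
    generalize wittAdd p i = q
    induction q using MvPolynomial.induction_on with
    | C a => simp
    | add q r hq hr => rw [map_add, hq, hr]
    | mul_X q j hq => rw [map_mul, hq, MvPolynomial.aeval_X]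
  have hX : ∀ j, (X j : MvPolynomial (Fin 2 × ℕ) ℤ) ∈ idealOfVars (Fin 2 × ℕ) ℤ :=
    fun j => Ideal.subset_span ⟨j, rfl⟩
  have hx : ∀ i, x.coeff i ∈ idealOfVars (Fin 2 × ℕ) ℤ := fun i => by
    simpa [x] using hX (0, i)
  have hy : ∀ i, y.coeff i ∈ idealOfVars (Fin 2 × ℕ) ℤ := fun i => by
    simpa [y] using hX (1, i)
  have hs : ∀ i, (x + y).coeff i ∈ idealOfVars (Fin 2 × ℕ) ℤ := by
    intro i
    rw [hxy, ← pow_one (idealOfVars (Fin 2 × ℕ) ℤ), mem_pow_idealOfVars_iff']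
    intro m hm
    have : m = 0 := by
      have h0 : m.degree = 0 := by omega
      rwa [Finsupp.degree_eq_zero_iff] at h0
    rw [this]
    exact constantCoeff_wittAdd p i
  have h1 := ghost_sub_mem hs n
  have h2 := ghost_sub_mem hx n
  have h3 := ghost_sub_mem hy n
  have h4 : ((p : MvPolynomial (Fin 2 × ℕ) ℤ) ^ n) * (wittAdd p n - (X (0, n) + X (1, n))) ∈
      idealOfVars (Fin 2 × ℕ) ℤ ^ 2 := by
    have h5 := Ideal.sub_mem _ (Ideal.add_mem _ h2 h3) h1
    rw [map_add, hxy] at h5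
    have h6 : x.coeff n = X (0, n) := rfl
    have h7 : y.coeff n = X (1, n) := rfl
    rw [h6, h7] at h5
    convert h5 using 1
    ring
  rw [mem_pow_idealOfVars_iff'] at h4 ⊢
  intro m hm
  have h5 := h4 m hm
  have h6 : ((p : MvPolynomial (Fin 2 × ℕ) ℤ) ^ n) = C ((p : ℤ) ^ n) := by simp
  rw [h6, coeff_C_mul] at h5
  rcases mul_eq_zero.1 h5 with h | h
  · exact absurd h (pow_ne_zero _ (by exact_mod_cast hp.out.ne_zero))
  · exact h

theorem add_coeff_sub_mem {𝔟 : Ideal S} {x y : WittVector p S} (hx : x ∈ WI p 𝔟) (hy : y ∈ WI p 𝔟)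
    (n : ℕ) : (x + y).coeff n - (x.coeff n + y.coeff n) ∈ 𝔟 ^ 2 := by
  have h1 := aeval_mem_pow (wittAdd_sub_mem (p := p) n) (𝔟 := 𝔟)
    (Function.uncurry ![x.coeff, y.coeff]) (by
      rintro ⟨j, i⟩
      fin_cases j
      · exact mem_WI.1 hx i
      · exact mem_WI.1 hy i)
  rw [map_sub, map_add, MvPolynomial.aeval_X, MvPolynomial.aeval_X] at h1
  rw [WittVector.add_coeff]
  exact h1

theorem sub_mem_WI {𝔠 : Ideal S} {x y : WittVector p S} :
    x - y ∈ WI p 𝔠 ↔ ∀ n, x.coeff n - y.coeff n ∈ 𝔠 := by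
  rw [WI, RingHom.mem_ker, map_sub, sub_eq_zero, WittVector.ext_iff]
  simp only [WittVector.map_coeff, Ideal.Quotient.eq]

theorem shift_mem_WI {𝔠 : Ideal S} {x : WittVector p S} (hx : x ∈ WI p 𝔠) (k : ℕ) :
    x.shift k ∈ WI p 𝔠 := by
  rw [mem_WI] at hx ⊢
  intro n
  rw [WittVector.shift_coeff]
  exact hx _

theorem shift_add_sub_mem {𝔟 : Ideal S} {x y : WittVector p S} (hx : x ∈ WI p 𝔟) (hy : y ∈ WI p 𝔟) :
    (x + y).shift 1 - (x.shift 1 + y.shift 1) ∈ WI p (𝔟 ^ 2) := by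
  rw [sub_mem_WI]
  intro n
  have h1 := add_coeff_sub_mem hx hy (1 + n)
  have h2 := add_coeff_sub_mem (shift_mem_WI hx 1) (shift_mem_WI hy 1) n
  rw [WittVector.shift_coeff, WittVector.shift_coeff] at h2
  rw [WittVector.shift_coeff]
  have := Ideal.sub_mem _ h1 h2
  rwa [sub_sub_sub_cancel_right] at this

theorem shift_verschiebung (x : WittVector p S) : (verschiebung x).shift 1 = x := by
  ext n
  rw [WittVector.shift_coeff, add_comm, verschiebung_coeff_succ]

theorem shift_teichmuller (a : S) : (teichmuller p a).shift 1 = 0 := by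
  ext n
  rw [WittVector.shift_coeff, teichmuller_coeff_pos p a _ (by omega), WittVector.zero_coeff]

theorem eq_teichmuller_add_verschiebung (x : WittVector p S) :
    x = teichmuller p (x.coeff 0) + verschiebung (x.shift 1) := by
  ext n
  rw [WittVector.coeff_add_of_disjoint]
  · cases n with
    | zero => rw [teichmuller_coeff_zero, verschiebung_coeff_zero, add_zero]
    | succ n =>
      rw [teichmuller_coeff_pos p _ _ (by omega), verschiebung_coeff_succ, WittVector.shift_coeff,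
        zero_add, add_comm]
  · intro m
    cases m with
    | zero => right; exact verschiebung_coeff_zero _
    | succ m => left; exact teichmuller_coeff_pos p _ _ (by omega)

theorem teichmuller_mem_WI {𝔠 : Ideal S} {a : S} (ha : a ∈ 𝔠) : teichmuller p a ∈ WI p 𝔠 := by
  rw [mem_WI]
  intro n
  cases n with
  | zero => rwa [teichmuller_coeff_zero]
  | succ n => rw [teichmuller_coeff_pos p _ _ (by omega)]; exact Ideal.zero_mem _

theorem verschiebung_mem_WI {𝔠 : Ideal S} {x : WittVector p S} (hx : x ∈ WI p 𝔠) :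
    verschiebung x ∈ WI p 𝔠 := by
  rw [mem_WI] at hx ⊢
  intro n
  cases n with
  | zero => rw [verschiebung_coeff_zero]; exact Ideal.zero_mem _
  | succ n => rw [verschiebung_coeff_succ]; exact hx n

/-- The ideal `𝔟² + p𝔟`. -/
def nxt (p : ℕ) (𝔟 : Ideal S) : Ideal S := 𝔟 ^ 2 ⊔ Ideal.span {(p : S)} * 𝔟

omit hp in
theorem sq_le_nxt (𝔟 : Ideal S) : 𝔟 ^ 2 ≤ nxt p 𝔟 := le_sup_left

omit hp in
theorem nxt_le (𝔟 : Ideal S) : nxt p 𝔟 ≤ 𝔟 :=
  sup_le (Ideal.pow_le_self two_ne_zero) Ideal.mul_le_right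

theorem frobenius_mem_nxt {𝔟 : Ideal S} {x : WittVector p S} (hx : x ∈ WI p 𝔟) :
    WittVector.frobenius x ∈ WI p (nxt p 𝔟) := frobenius_mem_WI hx

theorem p_mul_mem_nxt {𝔟 : Ideal S} {x : WittVector p S} (hx : x ∈ WI p 𝔟) :
    (p : WittVector p S) * x ∈ WI p (nxt p 𝔟) := by
  rw [mul_comm, ← frobenius_verschiebung]
  exact frobenius_mem_nxt (verschiebung_mem_WI hx)

theorem verschiebung_mul_mem_nxt {𝔟 : Ideal S} {x : WittVector p S} (hx : x ∈ WI p 𝔟)
    (w : WittVector p S) : verschiebung w * x ∈ WI p (nxt p 𝔟) := by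
  rw [← verschiebung_mul_frobenius]
  exact verschiebung_mem_WI (Ideal.mul_mem_left _ _ (frobenius_mem_nxt hx))

theorem shift_mul_teichmuller_mem {𝔟 : Ideal S} {c : S} (hc : c ∈ 𝔟) (a : WittVector p S) :
    (a * teichmuller p c).shift 1 ∈ WI p (nxt p 𝔟) := by
  have h1 : a * teichmuller p c = teichmuller p (a.coeff 0 * c) +
      verschiebung (a.shift 1 * WittVector.frobenius (teichmuller p c)) := by
    conv_lhs => rw [eq_teichmuller_add_verschiebung a]
    rw [add_mul, map_mul, verschiebung_mul_frobenius]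
  have h2 : verschiebung (a.shift 1 * WittVector.frobenius (teichmuller p c)) ∈ WI p 𝔟 :=
    verschiebung_mem_WI (Ideal.mul_mem_left _ _ (frobenius_mem_WI_self (teichmuller_mem_WI hc)))
  have h3 := shift_add_sub_mem (teichmuller_mem_WI (p := p) (Ideal.mul_mem_left 𝔟 (a.coeff 0) hc)) h2
  rw [← h1, shift_teichmuller, shift_verschiebung, zero_add] at h3
  have h4 : a.shift 1 * WittVector.frobenius (teichmuller p c) ∈ WI p (nxt p 𝔟) :=
    Ideal.mul_mem_left _ _ (frobenius_mem_nxt (teichmuller_mem_WI hc))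
  have h5 := Ideal.add_mem _ (WI_mono (sq_le_nxt 𝔟) h3) h4
  rwa [sub_add_cancel] at h5

/-- The shift is Frobenius-semilinear modulo `W(𝔟² + p𝔟)` on `W(𝔟)`. -/
theorem shift_mul_sub_mem {𝔟 : Ideal S} {x : WittVector p S} (hx : x ∈ WI p 𝔟) (a : WittVector p S) :
    (a * x).shift 1 - WittVector.frobenius a * x.shift 1 ∈ WI p (nxt p 𝔟) := by
  have h1 : a * x = a * teichmuller p (x.coeff 0) + verschiebung (x.shift 1 * WittVector.frobenius a) := by
    conv_lhs => rw [eq_teichmuller_add_verschiebung x]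
    rw [mul_add, verschiebung_mul_frobenius, mul_comm a (verschiebung _)]
  have h2 : verschiebung (x.shift 1 * WittVector.frobenius a) ∈ WI p 𝔟 :=
    verschiebung_mem_WI (Ideal.mul_mem_right _ _ (shift_mem_WI hx 1))
  have h3 : a * teichmuller p (x.coeff 0) ∈ WI p 𝔟 :=
    Ideal.mul_mem_left _ _ (teichmuller_mem_WI (mem_WI.1 hx 0))
  have h4 := WI_mono (sq_le_nxt (p := p) 𝔟) (shift_add_sub_mem h3 h2)
  rw [← h1, shift_verschiebung] at h4
  have h5 := Ideal.add_mem _ h4 (shift_mul_teichmuller_mem (mem_WI.1 hx 0) a)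
  convert h5 using 1
  ring

theorem shift_mul_sub_mem' {𝔟 : Ideal S} {x : WittVector p S} (hx : x ∈ WI p 𝔟) (a : WittVector p S) :
    (x * a).shift 1 - x.shift 1 * WittVector.frobenius a ∈ WI p (nxt p 𝔟) := by
  rw [mul_comm x a, mul_comm (x.shift 1)]
  exact shift_mul_sub_mem hx a

omit hp in
/-- The iterates of `nxt` vanish when `𝔟` and `p` are nilpotent. -/
theorem iterate_nxt_le (𝔟 : Ideal S) (k : ℕ) :
    (nxt p)^[k] 𝔟 ≤ (𝔟 ⊔ Ideal.span {(p : S)}) ^ (k + 1) := by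
  induction k with
  | zero => simp
  | succ k ih =>
    rw [Function.iterate_succ_apply']
    refine sup_le ?_ ?_
    · refine (Ideal.pow_right_mono ih 2).trans ?_
      rw [← pow_mul]
      exact Ideal.pow_le_pow_right (by omega)
    · rw [pow_succ']
      exact Ideal.mul_mono le_sup_right ih

omit hp in
theorem exists_iterate_nxt_eq_bot (hpn : IsNilpotent (p : S)) {𝔟 : Ideal S} (h𝔟 : IsNilpotent 𝔟) :
    ∃ k, (nxt p)^[k] 𝔟 = ⊥ := by
  have h1 : IsNilpotent (Ideal.span {(p : S)}) := by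
    obtain ⟨a, ha⟩ := hpn
    exact ⟨a, by rw [Ideal.span_singleton_pow, ha, Ideal.span_singleton_zero]; rfl⟩
  have h2 : IsNilpotent (𝔟 ⊔ Ideal.span {(p : S)}) := by
    rw [← Ideal.add_eq_sup]
    exact (Commute.all _ _).isNilpotent_add h𝔟 h1
  obtain ⟨k, hk⟩ := h2
  refine ⟨k, ?_⟩
  rw [eq_bot_iff]
  refine (iterate_nxt_le 𝔟 k).trans ?_
  rw [pow_succ, hk, zero_mul]
  exact le_rfl

end K789.WittAdd
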